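import Cfsg.Agent.Lib.Helper44.LawBasics
import Cfsg.Prelude.Def_Classical

set_option autoImplicit false

namespace Cfsg.Agent.Lib.Helper44

open Matrix

variable {F : Type*} [Field F] {K : Type*} [Group K]

section General
variable {n n' : Type*} [Fintype n] [DecidableEq n] [Fintype n'] [DecidableEq n']

/-- hyperbolic doubling of a matrix representation -/
def hypHom (ρ : K →* Matrix n n F) : K →* Matrix (n ⊕ n) (n ⊕ n) F where
  toFun k := Matrix.fromBlocks (ρ k) 0 0 (ρ k⁻¹)ᵀ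
  map_one' := by simp [Matrix.fromBlocks_one]
  map_mul' a b := by simp [Matrix.fromBlocks_multiply, Matrix.transpose_mul]

/-- adding an identity block on the left -/
def padL (n' : Type*) [Fintype n'] [DecidableEq n'] (ρ : K →* Matrix n n F) :
    K →* Matrix (n' ⊕ n) (n' ⊕ n) F where
  toFun k := Matrix.fromBlocks 1 0 0 (ρ k)
  map_one' := by simp [Matrix.fromBlocks_one]
  map_mul' a b := by simp [Matrix.fromBlocks_multiply]

/-- adding an identity block on the right -/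
def padR (n' : Type*) [Fintype n'] [DecidableEq n'] (ρ : K →* Matrix n n F) :
    K →* Matrix (n ⊕ n') (n ⊕ n') F where
  toFun k := Matrix.fromBlocks (ρ k) 0 0 1
  map_one' := by simp [Matrix.fromBlocks_one]
  map_mul' a b := by simp [Matrix.fromBlocks_multiply]

theorem hypHom_injective (ρ : K →* Matrix n n F) (h : Function.Injective ρ) :
    Function.Injective (hypHom ρ) := by
  intro a b hab
  exact h (Matrix.fromBlocks_inj.1 hab).1

theorem padL_injective (ρ : K →* Matrix n n F) (h : Function.Injective ρ) :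
    Function.Injective (padL n' ρ) := by
  intro a b hab
  exact h (Matrix.fromBlocks_inj.1 hab).2.2.2

theorem padR_injective (ρ : K →* Matrix n n F) (h : Function.Injective ρ) :
    Function.Injective (padR n' ρ) := by
  intro a b hab
  exact h (Matrix.fromBlocks_inj.1 hab).1

theorem hyp_dot (ρ : K →* Matrix n n F) (k : K) (x y : n → F) :
    (ρ k *ᵥ x) ⬝ᵥ ((ρ k⁻¹)ᵀ *ᵥ y) = x ⬝ᵥ y := by
  rw [Matrix.dotProduct_mulVec, Matrix.vecMul_transpose, Matrix.mulVec_mulVec, ← map_mul,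
    inv_mul_cancel, map_one, Matrix.one_mulVec]

theorem hypHom_mulVec_inl (ρ : K →* Matrix n n F) (k : K) (v : n ⊕ n → F) (i : n) :
    (hypHom ρ k *ᵥ v) (Sum.inl i) = (ρ k *ᵥ (v ∘ Sum.inl)) i := by
  show (Matrix.fromBlocks (ρ k) 0 0 (ρ k⁻¹)ᵀ *ᵥ v) (Sum.inl i) = _
  rw [Matrix.fromBlocks_mulVec]
  simp

theorem hypHom_mulVec_inr (ρ : K →* Matrix n n F) (k : K) (v : n ⊕ n → F) (i : n) :
    (hypHom ρ k *ᵥ v) (Sum.inr i) = ((ρ k⁻¹)ᵀ *ᵥ (v ∘ Sum.inr)) i := by
  show (Matrix.fromBlocks (ρ k) 0 0 (ρ k⁻¹)ᵀ *ᵥ v) (Sum.inr i) = _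
  rw [Matrix.fromBlocks_mulVec]
  simp

theorem hyp_sum (ρ : K →* Matrix n n F) (k : K) (v : n ⊕ n → F) :
    ∑ i, (hypHom ρ k *ᵥ v) (Sum.inl i) * (hypHom ρ k *ᵥ v) (Sum.inr i) =
      ∑ i, v (Sum.inl i) * v (Sum.inr i) := by
  simp only [hypHom_mulVec_inl, hypHom_mulVec_inr]
  exact hyp_dot ρ k (v ∘ Sum.inl) (v ∘ Sum.inr)

theorem padL_mulVec_inl (ρ : K →* Matrix n n F) (k : K) (v : n' ⊕ n → F) (i : n') :
    (padL n' ρ k *ᵥ v) (Sum.inl i) = v (Sum.inl i) := by
  show (Matrix.fromBlocks 1 0 0 (ρ k) *ᵥ v) (Sum.inl i) = _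
  rw [Matrix.fromBlocks_mulVec]
  simp

theorem padL_mulVec_inr (ρ : K →* Matrix n n F) (k : K) (v : n' ⊕ n → F) (i : n) :
    (padL n' ρ k *ᵥ v) (Sum.inr i) = (ρ k *ᵥ (v ∘ Sum.inr)) i := by
  show (Matrix.fromBlocks 1 0 0 (ρ k) *ᵥ v) (Sum.inr i) = _
  rw [Matrix.fromBlocks_mulVec]
  simp

theorem padR_mulVec_inl (ρ : K →* Matrix n n F) (k : K) (v : n ⊕ n' → F) (i : n) :
    (padR n' ρ k *ᵥ v) (Sum.inl i) = (ρ k *ᵥ (v ∘ Sum.inl)) i := by
  show (Matrix.fromBlocks (ρ k) 0 0 1 *ᵥ v) (Sum.inl i) = _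
  rw [Matrix.fromBlocks_mulVec]
  simp

theorem padR_mulVec_inr (ρ : K →* Matrix n n F) (k : K) (v : n ⊕ n' → F) (i : n') :
    (padR n' ρ k *ᵥ v) (Sum.inr i) = v (Sum.inr i) := by
  show (Matrix.fromBlocks (ρ k) 0 0 1 *ᵥ v) (Sum.inr i) = _
  rw [Matrix.fromBlocks_mulVec]
  simp

/-- into the special linear group, for perfect groups -/
def slHom (ρ : K →* Matrix n n F) (hK : commutator K = ⊤) : K →* Matrix.SpecialLinearGroup n F where
  toFun k := ⟨ρ k, hom_comm_trivial_of_perfect (Matrix.detMonoidHom.comp ρ) hK k⟩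
  map_one' := Subtype.ext (map_one ρ)
  map_mul' a b := Subtype.ext (map_mul ρ a b)

theorem slHom_injective (ρ : K →* Matrix n n F) (hK : commutator K = ⊤)
    (h : Function.Injective ρ) : Function.Injective (slHom ρ hK) := by
  intro a b hab
  exact h (congrArg Subtype.val hab)

/-- into the symplectic group -/
def spHom (ρ : K →* Matrix n n F) : K →* Matrix.symplecticGroup n F :=
  (hypHom ρ).codRestrict _ (by
    intro k
    show Matrix.fromBlocks (ρ k) 0 0 (ρ k⁻¹)ᵀ ∈ _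
    rw [SymplecticGroup.fromBlocks_mem_iff]
    refine ⟨by simp, by simp, ?_⟩
    rw [← Matrix.transpose_mul, ← map_mul, inv_mul_cancel]
    simp)

theorem spHom_injective (ρ : K →* Matrix n n F) (h : Function.Injective ρ) :
    Function.Injective (spHom ρ) := by
  intro a b hab
  exact hypHom_injective ρ h (congrArg Subtype.val hab)

end General

section Iso
variable {ι : Type} [Fintype ι] [DecidableEq ι]

/-- into an isometry group -/
def isoHom (Q : (ι → F) → F) (ρ : K →* Matrix ι ι F) (h : ∀ k v, Q (ρ k *ᵥ v) = Q v) :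
    K →* Cfsg.isometryGroup F Q :=
  ρ.toHomUnits.codRestrict _ (by
    intro k u v
    exact h k u)

theorem isoHom_injective (Q : (ι → F) → F) (ρ : K →* Matrix ι ι F)
    (h : ∀ k v, Q (ρ k *ᵥ v) = Q v) (hρ : Function.Injective ρ) :
    Function.Injective (isoHom Q ρ h) := by
  intro a b hab
  apply hρ
  have h1 := congrArg (fun x => ((x : Cfsg.isometryGroup F Q).1 : Matrix ι ι F)) hab
  exact h1

/-- a perfect group with a faithful isometric representation embeds into Omega -/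
theorem claw_of_omega {w : FreeGroup ℕ} (Q : (ι → F) → F) (ρ : K →* Matrix ι ι F)
    (h : ∀ k v, Q (ρ k *ᵥ v) = Q v) (hρ : Function.Injective ρ) (hK : commutator K = ⊤)
    (hw : CLaw w (Cfsg.Omega F Q)) : CLaw w K :=
  hw.of_injective (toCommutator (isoHom Q ρ h) hK)
    (toCommutator_injective _ hK (isoHom_injective Q ρ h hρ))

end Iso

section Families
variable {m : ℕ}

theorem quadPlus_inv (ρ : K →* Matrix (Fin m) (Fin m) F) (k : K) (v : Fin m ⊕ Fin m → F) :
    Cfsg.quadFormPlus m F (hypHom ρ k *ᵥ v) = Cfsg.quadFormPlus m F v :=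
  hyp_sum ρ k v

theorem quadOdd_inv (ρ : K →* Matrix (Fin m) (Fin m) F) (k : K)
    (v : Unit ⊕ (Fin m ⊕ Fin m) → F) :
    Cfsg.quadFormOdd m F (padL Unit (hypHom ρ) k *ᵥ v) = Cfsg.quadFormOdd m F v := by
  unfold Cfsg.quadFormOdd
  simp only [padL_mulVec_inl, padL_mulVec_inr]
  rw [hyp_sum ρ k (v ∘ Sum.inr)]
  rfl

theorem quadMinus_inv (a b : F) (ρ : K →* Matrix (Fin m) (Fin m) F) (k : K)
    (v : (Fin m ⊕ Fin m) ⊕ Fin 2 → F) :
    Cfsg.quadFormMinus m F a b (padR (Fin 2) (hypHom ρ) k *ᵥ v) = Cfsg.quadFormMinus m F a b v := by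
  unfold Cfsg.quadFormMinus
  simp only [padR_mulVec_inl, padR_mulVec_inr]
  rw [hyp_sum ρ k (v ∘ Sum.inl)]
  rfl

end Families

end Cfsg.Agent.Lib.Helper44
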