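import Cfsg.Agent.Lib.Helper44.GL2Types
import Cfsg.Agent.Lib.Helper19.IndChar

set_option autoImplicit false

namespace Cfsg.Agent.Lib.Helper44

open Matrix Cfsg
open scoped ComplexConjugate

theorem exists_unique_of_sum_eq_one {ι : Type*} [Fintype ι] [DecidableEq ι] (n : ι → ℕ) (h : ∑ i, n i = 1) :
    ∃ i₀, n i₀ = 1 ∧ ∀ i, i ≠ i₀ → n i = 0 := by
  have h1 : ∃ i₀, n i₀ ≠ 0 := by
    by_contra hcon
    push Not at hcon
    simp [hcon] at h
  obtain ⟨i₀, hi₀⟩ := h1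
  rw [← Finset.add_sum_erase _ _ (Finset.mem_univ i₀)] at h
  have h2 : ∑ i ∈ Finset.univ.erase i₀, n i = 0 := by omega
  refine ⟨i₀, by omega, ?_⟩
  intro i hi
  exact (Finset.sum_eq_zero_iff.mp h2) i (Finset.mem_erase.mpr ⟨hi, Finset.mem_univ _⟩)

theorem mulChar_norm_unit {F : Type*} [Field F] [Finite F] (α : MulChar F ℂ) (a : Fˣ) : ‖α a‖ = 1 := by
  have h : α a * conj (α a) = 1 := by
    rw [show conj (α a) = α⁻¹ a from MulChar.star_apply' α a, ← MulChar.mul_apply, mul_inv_cancel,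
      MulChar.one_apply a.isUnit]
  rw [Complex.mul_conj, Complex.normSq_eq_norm_sq] at h
  have h2 : ‖α a‖ ^ 2 = 1 := by exact_mod_cast h
  have h3 : 0 ≤ ‖α a‖ := norm_nonneg _
  nlinarith

variable {F : Type*} [Field F]

theorem gl2_isConj_tri {a d : Fˣ} (h : a ≠ d) (x : F) : IsConj (triGL a d x) (triGL a d 0) := by
  rw [isConj_comm, isConj_iff]
  have hne : (d : F) - a ≠ 0 := sub_ne_zero.mpr (fun e => h (Units.ext e.symm))
  refine ⟨triGL 1 1 (x / ((d : F) - a)), ?_⟩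
  rw [mul_inv_eq_iff_eq_mul]
  apply Units.ext
  ext i j; fin_cases i <;> fin_cases j <;> simp [Matrix.mul_apply, Fin.sum_univ_two]
  field_simp
  ring

theorem gl2_eq_triGL {g : GL (Fin 2) F} (h10 : (g : Matrix (Fin 2) (Fin 2) F) 1 0 = 0) :
    ∃ a d : Fˣ, (a : F) = (g : Matrix (Fin 2) (Fin 2) F) 0 0 ∧ (d : F) = (g : Matrix (Fin 2) (Fin 2) F) 1 1 ∧
      g = triGL a d ((g : Matrix (Fin 2) (Fin 2) F) 0 1) := by
  have hd := g.det_ne_zero
  rw [Matrix.det_fin_two, h10, mul_zero, sub_zero] at hd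
  refine ⟨Units.mk0 _ (left_ne_zero_of_mul hd), Units.mk0 _ (right_ne_zero_of_mul hd), rfl, rfl, ?_⟩
  apply Units.ext
  ext i j; fin_cases i <;> fin_cases j <;> simp [h10]

section fin

variable [Fintype F] [DecidableEq F]

theorem isCharacter_RGL (α β : MulChar F ℂ) :
    IsCharacter _ (indFun (upperTriangularGL 2 F) (borelHomGL α β)) :=
  Cfsg.Agent.Lib.Helper19.isCharacter_indFun _ _ (isCharacter_monoidHom _)

theorem RGL_one (α β : MulChar F ℂ) :
    indFun (upperTriangularGL 2 F) (borelHomGL α β) 1 = (Fintype.card F : ℂ) + 1 := by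
  have h := indFun_borelGL_scalar α β 1
  have h1 : triGL (1 : Fˣ) 1 (0 : F) = 1 := (uGLc (F := F)).map_zero_eq_one
  rw [h1] at h
  rw [h]
  simp

theorem gl2_jacquet_regular {χ : GL (Fin 2) F → ℂ} (hχ : IsClassFunction _ χ) {a d : Fˣ} (h : a ≠ d) :
    ∑ α : MulChar F ℂ, ∑ β : MulChar F ℂ,
      classInner χ (indFun (upperTriangularGL 2 F) (borelHomGL α β)) * (α a * β d) = χ (triGL a d 0) := by
  rw [jacquet_GL χ hχ]
  simp only [Cfsg.Agent.Lib.Helper20.isClassFunction_isConj hχ (gl2_isConj_tri h _), Finset.sum_const,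
    Finset.card_univ, nsmul_eq_mul]
  rw [← mul_assoc, inv_mul_cancel₀ card_F_ne_zero, one_mul]

/-- The multiplicities of a character of `GL₂` in the principal series. -/
theorem gl2_exists_r {χ : GL (Fin 2) F → ℂ} (hχ : IsCharacter _ χ) :
    ∃ r : MulChar F ℂ × MulChar F ℂ → ℕ,
      (∀ p, classInner χ (indFun (upperTriangularGL 2 F) (borelHomGL p.1 p.2)) = r p) ∧
      ((Fintype.card F : ℂ)⁻¹ * ∑ x : F, χ (triGL 1 1 x) = ((∑ p, r p : ℕ) : ℂ)) ∧
      (∀ a d : Fˣ, a ≠ d → χ (triGL a d 0) = ∑ p, (r p : ℂ) * (p.1 a * p.2 d)) := by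
  choose r hr using fun p : MulChar F ℂ × MulChar F ℂ =>
    Cfsg.Agent.Lib.Helper20.isCharacter_classInner_nat' hχ (isCharacter_RGL p.1 p.2)
  have hcl := Cfsg.Agent.Lib.Helper20.isClassFunction_of_isCharacter hχ
  refine ⟨r, hr, ?_, ?_⟩
  · rw [← jacquet_GL χ hcl 1 1, ← Fintype.sum_prod_type']
    push_cast
    apply Finset.sum_congr rfl
    intro p _
    rw [hr]
    simp
  · intro a d h
    rw [← gl2_jacquet_regular hcl h, ← Fintype.sum_prod_type']
    apply Finset.sum_congr rfl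
    intro p _
    rw [hr]

theorem gl2_exists_add_of_r {χ : GL (Fin 2) F → ℂ} (hχ : IsIrrCharacter _ χ) {α β : MulChar F ℂ}
    (h : classInner χ (indFun (upperTriangularGL 2 F) (borelHomGL α β)) ≠ 0) :
    ∃ φ : GL (Fin 2) F → ℂ, IsCharacter _ φ ∧ indFun (upperTriangularGL 2 F) (borelHomGL α β) = χ + φ := by
  apply exists_add_of_classInner_ne_zero (isCharacter_RGL α β) hχ
  rw [← Cfsg.Agent.Lib.Helper20.classInner_conj_symm]
  simpa using h

end fin

end Cfsg.Agent.Lib.Helper44
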