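import Cfsg.Agent.Lib.Helper44.Kernel
import Cfsg.Agent.S2330

set_option autoImplicit false

namespace Cfsg.Agent.Lib.Helper44

open Matrix Cfsg
open scoped ComplexConjugate

theorem exists_primitive_addChar (F : Type*) [Field F] [Finite F] : ∃ ψ : AddChar F ℂ, ψ.IsPrimitive := by
  obtain ⟨ψ, hψ⟩ := (AddChar.exists_apply_ne_zero (α := F) (a := 1)).mpr one_ne_zero
  refine ⟨ψ, AddChar.IsPrimitive.of_ne_one ?_⟩
  rintro rfl
  simp at hψ

theorem le_one_of_sum_sq {ι : Type*} [Fintype ι] (m : ι → ℕ) [DecidablePred fun i => m i = 0]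
    (h : ∑ i, m i ^ 2 + Fintype.card {i // m i = 0} ≤ Fintype.card ι) : ∀ i, m i ≤ 1 := by
  by_contra hcon
  push Not at hcon
  obtain ⟨i, hi⟩ := hcon
  have h1 : Fintype.card {i // m i = 0} = ∑ i, if m i = 0 then 1 else 0 := by
    rw [Fintype.card_subtype]
    simp
  rw [h1, ← Finset.sum_add_distrib] at h
  have h2 : ∑ _j : ι, 1 < ∑ j, (m j ^ 2 + if m j = 0 then 1 else 0) := by
    apply Finset.sum_lt_sum
    · intro j _
      by_cases hj : m j = 0
      · simp [hj]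
      · have : 1 ≤ m j := Nat.one_le_iff_ne_zero.mpr hj
        have : 1 ≤ m j ^ 2 := Nat.one_le_pow _ _ this
        omega
    · refine ⟨i, Finset.mem_univ _, ?_⟩
      have : 2 ^ 2 ≤ m i ^ 2 := Nat.pow_le_pow_left hi 2
      omega
  simp at h2
  omega

variable {F : Type*} [Field F]

theorem gl2_isConj_u {k : F} (hk : k ≠ 0) (x : F) : IsConj (uGLc x) (uGLc (k * x)) := by
  rw [isConj_iff]
  refine ⟨triGL (Units.mk0 k hk) 1 0, ?_⟩
  rw [mul_inv_eq_iff_eq_mul]
  apply Units.ext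
  ext i j; fin_cases i <;> fin_cases j <;> simp [Matrix.mul_apply, Fin.sum_univ_two]

section fin

variable [Fintype F] [DecidableEq F]

omit [DecidableEq F] in
theorem gl2_mS_eq {ψ : AddChar F ℂ} {χ : GL (Fin 2) F → ℂ} (hχ : IsClassFunction _ χ) {s : F} (hs : s ≠ 0) :
    mS ψ uGLc χ s = mS ψ uGLc χ 1 := by
  have := mS_mul_of_isConj ψ uGLc hχ hs (gl2_isConj_u hs) 1
  rwa [one_mul] at this

theorem gl2_mS_one_le {ψ : AddChar F ℂ} (hψ : ψ.IsPrimitive) (χ : IrrCharacter (GL (Fin 2) F)) :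
    mS ψ uGLc χ 1 = 0 ∨ mS ψ uGLc χ 1 = 1 := by
  classical
  have hch : ∀ χ : IrrCharacter (GL (Fin 2) F), IsCharacter _ (χ : GL (Fin 2) F → ℂ) :=
    fun χ => Cfsg.Agent.Lib.Helper82.isIrr_isChar χ.2
  choose m hm using fun χ : IrrCharacter (GL (Fin 2) F) => mS_nat ψ uGLc (hch χ) 1
  have hq : 1 ≤ Fintype.card F := Fintype.card_pos
  have h1 : ∑ χ, m χ ^ 2 = (Fintype.card F - 1) ^ 2 + (Fintype.card F - 1) := by
    have := gram_GL hψ (1 : F) 1
    simp only [hm, Complex.conj_natCast, one_mul] at this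
    have h2 : ∀ a : Fˣ, ∑ d : Fˣ, (if (a : F) / d = 1 then (1 : ℂ) else 0) = 1 := by
      intro a
      rw [Finset.sum_eq_single a]
      · simp
      · intro d _ hd
        rw [if_neg]
        intro h
        rw [div_eq_one_iff_eq d.ne_zero] at h
        exact hd (Units.ext h.symm)
      · intro h; exact absurd (Finset.mem_univ _) h
    simp only [h2, Finset.sum_const, Finset.card_univ, Fintype.card_units, nsmul_eq_mul, mul_one] at this
    have h3 : ((∑ χ, m χ ^ 2 : ℕ) : ℂ) = (((Fintype.card F - 1) ^ 2 + (Fintype.card F - 1) : ℕ) : ℂ) := by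
      rw [Nat.cast_sub hq, Nat.cast_one] at this
      push_cast [Nat.cast_sub hq]
      rw [← this]
      apply Finset.sum_congr rfl
      intro χ _
      ring
    exact_mod_cast h3
  have h2 : Fintype.card {χ // m χ = 0} ≤ Fintype.card F - 1 := by
    rw [← Nat.card_eq_fintype_card, ← Nat.card_eq_fintype_card (α := F)]
    refine le_trans ?_ gl2_card_U_trivial_le
    have : Finite (IrrCharacter (GL (Fin 2) F)) := Cfsg.Agent.Lib.Helper20.finite_irrCharacter
    refine Nat.card_le_card_of_injective (fun χ => ⟨χ.1, ?_⟩) ?_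
    · intro x
      have h0 : ∀ s : F, s ≠ 0 → mS ψ uGLc (χ.1 : GL (Fin 2) F → ℂ) s = 0 := by
        intro s hs
        rw [gl2_mS_eq (Cfsg.Agent.Lib.Helper20.isClassFunction_of_isCharacter (hch χ.1)) hs, hm, χ.2]
        simp
      have e1 := apply_of_mS_uniform hψ uGLc (χ.1 : GL (Fin 2) F → ℂ) 0 h0 x
      have e2 := apply_of_mS_uniform hψ uGLc (χ.1 : GL (Fin 2) F → ℂ) 0 h0 0
      rw [AddChar.map_zero_eq_one] at e2
      rw [uGLc_apply] at e1
      rw [e1, e2, zero_mul, zero_mul]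
    · intro χ χ' h
      apply Subtype.ext
      exact congrArg (fun z => z.1) h
  have h3 : Fintype.card (IrrCharacter (GL (Fin 2) F)) = Fintype.card F ^ 2 - 1 := by
    rw [← Nat.card_eq_fintype_card, Cfsg.Agent.Lib.Helper20.card_irrCharacter, Cfsg.Agent.S2330.result]
  have h4 := le_one_of_sum_sq m (by
    rw [h1, h3]
    obtain ⟨k, hk⟩ := Nat.exists_eq_add_of_le hq
    rw [hk] at h2 ⊢
    have e1 : 1 + k - 1 = k := by omega
    rw [e1] at h2 ⊢
    have : (1 + k) ^ 2 = k ^ 2 + k + k + 1 := by ring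
    omega) χ
  rw [hm]
  interval_cases (m χ) <;> simp

/-- The possible restrictions to the unipotent subgroup of an irreducible character of `GL₂`. -/
theorem gl2_types {χ : GL (Fin 2) F → ℂ} (hχ : IsIrrCharacter _ χ) :
    ∃ m₀ m₁ : ℕ, m₁ ≤ 1 ∧ (Fintype.card F : ℂ)⁻¹ * ∑ x : F, χ (triGL 1 1 x) = m₀ ∧
      χ 1 = m₀ + ((Fintype.card F : ℂ) - 1) * m₁ ∧ (∀ x : F, x ≠ 0 → χ (triGL 1 1 x) = m₀ - m₁) ∧
      (m₁ = 0 → χ 1 = 1) := by
  obtain ⟨ψ, hψ⟩ := exists_primitive_addChar F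
  have hch := Cfsg.Agent.Lib.Helper82.isIrr_isChar hχ
  obtain ⟨m₀, h0⟩ := mS_nat ψ uGLc hch 0
  obtain ⟨m₁, h1⟩ := mS_nat ψ uGLc hch 1
  have hun : ∀ s : F, s ≠ 0 → mS ψ uGLc χ s = m₁ := by
    intro s hs
    rw [gl2_mS_eq (Cfsg.Agent.Lib.Helper20.isClassFunction_of_isCharacter hch) hs, h1]
  have hval := apply_of_mS_uniform hψ uGLc χ m₁ hun
  have hdeg : χ 1 = m₀ + ((Fintype.card F : ℂ) - 1) * m₁ := by
    have := hval 0
    rw [AddChar.map_zero_eq_one, if_pos rfl, h0] at this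
    rw [this]; ring
  have hu : ∀ x : F, x ≠ 0 → χ (triGL 1 1 x) = m₀ - m₁ := by
    intro x hx
    have := hval x
    rw [if_neg hx, h0, uGLc_apply] at this
    rw [this]; ring
  refine ⟨m₀, m₁, ?_, ?_, hdeg, hu, ?_⟩
  · rcases gl2_mS_one_le hψ ⟨χ, hχ⟩ with h | h
    · rw [h1] at h
      have : m₁ = 0 := by exact_mod_cast h
      omega
    · rw [h1] at h
      have : m₁ = 1 := by exact_mod_cast h
      omega
  · rw [← h0]
    simp [mS]
  · intro hm
    apply gl2_linear_of_U hχ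
    intro x
    by_cases hx : x = 0
    · subst hx
      have := (uGLc (F := F)).map_zero_eq_one
      rw [uGLc_apply] at this
      rw [this]
    · rw [hu x hx, hdeg, hm]
      simp

end fin

end Cfsg.Agent.Lib.Helper44
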