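import Cfsg.Agent.Lib.Helper44.PSInner
import Cfsg.Agent.Lib.Helper20.CharOrth

set_option autoImplicit false

namespace Cfsg.Agent.Lib.Helper44

open Matrix Cfsg
open scoped ComplexConjugate

variable {F : Type*} [Field F] [Fintype F] [DecidableEq F]

theorem mulChar_dual_orth' (a a' : Fˣ) :
    ∑ α : MulChar F ℂ, α a * conj (α a') = if a = a' then ((Fintype.card F : ℂ) - 1) else 0 := by
  have h : ∀ α : MulChar F ℂ, α a * conj (α a') = α ((a * a'⁻¹ : Fˣ) : F) := by
    intro α
    rw [mulChar_conj_apply, MulChar.inv_apply', Units.val_mul, map_mul]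
    simp
  rw [Finset.sum_congr rfl (fun α _ => h α), mulChar_dual_orth]
  simp only [mul_inv_eq_one]

theorem classInner_right_PS_GL (χ : GL (Fin 2) F → ℂ) (hχ : IsClassFunction _ χ) (α β : MulChar F ℂ) :
    classInner χ (indFun (upperTriangularGL 2 F) (borelHomGL α β)) =
      ((Fintype.card F : ℂ) * ((Fintype.card F : ℂ) - 1) ^ 2)⁻¹ *
      ∑ a : Fˣ, ∑ d : Fˣ, ∑ x : F, χ (triGL a d x) * conj (α a * β d) := by
  classical
  have := Fintype.ofFinite ↥(upperTriangularGL 2 F)
  rw [← Cfsg.Agent.Lib.Helper20.classInner_conj_symm, Cfsg.Agent.Lib.Helper19.frobenius_reciprocity _ _ _ hχ,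
    Cfsg.Agent.Lib.Helper20.classInner_conj_symm]
  unfold classInner
  rw [sum_borelGL, card_borelGL]
  congr 1
  · push_cast [Nat.cast_sub (Fintype.card_pos (α := F))]
    ring

theorem classInner_right_PS_SL (χ : SpecialLinearGroup (Fin 2) F → ℂ) (hχ : IsClassFunction _ χ) (α : MulChar F ℂ) :
    classInner χ (indFun (borelSL F) (borelHomSL α)) =
      ((Fintype.card F : ℂ) * ((Fintype.card F : ℂ) - 1))⁻¹ *
      ∑ a : Fˣ, ∑ x : F, χ (triSL a x) * conj (α a) := by
  classical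
  have := Fintype.ofFinite ↥(borelSL F)
  rw [← Cfsg.Agent.Lib.Helper20.classInner_conj_symm, Cfsg.Agent.Lib.Helper19.frobenius_reciprocity _ _ _ hχ,
    Cfsg.Agent.Lib.Helper20.classInner_conj_symm]
  unfold classInner
  rw [sum_borelSL, card_borelSL]
  congr 1
  · push_cast [Nat.cast_sub (Fintype.card_pos (α := F))]
    ring

/-- Fourier inversion on the torus for the "Jacquet module" of a class function of `SL₂`. -/
theorem jacquet_SL (χ : SpecialLinearGroup (Fin 2) F → ℂ) (hχ : IsClassFunction _ χ) (a : Fˣ) :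
    ∑ α : MulChar F ℂ, classInner χ (indFun (borelSL F) (borelHomSL α)) * α a =
      (Fintype.card F : ℂ)⁻¹ * ∑ x : F, χ (triSL a x) := by
  simp only [classInner_right_PS_SL χ hχ, ← Finset.sum_mul]
  have h1 : ∀ α : MulChar F ℂ, ((Fintype.card F : ℂ) * ((Fintype.card F : ℂ) - 1))⁻¹ *
      (∑ a' : Fˣ, (∑ x : F, χ (triSL a' x)) * conj (α a')) * α a =
      ((Fintype.card F : ℂ) * ((Fintype.card F : ℂ) - 1))⁻¹ *
      ∑ a' : Fˣ, (∑ x : F, χ (triSL a' x)) * (α a * conj (α a')) := by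
    intro α
    rw [mul_assoc, Finset.sum_mul]
    congr 1
    apply Finset.sum_congr rfl; intro a' _
    ring
  rw [Finset.sum_congr rfl (fun α _ => h1 α), ← Finset.mul_sum, Finset.sum_comm]
  simp only [← Finset.mul_sum, mulChar_dual_orth']
  rw [Finset.sum_eq_single a]
  · rw [if_pos rfl]
    have hq := card_F_ne_zero (F := F)
    have hq1 := card_F_sub_one_ne_zero (F := F)
    field_simp
  · intro b _ hb
    rw [if_neg (Ne.symm hb), mul_zero]
  · intro h; exact absurd (Finset.mem_univ _) h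

/-- Fourier inversion on the torus for the "Jacquet module" of a class function of `GL₂`. -/
theorem jacquet_GL (χ : GL (Fin 2) F → ℂ) (hχ : IsClassFunction _ χ) (a d : Fˣ) :
    ∑ α : MulChar F ℂ, ∑ β : MulChar F ℂ,
      classInner χ (indFun (upperTriangularGL 2 F) (borelHomGL α β)) * (α a * β d) =
      (Fintype.card F : ℂ)⁻¹ * ∑ x : F, χ (triGL a d x) := by
  simp only [classInner_right_PS_GL χ hχ, ← Finset.sum_mul]
  have h1 : ∀ α β : MulChar F ℂ, ((Fintype.card F : ℂ) * ((Fintype.card F : ℂ) - 1) ^ 2)⁻¹ *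
      (∑ a' : Fˣ, ∑ d' : Fˣ, (∑ x : F, χ (triGL a' d' x)) * conj (α a' * β d')) * (α a * β d) =
      ((Fintype.card F : ℂ) * ((Fintype.card F : ℂ) - 1) ^ 2)⁻¹ *
      ∑ a' : Fˣ, ∑ d' : Fˣ, (∑ x : F, χ (triGL a' d' x)) * (α a * conj (α a')) * (β d * conj (β d')) := by
    intro α β
    rw [mul_assoc, Finset.sum_mul]
    congr 1
    apply Finset.sum_congr rfl; intro a' _
    rw [Finset.sum_mul]
    apply Finset.sum_congr rfl; intro d' _
    rw [map_mul]
    ring
  have h2 : ∀ α : MulChar F ℂ, ∑ β : MulChar F ℂ, ((Fintype.card F : ℂ) * ((Fintype.card F : ℂ) - 1) ^ 2)⁻¹ *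
      (∑ a' : Fˣ, ∑ d' : Fˣ, (∑ x : F, χ (triGL a' d' x)) * conj (α a' * β d')) * (α a * β d) =
      ((Fintype.card F : ℂ) * ((Fintype.card F : ℂ) - 1) ^ 2)⁻¹ *
      ∑ a' : Fˣ, (∑ x : F, χ (triGL a' d x)) * (α a * conj (α a')) * ((Fintype.card F : ℂ) - 1) := by
    intro α
    rw [Finset.sum_congr rfl (fun β _ => h1 α β), ← Finset.mul_sum, Finset.sum_comm]
    congr 1
    apply Finset.sum_congr rfl; intro a' _
    rw [Finset.sum_comm]
    simp only [← Finset.mul_sum, mulChar_dual_orth']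
    rw [Finset.sum_eq_single d]
    · rw [if_pos rfl]
    · intro b _ hb
      rw [if_neg (Ne.symm hb), mul_zero]
    · intro h; exact absurd (Finset.mem_univ _) h
  rw [Finset.sum_congr rfl (fun α _ => h2 α), ← Finset.mul_sum, Finset.sum_comm]
  have h3 : ∀ a' : Fˣ, ∑ α : MulChar F ℂ, (∑ x : F, χ (triGL a' d x)) * (α a * conj (α a')) * ((Fintype.card F : ℂ) - 1) =
      (∑ x : F, χ (triGL a' d x)) * (if a = a' then ((Fintype.card F : ℂ) - 1) else 0) * ((Fintype.card F : ℂ) - 1) := by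
    intro a'
    rw [← Finset.sum_mul, ← Finset.mul_sum, mulChar_dual_orth']
  rw [Finset.sum_congr rfl (fun a' _ => h3 a'), Finset.sum_eq_single a]
  · rw [if_pos rfl]
    have hq := card_F_ne_zero (F := F)
    have hq1 := card_F_sub_one_ne_zero (F := F)
    field_simp
  · intro b _ hb
    rw [if_neg (Ne.symm hb), mul_zero, zero_mul]
  · intro h; exact absurd (Finset.mem_univ _) h

end Cfsg.Agent.Lib.Helper44
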