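import Cfsg.Agent.Lib.Helper44.UConcrete
import Cfsg.Agent.Lib.Helper82.LinCount
import Cfsg.Agent.Lib.Helper82.Linear

set_option autoImplicit false

namespace Cfsg.Agent.Lib.Helper44

open Matrix Cfsg
open scoped ComplexConjugate

variable {F : Type*} [Field F]

/-- Lower unitriangular elements of `SL₂`. -/
def lSL (t : F) : SpecialLinearGroup (Fin 2) F := mkSL !![1, 0; t, 1] (by simp [Matrix.det_fin_two])

@[simp] theorem coe_lSL (t : F) :
    ((lSL t : SpecialLinearGroup (Fin 2) F) : Matrix (Fin 2) (Fin 2) F) = !![1, 0; t, 1] := rfl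

theorem lSL_eq_conj (t : F) : lSL t = repSL (some 0) * uSL (-t) * (repSL (some (0 : F)))⁻¹ := by
  rw [eq_mul_inv_iff_mul_eq]
  apply Subtype.ext
  ext i j; fin_cases i <;> fin_cases j <;>
    simp [repSL, wMat, Matrix.SpecialLinearGroup.coe_mul, Matrix.mul_apply, Fin.sum_univ_two]

theorem sl2_factor {g : SpecialLinearGroup (Fin 2) F} (hc : (g : Matrix (Fin 2) (Fin 2) F) 1 0 ≠ 0) :
    g = uSL (((g : Matrix (Fin 2) (Fin 2) F) 0 0 - 1) / (g : Matrix (Fin 2) (Fin 2) F) 1 0) *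
      lSL ((g : Matrix (Fin 2) (Fin 2) F) 1 0) *
      uSL (((g : Matrix (Fin 2) (Fin 2) F) 1 1 - 1) / (g : Matrix (Fin 2) (Fin 2) F) 1 0) := by
  have hd := g.det_coe
  rw [Matrix.det_fin_two] at hd
  apply Subtype.ext
  ext i j; fin_cases i <;> fin_cases j <;>
    simp [Matrix.SpecialLinearGroup.coe_mul, Matrix.mul_apply, Fin.sum_univ_two] <;> field_simp
  · ring
  · linear_combination -hd
  · ring

theorem sl2_normal_eq_top (N : Subgroup (SpecialLinearGroup (Fin 2) F)) [hN : N.Normal] (h : ∀ x : F, uSL x ∈ N) :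
    N = ⊤ := by
  have hl : ∀ t : F, lSL t ∈ N := by
    intro t
    rw [lSL_eq_conj]
    exact hN.conj_mem _ (h _) _
  have key : ∀ g : SpecialLinearGroup (Fin 2) F, (g : Matrix (Fin 2) (Fin 2) F) 1 0 ≠ 0 → g ∈ N := by
    intro g hc
    rw [sl2_factor hc]
    exact N.mul_mem (N.mul_mem (h _) (hl _)) (h _)
  rw [eq_top_iff]
  intro g _
  by_cases hc : (g : Matrix (Fin 2) (Fin 2) F) 1 0 = 0
  · have hd := g.det_coe
    rw [Matrix.det_fin_two, hc] at hd
    have h11 : (g : Matrix (Fin 2) (Fin 2) F) 1 1 ≠ 0 := by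
      intro h0
      rw [h0] at hd
      simp at hd
    have h1 : g * lSL 1 ∈ N := by
      apply key
      simp [Matrix.SpecialLinearGroup.coe_mul, Matrix.mul_apply, Fin.sum_univ_two, hc, h11]
    have h2 := N.mul_mem h1 (N.inv_mem (hl 1))
    simpa using h2
  · exact key g hc

theorem toGL_uSL (x : F) : Matrix.SpecialLinearGroup.toGL (uSL x) = triGL 1 1 x := by
  apply Units.ext
  ext i j; fin_cases i <;> fin_cases j <;> simp

section fin

variable [Finite F]

theorem sl2_char_const_of_U {χ : SpecialLinearGroup (Fin 2) F → ℂ} (hχ : IsCharacter _ χ)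
    (h : ∀ x : F, χ (uSL x) = χ 1) (g : SpecialLinearGroup (Fin 2) F) : χ g = χ 1 := by
  have := sl2_normal_eq_top (Cfsg.Agent.Lib.Helper82.charKer χ hχ) (fun x => h x)
  have hg : g ∈ Cfsg.Agent.Lib.Helper82.charKer χ hχ := by rw [this]; trivial
  exact hg

theorem gl2_char_toGL_of_U {χ : GL (Fin 2) F → ℂ} (hχ : IsCharacter _ χ)
    (h : ∀ x : F, χ (triGL 1 1 x) = χ 1) (s : SpecialLinearGroup (Fin 2) F) :
    χ (Matrix.SpecialLinearGroup.toGL s) = χ 1 := by
  have h1 := Cfsg.Agent.Lib.Helper20.isCharacter_comp_hom hχ (Matrix.SpecialLinearGroup.toGL (n := Fin 2) (R := F))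
  have h2 := sl2_char_const_of_U h1 (fun x => by
    simp only [Function.comp_apply, toGL_uSL, map_one]
    exact h x) s
  simpa using h2

omit [Finite F] in
theorem gl2_exists_toGL_of_det {g : GL (Fin 2) F} (h : (g : Matrix (Fin 2) (Fin 2) F).det = 1) :
    ∃ s : SpecialLinearGroup (Fin 2) F, Matrix.SpecialLinearGroup.toGL s = g :=
  ⟨mkSL g h, by apply Units.ext; rfl⟩

theorem gl2_linear_of_U {χ : GL (Fin 2) F → ℂ} (hχ : IsIrrCharacter _ χ)
    (h : ∀ x : F, χ (triGL 1 1 x) = χ 1) : χ 1 = 1 := by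
  rw [Cfsg.Agent.Lib.Helper82.isIrr_linear_iff hχ]
  intro x hx
  have h1 : x ∈ (Matrix.GeneralLinearGroup.det (n := Fin 2) (R := F)).ker :=
    Abelianization.commutator_subset_ker _ hx
  rw [MonoidHom.mem_ker] at h1
  have h2 : (x : Matrix (Fin 2) (Fin 2) F).det = 1 := by
    have := congrArg Units.val h1
    simpa using this
  obtain ⟨s, rfl⟩ := gl2_exists_toGL_of_det h2
  exact gl2_char_toGL_of_U (Cfsg.Agent.Lib.Helper82.isIrr_isChar hχ) h s

/-- The embedding `a ↦ diag(a, 1)`. -/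
def diagHom : Fˣ →* GL (Fin 2) F where
  toFun a := triGL a 1 0
  map_one' := by
    apply Units.ext
    ext i j; fin_cases i <;> fin_cases j <;> simp
  map_mul' a b := by
    apply Units.ext
    ext i j; fin_cases i <;> fin_cases j <;> simp [Matrix.mul_apply, Fin.sum_univ_two]

theorem gl2_apply_eq_of_U {χ : GL (Fin 2) F → ℂ} (hχ : IsCharacter _ χ)
    (h : ∀ x : F, χ (triGL 1 1 x) = χ 1) (g : GL (Fin 2) F) :
    χ g = χ (diagHom (Matrix.GeneralLinearGroup.det g)) := by
  have h2 : (((diagHom (Matrix.GeneralLinearGroup.det g))⁻¹ * g : GL (Fin 2) F) : Matrix (Fin 2) (Fin 2) F).det = 1 := by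
    have h3 : Matrix.GeneralLinearGroup.det ((diagHom (Matrix.GeneralLinearGroup.det g))⁻¹ * g) = 1 := by
      rw [map_mul, map_inv]
      have : Matrix.GeneralLinearGroup.det (diagHom (Matrix.GeneralLinearGroup.det g)) = Matrix.GeneralLinearGroup.det g := by
        apply Units.ext
        simp [diagHom, Matrix.det_fin_two]
      rw [this, inv_mul_cancel]
    have := congrArg Units.val h3
    simpa using this
  obtain ⟨s, hs⟩ := gl2_exists_toGL_of_det h2
  have h4 : g = diagHom (Matrix.GeneralLinearGroup.det g) * Matrix.SpecialLinearGroup.toGL s := by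
    rw [hs]; simp
  conv_lhs => rw [h4]
  exact Cfsg.Agent.Lib.Helper82.isChar_mul_of_mem_ker hχ (gl2_char_toGL_of_U hχ h s) _

theorem gl2_card_U_trivial_le :
    Nat.card {χ : IrrCharacter (GL (Fin 2) F) // ∀ x : F, (χ : GL (Fin 2) F → ℂ) (triGL 1 1 x) = (χ : GL (Fin 2) F → ℂ) 1} ≤
      Nat.card F - 1 := by
  have h1 : Nat.card (IrrCharacter Fˣ) = Nat.card F - 1 := by
    rw [Cfsg.Agent.Lib.Helper20.card_irrCharacter, ← Nat.card_congr (ConjClasses.mkEquiv (α := Fˣ)), Nat.card_units]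
  rw [← h1]
  have : Finite (IrrCharacter Fˣ) := Cfsg.Agent.Lib.Helper20.finite_irrCharacter
  refine Nat.card_le_card_of_injective (fun χ => ⟨(χ.1 : GL (Fin 2) F → ℂ) ∘ diagHom, ?_⟩) ?_
  · apply Cfsg.Agent.Lib.Helper82.isChar_linear_isIrr
    · exact Cfsg.Agent.Lib.Helper20.isCharacter_comp_hom (Cfsg.Agent.Lib.Helper82.isIrr_isChar χ.1.2) diagHom
    · simp only [Function.comp_apply, map_one]
      exact gl2_linear_of_U χ.1.2 χ.2
  · intro χ χ' hh
    apply Subtype.ext
    apply Subtype.ext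
    funext g
    rw [gl2_apply_eq_of_U (Cfsg.Agent.Lib.Helper82.isIrr_isChar χ.1.2) χ.2,
      gl2_apply_eq_of_U (Cfsg.Agent.Lib.Helper82.isIrr_isChar χ'.1.2) χ'.2]
    have := congrArg (fun f : IrrCharacter Fˣ => (f : Fˣ → ℂ) (Matrix.GeneralLinearGroup.det g)) hh
    exact this

end fin

end Cfsg.Agent.Lib.Helper44
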