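import Cfsg.Agent.Lib.Helper44.WordTorus

set_option autoImplicit false

namespace Cfsg.Agent.Lib.Helper44

theorem map_freeGroup_lift {ι G H : Type*} [Group G] [Group H] (ψ : G →* H) (f : ι → G)
    (w : FreeGroup ι) : ψ (FreeGroup.lift f w) = FreeGroup.lift (fun i => ψ (f i)) w := by
  have h : ψ.comp (FreeGroup.lift f) = FreeGroup.lift (fun i => ψ (f i)) := by
    apply FreeGroup.ext_hom
    intro i
    simp
  exact DFunLike.congr_fun h w

theorem lift_word_eq {ι G M : Type*} [Group G] [Monoid M] [DecidableEq ι] (φ : G →* M) (f : ι → G)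
    (A : ι × Bool → M) (h1 : ∀ i, φ (f i) = A (i, true))
    (h2 : ∀ i, A (i, true) * A (i, false) = 1) (w : FreeGroup ι) :
    φ (FreeGroup.lift f w) = (w.toWord.map A).prod := by
  have h3 : ∀ i, φ (f i)⁻¹ = A (i, false) := by
    intro i
    have e1 : φ (f i)⁻¹ * φ (f i) = 1 := by rw [← map_mul, inv_mul_cancel, map_one]
    calc φ (f i)⁻¹ = φ (f i)⁻¹ * (A (i, true) * A (i, false)) := by rw [h2, mul_one]
      _ = (φ (f i)⁻¹ * φ (f i)) * A (i, false) := by rw [h1, mul_assoc]
      _ = A (i, false) := by rw [e1, one_mul]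
  conv_lhs => rw [← FreeGroup.mk_toWord (x := w)]
  rw [FreeGroup.lift_mk, map_list_prod, List.map_map]
  congr 1
  apply List.map_congr_left
  rintro ⟨i, b⟩ _
  cases b
  · exact h3 i
  · exact h1 i

/-- A sequence of pairwise distinct points in a finite type. -/
theorem exists_points (F : Type*) [Fintype F] [Zero F] :
    ∃ pt : ℕ → F, ∀ i j, i < Fintype.card F → j < Fintype.card F → pt i = pt j → i = j := by
  classical
  let e := (Fintype.equivFin F).symm
  refine ⟨fun j => if h : j < Fintype.card F then e ⟨j, h⟩ else 0, ?_⟩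
  intro i j hi hj h
  simp only [dif_pos hi, dif_pos hj] at h
  simpa using e.injective h

/-- All letters of a word are bounded. -/
theorem exists_letter_bound (L : List (ℕ × Bool)) : ∃ n₀ : ℕ, ∀ a ∈ L, a.1 < n₀ := by
  induction L with
  | nil => exact ⟨0, by simp⟩
  | cons x L ih =>
    obtain ⟨n, hn⟩ := ih
    refine ⟨max n (x.1 + 1), ?_⟩
    intro a ha
    rcases List.mem_cons.1 ha with rfl | ha
    · exact lt_of_lt_of_le (Nat.lt_succ_self _) (le_max_right _ _)
    · exact lt_of_lt_of_le (hn a ha) (le_max_left _ _)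

end Cfsg.Agent.Lib.Helper44
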