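import Cfsg.Agent.S2352
import Cfsg.Agent.S2353

set_option autoImplicit false

namespace Cfsg.Agent.Lib.Helper44

/-- every value of the word is central -/
def CLaw (w : FreeGroup ℕ) (H : Type*) [Group H] : Prop :=
  ∀ f : ℕ → H, FreeGroup.lift f w ∈ Subgroup.center H

theorem CLaw.of_injective {w : FreeGroup ℕ} {K H : Type*} [Group K] [Group H] (h : CLaw w H)
    (ψ : K →* H) (hψ : Function.Injective ψ) : CLaw w K := by
  intro f
  rw [Subgroup.mem_center_iff]
  intro k
  apply hψ
  have h1 := h (fun i => ψ (f i))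
  rw [← map_freeGroup_lift, Subgroup.mem_center_iff] at h1
  rw [map_mul, map_mul]
  exact h1 (ψ k)

theorem claw_of_law_quotient {w : FreeGroup ℕ} {H : Type*} [Group H]
    (h : ∀ f : ℕ → H ⧸ Subgroup.center H, FreeGroup.lift f w = 1) : CLaw w H := by
  intro f
  have h1 := h (fun i => QuotientGroup.mk' _ (f i))
  rw [← map_freeGroup_lift] at h1
  exact (QuotientGroup.eq_one_iff _).1 h1

theorem law_of_mulEquiv {w : FreeGroup ℕ} {G G' : Type*} [Group G] [Group G'] (e : G ≃* G')
    (h : ∀ f : ℕ → G, FreeGroup.lift f w = 1) (f : ℕ → G') : FreeGroup.lift f w = 1 := by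
  have h1 := h (fun i => e.symm.toMonoidHom (f i))
  rw [← map_freeGroup_lift] at h1
  apply e.symm.injective
  rw [map_one]
  exact h1

theorem not_claw_SL2 (w : FreeGroup ℕ) (hw : w ≠ 1) :
    ∃ N : ℕ, ∀ (F : Type*) [Field F] [Fintype F], N ≤ Fintype.card F →
      ¬ CLaw w (Matrix.SpecialLinearGroup (Fin 2) F) := by
  obtain ⟨N, hN⟩ := Cfsg.Agent.S2353.result w hw
  refine ⟨N, ?_⟩
  intro F _ _ hF h
  obtain ⟨f, hf⟩ := hN F hF
  apply hf
  have hs : ∀ i, ∃ x : Matrix.SpecialLinearGroup (Fin 2) F, QuotientGroup.mk' _ x = f i :=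
    fun i => QuotientGroup.mk'_surjective _ (f i)
  choose f' hf' using hs
  have e : f = fun i => QuotientGroup.mk' _ (f' i) := by
    funext i
    exact (hf' i).symm
  rw [e, ← map_freeGroup_lift]
  exact (QuotientGroup.eq_one_iff _).2 (h f')

theorem not_claw_alt (w : FreeGroup ℕ) (hw : w ≠ 1) :
    ∃ N : ℕ, ∀ n : ℕ, N ≤ n → ¬ CLaw w (alternatingGroup (Fin n)) := by
  obtain ⟨N, hN⟩ := Cfsg.Agent.S2352.result w hw
  refine ⟨max N 4, ?_⟩
  intro n hn h
  obtain ⟨f, hf⟩ := hN n (le_trans (le_max_left _ _) hn)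
  apply hf
  have h1 := h f
  rw [alternatingGroup.center_eq_bot (by simpa using le_trans (le_max_right _ _) hn)] at h1
  exact Subgroup.mem_bot.1 h1

/-- homomorphisms from a perfect group to a commutative monoid are trivial -/
theorem hom_comm_trivial_of_perfect {K M : Type*} [Group K] [CommMonoid M] (φ : K →* M)
    (hK : commutator K = ⊤) (k : K) : φ k = 1 := by
  have h1 : commutator K ≤ φ.toHomUnits.ker := Abelianization.commutator_subset_ker _
  rw [hK] at h1
  have h2 : φ.toHomUnits k = 1 := h1 (Subgroup.mem_top k)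
  have h3 := congrArg Units.val h2
  simpa using h3

/-- a homomorphism from a perfect group lands in the commutator subgroup -/
def toCommutator {K H : Type*} [Group K] [Group H] (ψ : K →* H) (hK : commutator K = ⊤) :
    K →* commutator H :=
  ψ.codRestrict (commutator H) (by
    intro k
    have h1 : (commutator K).map ψ ≤ commutator H := by
      rw [commutator_def, Subgroup.map_commutator, commutator_def]
      exact Subgroup.commutator_mono le_top le_top
    apply h1
    rw [hK]
    exact Subgroup.mem_map_of_mem _ (Subgroup.mem_top k))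

theorem toCommutator_injective {K H : Type*} [Group K] [Group H] (ψ : K →* H)
    (hK : commutator K = ⊤) (hψ : Function.Injective ψ) :
    Function.Injective (toCommutator ψ hK) := by
  intro a b hab
  apply hψ
  exact congrArg Subtype.val hab

end Cfsg.Agent.Lib.Helper44
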