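import Cfsg.Agent.Lib.Helper44.LawSU2Main

set_option autoImplicit false

namespace Cfsg.Agent.Lib.Helper44

open Matrix

theorem card_quot_le {H : Type*} [Group H] {ι : Type*} [Fintype ι] [DecidableEq ι] {F : Type*}
    [Field F] [Fintype F] (φ : H → Matrix ι ι F) (hφ : Function.Injective φ) (Z : Subgroup H)
    (d Q : ℕ) (hd : Fintype.card ι ≤ d) (hQ : Fintype.card F ≤ Q) :
    Nat.card (H ⧸ Z) ≤ Q ^ (d * d) := by
  have : Finite H := Finite.of_injective φ hφ
  have h1 : Nat.card (H ⧸ Z) ≤ Nat.card H :=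
    Nat.card_le_card_of_surjective _ (QuotientGroup.mk_surjective (s := Z))
  have h2 : Nat.card H ≤ Nat.card (Matrix ι ι F) := Nat.card_le_card_of_injective φ hφ
  have h3 : Nat.card (Matrix ι ι F) = Fintype.card F ^ (Fintype.card ι * Fintype.card ι) := by
    rw [Nat.card_eq_fintype_card]
    show Fintype.card (ι → ι → F) = _
    rw [Fintype.card_fun, Fintype.card_fun, ← pow_mul]
  have hQ1 : 1 ≤ Q := le_trans Fintype.card_pos hQ
  calc Nat.card (H ⧸ Z) ≤ Fintype.card F ^ (Fintype.card ι * Fintype.card ι) := by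
        rw [← h3]; exact le_trans h1 h2
    _ ≤ Q ^ (Fintype.card ι * Fintype.card ι) := Nat.pow_le_pow_left hQ _
    _ ≤ Q ^ (d * d) := Nat.pow_le_pow_right hQ1 (Nat.mul_le_mul hd hd)

theorem sl2_perfect (F : Type*) [Field F] [Fintype F] (hF : 4 ≤ Fintype.card F) :
    commutator (Matrix.SpecialLinearGroup (Fin 2) F) = ⊤ := by
  classical
  have : ∃ a : F, a ≠ 0 ∧ a ^ 2 ≠ 1 := by
    by_contra hcon
    push Not at hcon
    have h1 : (Finset.univ : Finset F) ⊆ {0, 1, -1} := by
      intro a _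
      by_cases ha : a = 0
      · simp [ha]
      · have h2 := hcon a ha
        have h3 : (a - 1) * (a + 1) = 0 := by linear_combination h2
        rcases mul_eq_zero.1 h3 with h4 | h4
        · have : a = 1 := by linear_combination h4
          simp [this]
        · have : a = -1 := by linear_combination h4
          simp [this]
    have h2 := Finset.card_le_card h1
    have h3 : ({0, 1, -1} : Finset F).card ≤ 3 := Finset.card_le_three
    rw [Finset.card_univ] at h2
    omega
  obtain ⟨a, ha, ha2⟩ := this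
  exact SL2.commutator_eq_top ha ha2

theorem alt_perfect (m : ℕ) (hm : 5 ≤ m) : commutator (alternatingGroup (Fin m)) = ⊤ :=
  commutator_alternatingGroup_eq_top (by simpa using hm)

theorem altHom_det (F : Type*) [Field F] (m : ℕ) (σ : alternatingGroup (Fin m)) :
    (altHom F m σ).det = 1 := by
  show (Equiv.Perm.permMatrix F (σ.1)⁻¹).det = 1
  rw [Matrix.det_permutation]
  have := σ.2
  rw [Equiv.Perm.mem_alternatingGroup] at this
  simp [this]

/-- into SL with an explicit determinant hypothesis -/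
def slHomDet {F : Type*} [Field F] {K : Type*} [Group K] {n : Type*} [Fintype n] [DecidableEq n]
    (ρ : K →* Matrix n n F) (hdet : ∀ k, (ρ k).det = 1) : K →* Matrix.SpecialLinearGroup n F where
  toFun k := ⟨ρ k, hdet k⟩
  map_one' := Subtype.ext (map_one ρ)
  map_mul' a b := Subtype.ext (map_mul ρ a b)

theorem slHomDet_injective {F : Type*} [Field F] {K : Type*} [Group K] {n : Type*} [Fintype n]
    [DecidableEq n] (ρ : K →* Matrix n n F) (hdet : ∀ k, (ρ k).det = 1)
    (h : Function.Injective ρ) : Function.Injective (slHomDet ρ hdet) := by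
  intro a b hab
  exact h (congrArg Subtype.val hab)

/-- the standard copy of SL_2 in m by m matrices -/
def sl2Blk (F : Type*) [Field F] (r : ℕ) :
    Matrix.SpecialLinearGroup (Fin 2) F →* Matrix (Fin (2 + r)) (Fin (2 + r)) F :=
  blkHom r (slCoeHom (Fin 2) F)

theorem sl2Blk_injective (F : Type*) [Field F] (r : ℕ) : Function.Injective (sl2Blk F r) :=
  blkHom_injective r _ (slCoeHom_injective _ _)

theorem sl2Blk_det (F : Type*) [Field F] (r : ℕ) (k : Matrix.SpecialLinearGroup (Fin 2) F) :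
    (sl2Blk F r k).det = 1 := by
  rw [sl2Blk, blkHom_det]
  exact k.2

theorem suCoe_herm {F : Type*} [Field F] (n q : ℕ) (k : Cfsg.SU n F q) (u v : Fin n → F) :
    Cfsg.hermForm n F q (suCoe n q F k *ᵥ u) (suCoe n q F k *ᵥ v) = Cfsg.hermForm n F q u v := by
  have h := k.2 u v
  have e : Cfsg.slToMat n F k.1 = suCoe n q F k := rfl
  rw [e] at h
  exact h

section Bounds

variable (w : FreeGroup ℕ) (N₁ N₂ N₃ : ℕ)
  (h1 : ∀ (F : Type) [Field F] [Fintype F], N₁ ≤ Fintype.card F →
      ¬ CLaw w (Matrix.SpecialLinearGroup (Fin 2) F))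
  (h2 : ∀ n : ℕ, N₂ ≤ n → ¬ CLaw w (alternatingGroup (Fin n)))
  (h3 : ∀ (F : Type) [Field F] [Fintype F] (q : ℕ), Fintype.card F = q ^ 2 → N₃ ≤ q →
      ¬ CLaw w (Cfsg.SU 2 F q))

include h1 h2 in
theorem sl_bound (F : Type) [Field F] [Fintype F] (n : ℕ) (hn : 2 ≤ n)
    (hw : CLaw w (Matrix.SpecialLinearGroup (Fin n) F)) : Fintype.card F < N₁ ∧ n < N₂ := by
  constructor
  · by_contra hcon
    obtain ⟨r, rfl⟩ : ∃ r, n = 2 + r := ⟨n - 2, by omega⟩
    exact h1 F (not_lt.1 hcon) (hw.of_injective (slHomDet (sl2Blk F r) (sl2Blk_det F r))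
      (slHomDet_injective _ _ (sl2Blk_injective F r)))
  · by_contra hcon
    exact h2 n (not_lt.1 hcon) (hw.of_injective (slHomDet (altHom F n) (altHom_det F n))
      (slHomDet_injective _ _ (altHom_injective n)))

include h1 h2 in
theorem sp_bound (F : Type) [Field F] [Fintype F] (n : ℕ) (hn : 2 ≤ n)
    (hw : CLaw w (Matrix.symplecticGroup (Fin n) F)) : Fintype.card F < N₁ ∧ n < N₂ := by
  constructor
  · by_contra hcon
    obtain ⟨r, rfl⟩ : ∃ r, n = 2 + r := ⟨n - 2, by omega⟩
    exact h1 F (not_lt.1 hcon) (hw.of_injective (spHom (sl2Blk F r))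
      (spHom_injective _ (sl2Blk_injective F r)))
  · by_contra hcon
    exact h2 n (not_lt.1 hcon) (hw.of_injective (spHom (altHom F n))
      (spHom_injective _ (altHom_injective n)))

include h2 h3 in
theorem su_bound (F : Type) [Field F] [Fintype F] (n q : ℕ) (hF : Fintype.card F = q ^ 2)
    (hn : 2 ≤ n) (hw : CLaw w (Cfsg.SU n F q)) : q < N₃ ∧ n < N₂ := by
  constructor
  · by_contra hcon
    obtain ⟨r, rfl⟩ : ∃ r, n = 2 + r := ⟨n - 2, by omega⟩
    exact h3 F q hF (not_lt.1 hcon) (hw.of_injective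
      (suHom (2 + r) q (blkHom r (suCoe 2 q F))
        (fun k => by rw [blkHom_det]; exact k.1.2)
        (fun k u v => blkHom_herm r q _ k (suCoe_herm 2 q k) u v))
      (suHom_injective _ _ _ _ _ (blkHom_injective r _ (suCoe_injective 2 q F))))
  · by_contra hcon
    exact h2 n (not_lt.1 hcon) (hw.of_injective
      (suHom n q (altHom F n) (altHom_det F n) (fun k u v => altHom_herm n q k u v))
      (suHom_injective _ _ _ _ _ (altHom_injective n)))

include h1 h2 in
theorem omega_bound (F : Type) [Field F] [Fintype F] {ι : Type} [Fintype ι] [DecidableEq ι]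
    (Q : (ι → F) → F) (n : ℕ) (hn : 2 ≤ n)
    (E : ∀ (K : Type) [Group K], (K →* Matrix (Fin n) (Fin n) F) → (K →* Matrix ι ι F))
    (hinj : ∀ (K : Type) [Group K] (ρ : K →* Matrix (Fin n) (Fin n) F),
      Function.Injective ρ → Function.Injective (E K ρ))
    (hinv : ∀ (K : Type) [Group K] (ρ : K →* Matrix (Fin n) (Fin n) F) (k : K) (v : ι → F),
      Q (E K ρ k *ᵥ v) = Q v)
    (hw : CLaw w (Cfsg.Omega F Q)) : Fintype.card F < max N₁ 4 ∧ n < max N₂ 5 := by
  constructor
  · by_contra hcon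
    have hc := not_lt.1 hcon
    obtain ⟨r, rfl⟩ : ∃ r, n = 2 + r := ⟨n - 2, by omega⟩
    exact h1 F (le_trans (le_max_left _ _) hc)
      (claw_of_omega Q (E _ (sl2Blk F r)) (hinv _ _) (hinj _ _ (sl2Blk_injective F r))
        (sl2_perfect F (le_trans (le_max_right _ _) hc)) hw)
  · by_contra hcon
    have hc := not_lt.1 hcon
    exact h2 n (le_trans (le_max_left _ _) hc)
      (claw_of_omega Q (E _ (altHom F n)) (hinv _ _) (hinj _ _ (altHom_injective n))
        (alt_perfect n (le_trans (le_max_right _ _) hc)) hw)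

end Bounds

end Cfsg.Agent.Lib.Helper44
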