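import Cfsg.Agent.Lib.Helper44.LawEmbed

set_option autoImplicit false

namespace Cfsg.Agent.Lib.Helper44

open Matrix

variable {F : Type*} [Field F] {K : Type*} [Group K]

section Re
variable {n n' : Type*} [Fintype n] [DecidableEq n] [Fintype n'] [DecidableEq n']

/-- reindexing a matrix representation -/
def reHom (e : n ≃ n') (ρ : K →* Matrix n n F) : K →* Matrix n' n' F where
  toFun k := (ρ k).submatrix e.symm e.symm
  map_one' := by simp
  map_mul' a b := by rw [map_mul, Matrix.submatrix_mul_equiv]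

theorem reHom_injective (e : n ≃ n') (ρ : K →* Matrix n n F) (h : Function.Injective ρ) :
    Function.Injective (reHom e ρ) := by
  intro a b hab
  apply h
  ext i j
  have := congrFun (congrFun hab (e i)) (e j)
  simpa [reHom] using this

theorem reHom_mulVec (e : n ≃ n') (ρ : K →* Matrix n n F) (k : K) (v : n' → F) (j : n) :
    (reHom e ρ k *ᵥ v) (e j) = (ρ k *ᵥ (v ∘ e)) j := by
  show ((ρ k).submatrix e.symm e.symm *ᵥ v) (e j) = _
  rw [Matrix.submatrix_mulVec_equiv]
  simp

theorem reHom_det (e : n ≃ n') (ρ : K →* Matrix n n F) (k : K) :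
    (reHom e ρ k).det = (ρ k).det := by
  show ((ρ k).submatrix e.symm e.symm).det = _
  rw [Matrix.det_submatrix_equiv_self]

theorem padR_det (ρ : K →* Matrix n n F) (k : K) : (padR n' ρ k).det = (ρ k).det := by
  show (Matrix.fromBlocks (ρ k) 0 0 1).det = _
  rw [Matrix.det_fromBlocks_zero₂₁, Matrix.det_one, mul_one]

end Re

/-- block embedding of two by two matrices -/
def blkHom (r : ℕ) (ρ : K →* Matrix (Fin 2) (Fin 2) F) :
    K →* Matrix (Fin (2 + r)) (Fin (2 + r)) F :=
  reHom finSumFinEquiv (padR (Fin r) ρ)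

theorem blkHom_injective (r : ℕ) (ρ : K →* Matrix (Fin 2) (Fin 2) F) (h : Function.Injective ρ) :
    Function.Injective (blkHom r ρ) :=
  reHom_injective _ _ (padR_injective ρ h)

theorem blkHom_det (r : ℕ) (ρ : K →* Matrix (Fin 2) (Fin 2) F) (k : K) :
    (blkHom r ρ k).det = (ρ k).det := by
  rw [blkHom, reHom_det, padR_det]

theorem blkHom_herm (r q : ℕ) (ρ : K →* Matrix (Fin 2) (Fin 2) F) (k : K)
    (h : ∀ u v, Cfsg.hermForm 2 F q (ρ k *ᵥ u) (ρ k *ᵥ v) = Cfsg.hermForm 2 F q u v)
    (u v : Fin (2 + r) → F) :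
    Cfsg.hermForm (2 + r) F q (blkHom r ρ k *ᵥ u) (blkHom r ρ k *ᵥ v) =
      Cfsg.hermForm (2 + r) F q u v := by
  unfold Cfsg.hermForm at h ⊢
  rw [← Equiv.sum_comp finSumFinEquiv, ← Equiv.sum_comp finSumFinEquiv (fun i => u i * v i ^ q)]
  rw [Fintype.sum_sum_type, Fintype.sum_sum_type]
  simp only [blkHom, reHom_mulVec, padR_mulVec_inl, padR_mulVec_inr]
  rw [h]
  rfl

/-- the inclusion of SL into matrices -/
def slCoeHom (n : Type*) [Fintype n] [DecidableEq n] (F : Type*) [Field F] :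
    Matrix.SpecialLinearGroup n F →* Matrix n n F where
  toFun A := A.1
  map_one' := rfl
  map_mul' _ _ := rfl

theorem slCoeHom_injective (n : Type*) [Fintype n] [DecidableEq n] (F : Type*) [Field F] :
    Function.Injective (slCoeHom n F) := fun _ _ h => Subtype.ext h

/-- the permutation representation of the alternating group -/
def altHom (F : Type*) [Field F] (m : ℕ) :
    alternatingGroup (Fin m) →* Matrix (Fin m) (Fin m) F :=
  Matrix.permMatrixHom.comp (alternatingGroup (Fin m)).subtype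

theorem altHom_mulVec (m : ℕ) (σ : alternatingGroup (Fin m)) (v : Fin m → F) :
    altHom F m σ *ᵥ v = v ∘ (σ⁻¹ : alternatingGroup (Fin m)).1 := by
  show (Equiv.Perm.permMatrix F (σ.1)⁻¹) *ᵥ v = _
  rw [Matrix.permMatrix_mulVec]
  rfl

theorem altHom_injective (m : ℕ) : Function.Injective (altHom F m) := by
  intro a b hab
  have h1 : ∀ i, (a⁻¹ : alternatingGroup (Fin m)).1 i = (b⁻¹ : alternatingGroup (Fin m)).1 i := by
    intro i
    have h2 := congrFun (congrArg (fun M => M *ᵥ (Pi.single ((a⁻¹ : alternatingGroup (Fin m)).1 i) (1 : F))) hab) i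
    simp only [altHom_mulVec, Function.comp_apply, Pi.single_eq_same] at h2
    by_contra hne
    rw [Pi.single_eq_of_ne (Ne.symm hne)] at h2
    exact one_ne_zero h2
  have h3 : a⁻¹ = b⁻¹ := Subtype.ext (Equiv.ext h1)
  exact inv_injective h3

theorem altHom_herm (m q : ℕ) (σ : alternatingGroup (Fin m)) (u v : Fin m → F) :
    Cfsg.hermForm m F q (altHom F m σ *ᵥ u) (altHom F m σ *ᵥ v) = Cfsg.hermForm m F q u v := by
  unfold Cfsg.hermForm
  simp only [altHom_mulVec, Function.comp_apply]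
  exact Equiv.sum_comp (σ⁻¹ : alternatingGroup (Fin m)).1 (fun i => u i * v i ^ q)

/-- into the special unitary group -/
def suHom (n q : ℕ) (ρ : K →* Matrix (Fin n) (Fin n) F) (hdet : ∀ k, (ρ k).det = 1)
    (h : ∀ k u v, Cfsg.hermForm n F q (ρ k *ᵥ u) (ρ k *ᵥ v) = Cfsg.hermForm n F q u v) :
    K →* Cfsg.SU n F q where
  toFun k := ⟨⟨ρ k, hdet k⟩, fun u v => h k u v⟩
  map_one' := Subtype.ext (Subtype.ext (map_one ρ))
  map_mul' a b := Subtype.ext (Subtype.ext (map_mul ρ a b))

theorem suHom_injective (n q : ℕ) (ρ : K →* Matrix (Fin n) (Fin n) F) (hdet : ∀ k, (ρ k).det = 1)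
    (h : ∀ k u v, Cfsg.hermForm n F q (ρ k *ᵥ u) (ρ k *ᵥ v) = Cfsg.hermForm n F q u v)
    (hρ : Function.Injective ρ) : Function.Injective (suHom n q ρ hdet h) := by
  intro a b hab
  exact hρ (congrArg (fun x => x.1.1) hab)

end Cfsg.Agent.Lib.Helper44
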