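import Cfsg.Agent.Lib.Helper44.LawReps

set_option autoImplicit false

namespace Cfsg.Agent.Lib.Helper44

open Matrix Polynomial

variable {F : Type*} [Field F]

theorem exists_frob [Fintype F] {q : ℕ} (hF : Fintype.card F = q ^ 2) :
    ∃ σ : F →+* F, ∀ x, σ x = x ^ q := by
  obtain ⟨p, hp⟩ := CharP.exists F
  obtain ⟨n, hprime, hcard⟩ := FiniteField.card F p
  have h1 : q ∣ p ^ (n : ℕ) := by
    rw [← hcard, hF]
    exact dvd_pow_self q two_ne_zero
  obtain ⟨k, -, hk⟩ := (Nat.dvd_prime_pow hprime).1 h1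
  have : Fact p.Prime := ⟨hprime⟩
  refine ⟨iterateFrobenius F p k, ?_⟩
  intro x
  rw [iterateFrobenius_def, hk]

theorem herm_of_unitary {n q : ℕ} (σ : F →+* F) (hσ : ∀ x, σ x = x ^ q)
    (A : Matrix (Fin n) (Fin n) F) (hA : Aᵀ * A.map σ = 1) (u v : Fin n → F) :
    Cfsg.hermForm n F q (A *ᵥ u) (A *ᵥ v) = Cfsg.hermForm n F q u v := by
  have e : ∀ x y : Fin n → F, Cfsg.hermForm n F q x y = x ⬝ᵥ (σ ∘ y) := by
    intro x y
    unfold Cfsg.hermForm
    simp only [dotProduct, Function.comp_apply, hσ]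
  rw [e, e]
  have h1 : σ ∘ (A *ᵥ v) = A.map σ *ᵥ (σ ∘ v) := by
    funext i
    exact RingHom.map_mulVec σ A v i
  rw [h1, dotProduct_comm, Matrix.dotProduct_mulVec, ← Matrix.mulVec_transpose,
    Matrix.mulVec_mulVec, hA, Matrix.one_mulVec, dotProduct_comm]

/-- orthogonal frames -/
def uG (σ : F →+* F) (t : F) : Matrix (Fin 2) (Fin 2) F := !![1, -σ t; t, 1]

def uGi (σ : F →+* F) (t : F) : Matrix (Fin 2) (Fin 2) F := (1 + t * σ t)⁻¹ • !![1, σ t; -t, 1]

def uD (b : Bool) (κ : F) : Matrix (Fin 2) (Fin 2) F :=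
  if b then !![κ, 0; 0, κ⁻¹] else !![κ⁻¹, 0; 0, κ]

theorem uGi_mul_uG (σ : F →+* F) (t : F) (hc : 1 + t * σ t ≠ 0) : uGi σ t * uG σ t = 1 := by
  ext i j
  fin_cases i <;> fin_cases j <;> simp [uGi, uG, Matrix.mul_apply, Fin.sum_univ_two] <;>
    field_simp <;> ring

theorem uGi_mul_uG' (σ : F →+* F) (t t' : F) : uGi σ t * uG σ t' =
    (1 + t * σ t)⁻¹ • !![1 + σ t * t', σ t - σ t'; t' - t, 1 + t * σ t'] := by
  ext i j
  fin_cases i <;> fin_cases j <;> simp [uGi, uG, Matrix.mul_apply, Fin.sum_univ_two] <;> ring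

theorem uConj_unitary (σ : F →+* F) (hσσ : ∀ x, σ (σ x) = x) (t κ : F) (hc : 1 + t * σ t ≠ 0)
    (hκ0 : κ ≠ 0) (hκ : σ κ = κ⁻¹) (b : Bool) :
    (uG σ t * uD b κ * uGi σ t)ᵀ * (uG σ t * uD b κ * uGi σ t).map σ = 1 := by
  have ht := hσσ t
  ext i j
  cases b <;> fin_cases i <;> fin_cases j <;>
    simp [uGi, uG, uD, Matrix.mul_apply, Fin.sum_univ_two, hκ, ht] <;>
    (generalize σ t = T at *; field_simp; ring)

theorem uD_mul (κ : F) (hκ : κ ≠ 0) : uD true κ * uD false κ = 1 := by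
  ext i j
  fin_cases i <;> fin_cases j <;> simp [uD, hκ]

theorem uD_det (κ : F) (hκ : κ ≠ 0) : (uD true κ).det = 1 := by
  simp [uD, Matrix.det_fin_two, hκ]

theorem uD_unitary (σ : F →+* F) (κ : F) (hκ0 : κ ≠ 0) (hκ : σ κ = κ⁻¹) :
    (uD true κ)ᵀ * (uD true κ).map σ = 1 := by
  ext i j
  fin_cases i <;> fin_cases j <;> simp [uD, Matrix.mul_apply, Fin.sum_univ_two, hκ, hκ0]

/-- the Weyl element -/
def uW : Matrix (Fin 2) (Fin 2) F := !![0, -1; 1, 0]

theorem uW_det : (uW : Matrix (Fin 2) (Fin 2) F).det = 1 := by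
  simp [uW, Matrix.det_fin_two]

theorem uW_unitary (σ : F →+* F) : (uW : Matrix (Fin 2) (Fin 2) F)ᵀ * uW.map σ = 1 := by
  ext i j
  fin_cases i <;> fin_cases j <;> simp [uW, Matrix.mul_apply, Fin.sum_univ_two]

theorem scalar_of_commute (M : Matrix (Fin 2) (Fin 2) F) (κ : F) (hκ0 : κ ≠ 0) (hκ : κ ^ 2 ≠ 1)
    (h1 : M * uD true κ = uD true κ * M) (h2 : M * uW = uW * M) : M = M 0 0 • 1 := by
  have e01 := congrFun (congrFun h1 0) 1
  have e10 := congrFun (congrFun h1 1) 0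
  have e11 := congrFun (congrFun h2 1) 0
  simp [uD, Matrix.mul_apply, Fin.sum_univ_two] at e01 e10
  simp [uW, Matrix.mul_apply, Fin.sum_univ_two] at e11
  have hk : κ - κ⁻¹ ≠ 0 := by
    intro h
    apply hκ
    field_simp at h
    linear_combination h
  have z01 : M 0 1 = 0 := by
    have : M 0 1 * (κ - κ⁻¹) = 0 := by linear_combination -e01
    exact (mul_eq_zero.1 this).resolve_right hk
  have z10 : M 1 0 = 0 := by
    have : M 1 0 * (κ - κ⁻¹) = 0 := by linear_combination e10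
    exact (mul_eq_zero.1 this).resolve_right hk
  ext i j
  fin_cases i <;> fin_cases j <;> simp [z01, z10, e11]

/-- the polynomial torus -/
noncomputable def uPoly (r : ℕ) (b : Bool) : Matrix (Fin 2) (Fin 2) F[X] :=
  if b then !![X ^ (2 * r), 0; 0, 1] else !![1, 0; 0, X ^ (2 * r)]

def uIdx (b : Bool) : Fin 2 := if b then 0 else 1

theorem uPoly_deg (r : ℕ) (b : Bool) : DegLE (uPoly (F := F) r b) (2 * r) := by
  intro i j
  cases b <;> fin_cases i <;> fin_cases j <;> simp [uPoly]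

theorem uPoly_top (r : ℕ) (hr : r ≠ 0) (b : Bool) :
    topC (uPoly (F := F) r b) (2 * r) = Matrix.single (uIdx b) (uIdx b) 1 := by
  ext i j
  cases b <;> fin_cases i <;> fin_cases j <;> simp [uPoly, topC, uIdx, coeff_one, hr]

theorem uPoly_eval (r : ℕ) (b : Bool) (k : F) (hk : k ≠ 0) :
    (evalRingHom k).mapMatrix (uPoly r b) = (k ^ r) • uD b (k ^ r) := by
  ext i j
  cases b <;> fin_cases i <;> fin_cases j <;> simp [uPoly, uD, hk] <;> ring

end Cfsg.Agent.Lib.Helper44
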