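import Cfsg.Agent.Lib.Helper44.LawSU2

set_option autoImplicit false

namespace Cfsg.Agent.Lib.Helper44

open Matrix Polynomial

variable {F : Type*} [Field F] [Fintype F]

theorem frob_torus {r : ℕ} (hF : Fintype.card F = (r + 1) ^ 2) (σ : F →+* F)
    (hσ : ∀ x, σ x = x ^ (r + 1)) (k : F) (hk : k ≠ 0) : σ (k ^ r) = (k ^ r)⁻¹ := by
  have h1 := FiniteField.pow_card_sub_one_eq_one k hk
  have h2 : Fintype.card F - 1 = r * (r + 1) + r := by
    rw [hF]
    have : (r + 1) ^ 2 = r * (r + 1) + r + 1 := by ring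
    omega
  rw [h2, pow_add, pow_mul] at h1
  rw [hσ]
  exact eq_inv_of_mul_eq_one_left h1

theorem frob_frob {r : ℕ} (hF : Fintype.card F = (r + 1) ^ 2) (σ : F →+* F)
    (hσ : ∀ x, σ x = x ^ (r + 1)) (x : F) : σ (σ x) = x := by
  rw [hσ, hσ, ← pow_mul, ← sq, ← hF, FiniteField.pow_card]

theorem su2_points {r : ℕ} (hr : 5 ≤ r) (hF : Fintype.card F = (r + 1) ^ 2) (σ : F →+* F)
    (hσ : ∀ x, σ x = x ^ (r + 1)) :
    ∃ t : ℕ → F, (∀ i j, 1 + σ (t i) * t j ≠ 0) ∧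
      (∀ i j, i < r + 2 → j < r + 2 → t i = t j → i = j) ∧
      ∃ κ : F, κ ≠ 0 ∧ σ κ = κ⁻¹ ∧ κ ^ 2 ≠ 1 := by
  classical
  obtain ⟨y, hy⟩ := IsCyclic.exists_generator (α := Fˣ)
  have ho : orderOf y = r * (r + 2) := by
    rw [orderOf_eq_card_of_forall_mem_zpowers hy, Nat.card_eq_fintype_card, Fintype.card_units F, hF]
    have : (r + 1) ^ 2 = r * (r + 2) + 1 := by ring
    omega
  refine ⟨fun i => ((y ^ (1 + r * i) : Fˣ) : F), ?_, ?_, ((y ^ r : Fˣ) : F), Units.ne_zero _, ?_, ?_⟩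
  · intro i j h
    have h1 : ((y ^ ((1 + r * i) * (r + 1) + (1 + r * j)) : Fˣ) : F) = -1 := by
      rw [hσ] at h
      push_cast at h ⊢
      rw [pow_add, pow_mul]
      linear_combination h
    have h2 : y ^ (((1 + r * i) * (r + 1) + (1 + r * j)) * 2) = 1 := by
      apply Units.ext
      rw [pow_mul, Units.val_pow_eq_pow_val, h1]
      simp
    have h3 := orderOf_dvd_of_pow_eq_one h2
    rw [ho] at h3
    have h4 : r ∣ ((1 + r * i) * (r + 1) + (1 + r * j)) * 2 := dvd_trans (Dvd.intro _ rfl) h3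
    have h5 : ((1 + r * i) * (r + 1) + (1 + r * j)) * 2 = r * (2 + 2 * (i * (r + 1) + j)) + 4 := by
      ring
    rw [h5] at h4
    have h6 : r ∣ 4 := (Nat.dvd_add_right (Dvd.intro _ rfl)).1 h4
    have := Nat.le_of_dvd (by norm_num) h6
    omega
  · intro i j hi hj h
    have h1 : y ^ (1 + r * i) = y ^ (1 + r * j) := Units.ext h
    have b : ∀ i, i < r + 2 → 1 + r * i < orderOf y := by
      intro i hi
      rw [ho]
      have : r * i ≤ r * (r + 1) := Nat.mul_le_mul_left _ (by omega)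
      nlinarith
    have h2 := pow_injOn_Iio_orderOf (b i hi) (b j hj) h1
    have h3 : r * i = r * j := by omega
    exact Nat.eq_of_mul_eq_mul_left (by omega) h3
  · have := frob_torus hF σ hσ (y : F) y.ne_zero
    simpa using this
  · intro h
    have h1 : y ^ (r * 2) = 1 := by
      apply Units.ext
      rw [pow_mul]
      simpa using h
    exact pow_ne_one_of_lt_orderOf (by omega) (by rw [ho]; nlinarith) h1

/-- the inclusion of SU into matrices -/
def suCoe (n q : ℕ) (F : Type*) [Field F] : Cfsg.SU n F q →* Matrix (Fin n) (Fin n) F where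
  toFun A := A.1.1
  map_one' := rfl
  map_mul' _ _ := rfl

theorem suCoe_injective (n q : ℕ) (F : Type*) [Field F] : Function.Injective (suCoe n q F) :=
  fun _ _ h => Subtype.ext (Subtype.ext h)

/-- building elements of SU -/
def mkSU {n q : ℕ} (σ : F →+* F) (hσ : ∀ x, σ x = x ^ q) (A : Matrix (Fin n) (Fin n) F)
    (hdet : A.det = 1) (hA : Aᵀ * A.map σ = 1) : Cfsg.SU n F q :=
  ⟨⟨A, hdet⟩, fun u v => herm_of_unitary σ hσ A hA u v⟩

theorem not_claw_SU2 (w : FreeGroup ℕ) (hw : w ≠ 1) :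
    ∃ N : ℕ, ∀ (F : Type*) [Field F] [Fintype F] (q : ℕ), Fintype.card F = q ^ 2 → N ≤ q →
      ¬ CLaw w (Cfsg.SU 2 F q) := by
  classical
  obtain ⟨n₀, hn₀⟩ := exists_letter_bound w.toWord
  refine ⟨2 * w.toWord.length + n₀ + 6, ?_⟩
  intro F _ _ q hF hN hclaw
  obtain ⟨r, rfl⟩ : ∃ r, q = r + 1 := ⟨q - 1, by omega⟩
  obtain ⟨σ, hσ⟩ := exists_frob hF
  have hσσ := frob_frob hF σ hσ
  obtain ⟨t, ht1, ht2, κ₀, hκ0, hκσ, hκ2⟩ := su2_points (by omega) hF σ hσ
  have hL : w.toWord ≠ [] := fun h => hw (FreeGroup.toWord_eq_nil_iff.1 h)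
  have hc : ∀ i, 1 + t i * σ (t i) ≠ 0 := by
    intro i
    rw [mul_comm]
    exact ht1 i i
  have hgg : ∀ i, uGi σ (t i) * uG σ (t i) = 1 := fun i => uGi_mul_uG σ _ (hc i)
  have hgg' : ∀ i, uG σ (t i) * uGi σ (t i) = 1 := fun i => mul_eq_one_comm.1 (hgg i)
  have hcard : Fintype.card F - 1 = r * r + 2 * r := by
    rw [hF]
    have : (r + 1) ^ 2 = r * r + 2 * r + 1 := by ring
    omega
  obtain ⟨k, hk⟩ := exists_nonscalar_conj_torus uIdx (by decide) (uPoly r) (2 * r) (uPoly_deg r)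
    (uPoly_top r (by omega)) (fun b k => uD b (k ^ r))
    (fun _ k => k ^ r) (uPoly_eval r) (fun i => uG σ (t i)) (fun i => uGi σ (t i)) hgg
    w.toWord hL FreeGroup.isReduced_toWord (by
      intro a ha b hb hab
      have h1 := hn₀ a ha
      have h2 := hn₀ b hb
      have hne : t a.1 ≠ t b.1 := fun h => hab (ht2 _ _ (by omega) (by omega) h)
      have hne' : σ (t a.1) ≠ σ (t b.1) := fun h => hne (σ.injective h)
      rw [uGi_mul_uG']
      have hi : (1 + t a.1 * σ (t a.1))⁻¹ ≠ 0 := inv_ne_zero (hc _)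
      have e1 := ht1 a.1 b.1
      have e2 : 1 + t a.1 * σ (t b.1) ≠ 0 := by
        rw [mul_comm]
        exact ht1 b.1 a.1
      have e3 : σ (t a.1) - σ (t b.1) ≠ 0 := sub_ne_zero.2 hne'
      have e4 : t b.1 - t a.1 ≠ 0 := sub_ne_zero.2 (Ne.symm hne)
      rcases a with ⟨a1, a2⟩
      rcases b with ⟨b1, b2⟩
      cases a2 <;> cases b2 <;> simp [uIdx] <;> tauto) (by
      rw [hcard]
      have : 2 * w.toWord.length < r + 2 := by omega
      nlinarith)
  have hk0 : ((k : F) ^ r) ≠ 0 := pow_ne_zero _ k.ne_zero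
  have hkσ : σ ((k : F) ^ r) = ((k : F) ^ r)⁻¹ := frob_torus hF σ hσ _ k.ne_zero
  have hdet : ∀ i, (uG σ (t i) * uD true ((k : F) ^ r) * uGi σ (t i)).det = 1 := by
    intro i
    rw [Matrix.det_mul, Matrix.det_mul, uD_det _ hk0, mul_one, ← Matrix.det_mul, hgg', Matrix.det_one]
  let f' : ℕ → Cfsg.SU 2 F (r + 1) := fun i =>
    mkSU σ hσ _ (hdet i) (uConj_unitary σ hσσ (t i) _ (hc i) hk0 hkσ true)
  have h3 := lift_word_eq (suCoe 2 (r + 1) F) f'
    (fun ℓ => uG σ (t ℓ.1) * uD ℓ.2 ((k : F) ^ r) * uGi σ (t ℓ.1)) (fun i => rfl) (by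
      intro i
      show uG σ (t i) * uD true ((k : F) ^ r) * uGi σ (t i) *
        (uG σ (t i) * uD false ((k : F) ^ r) * uGi σ (t i)) = 1
      calc _ = uG σ (t i) * (uD true ((k : F) ^ r) * (uGi σ (t i) * uG σ (t i)) *
            uD false ((k : F) ^ r)) * uGi σ (t i) := by simp only [mul_assoc]
        _ = 1 := by rw [hgg, mul_one, uD_mul _ hk0, mul_one, hgg']) w
  have h4 := hclaw f'
  rw [Subgroup.mem_center_iff] at h4
  have c1 := congrArg (suCoe 2 (r + 1) F) (h4 (mkSU σ hσ _ (uD_det κ₀ hκ0) (uD_unitary σ κ₀ hκ0 hκσ)))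
  have c2 := congrArg (suCoe 2 (r + 1) F) (h4 (mkSU σ hσ _ uW_det (uW_unitary σ)))
  rw [map_mul, map_mul] at c1 c2
  have h5 := scalar_of_commute _ κ₀ hκ0 hκ2 c1.symm c2.symm
  rw [h3] at h5
  exact hk _ h5

end Cfsg.Agent.Lib.Helper44
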