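import Cfsg.Agent.Lib.Helper44.SL2PS
import Cfsg.Agent.S2331

set_option autoImplicit false

namespace Cfsg.Agent.Lib.Helper44

open Matrix Cfsg
open scoped ComplexConjugate

/-- The irreducible characters of `SL₂`. -/
abbrev IrrSL (F : Type*) [Field F] := IrrCharacter (SpecialLinearGroup (Fin 2) F)

variable {F : Type*} [Field F] [Fintype F] [DecidableEq F]

omit [DecidableEq F] in
/-- The trivial character is the only irreducible character of `SL₂` which is trivial on `U`. -/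
theorem sl2_card_U_trivial_le {ι : Type*} [Finite ι] (f : ι → IrrCharacter (SpecialLinearGroup (Fin 2) F))
    (hf : Function.Injective f)
    (h : ∀ i, ∀ x : F, (f i : SpecialLinearGroup (Fin 2) F → ℂ) (uSL x) = (f i : SpecialLinearGroup (Fin 2) F → ℂ) 1) :
    Nat.card ι ≤ 1 := by
  rw [Finite.card_le_one_iff_subsingleton]
  constructor
  intro i j
  apply hf
  apply Subtype.ext
  rw [sl2_trivial_of_U (f i).2 (h i), sl2_trivial_of_U (f j).2 (h j)]

theorem gram_SL_zero_zero {ψ : AddChar F ℂ} (hψ : ψ.IsPrimitive) :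
    ∑ χ : IrrCharacter (SpecialLinearGroup (Fin 2) F), mS ψ uSLc χ 0 * conj (mS ψ uSLc χ 0) =
      2 * ((Fintype.card F : ℂ) - 1) := by
  rw [gram_SL hψ]
  simp only [zero_mul, if_true, Finset.sum_const, Finset.card_univ, Fintype.card_units, nsmul_eq_mul, mul_one]
  rw [Nat.cast_sub Fintype.card_pos]
  push_cast
  ring

theorem gram_SL_zero_ne {ψ : AddChar F ℂ} (hψ : ψ.IsPrimitive) {s : F} (hs : s ≠ 0) :
    ∑ χ : IrrCharacter (SpecialLinearGroup (Fin 2) F), mS ψ uSLc χ 0 * conj (mS ψ uSLc χ s) =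
      (Fintype.card F : ℂ) - 1 := by
  rw [gram_SL hψ]
  have : ∀ a : Fˣ, (if s * ((a : F) * a) = 0 then (1 : ℂ) else 0) = 0 := by
    intro a
    rw [if_neg]
    exact mul_ne_zero hs (mul_ne_zero a.ne_zero a.ne_zero)
  simp only [this, Finset.sum_const_zero, add_zero]

section even

variable [CharP F 2]

omit [DecidableEq F] in
theorem sl2_even_mS_eq (ψ : AddChar F ℂ) {χ : SpecialLinearGroup (Fin 2) F → ℂ} (hχ : IsClassFunction _ χ) {s : F}
    (hs : s ≠ 0) : mS ψ uSLc χ s = mS ψ uSLc χ 1 := by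
  obtain ⟨k, rfl⟩ := isSquare_of_charTwo s
  have hk : k ≠ 0 := by
    rintro rfl
    simp at hs
  have := sl2_mS_sq ψ hχ hk 1
  rwa [one_mul] at this

theorem gram_SL_even_one_one {ψ : AddChar F ℂ} (hψ : ψ.IsPrimitive) :
    ∑ χ : IrrCharacter (SpecialLinearGroup (Fin 2) F), mS ψ uSLc χ 1 * conj (mS ψ uSLc χ 1) =
      (Fintype.card F : ℂ) := by
  rw [gram_SL hψ, Finset.sum_eq_single 1]
  · simp
  · intro a _ ha
    rw [if_neg]
    intro h
    apply ha
    have h2 : (2 : F) = 0 := CharTwo.two_eq_zero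
    have h3 : ((a : F) - 1) ^ 2 = 0 := by linear_combination h - (a : F) * h2 + h2
    apply Units.ext
    simpa [sub_eq_zero] using h3
  · intro h; exact absurd (Finset.mem_univ _) h

/-- All the numerical data on the irreducible characters of `SL₂` in characteristic two. -/
theorem sl2_even_data {ψ : AddChar F ℂ} (hψ : ψ.IsPrimitive) :
    ∃ m₀ m₁ : IrrCharacter (SpecialLinearGroup (Fin 2) F) → ℕ,
      (∀ χ : IrrSL F, mS ψ uSLc χ 0 = m₀ χ) ∧ (∀ χ : IrrSL F, ∀ s : F, s ≠ 0 → mS ψ uSLc χ s = m₁ χ) ∧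
      (∀ χ, m₁ χ ≤ 1) ∧ (∀ χ, m₀ χ ≤ 2) ∧
      (∀ χ : IrrSL F, (χ : SpecialLinearGroup (Fin 2) F → ℂ) 1 = ((m₀ χ + (Fintype.card F - 1) * m₁ χ : ℕ) : ℂ)) ∧
      (∀ χ : IrrSL F, ∀ x : F, x ≠ 0 → (χ : SpecialLinearGroup (Fin 2) F → ℂ) (uSL x) = (m₀ χ : ℂ) - m₁ χ) ∧
      (∀ χ : IrrSL F, m₁ χ = 0 → (χ : SpecialLinearGroup (Fin 2) F → ℂ) = fun _ => 1) ∧
      (∀ χ : IrrSL F, m₀ χ = 2 → ∃ α : MulChar F ℂ, (χ : SpecialLinearGroup (Fin 2) F → ℂ) = indFun (borelSL F) (borelHomSL α)) ∧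
      ∑ χ, m₁ χ ^ 2 = Fintype.card F ∧ ∑ χ, m₀ χ * m₁ χ = Fintype.card F - 1 ∧
      ∑ χ, m₀ χ ^ 2 = 2 * (Fintype.card F - 1) ∧
      Fintype.card (IrrCharacter (SpecialLinearGroup (Fin 2) F)) = Fintype.card F + 1 := by
  classical
  have hch : ∀ χ : IrrCharacter (SpecialLinearGroup (Fin 2) F), IsCharacter _ (χ : SpecialLinearGroup (Fin 2) F → ℂ) :=
    fun χ => Cfsg.Agent.Lib.Helper82.isIrr_isChar χ.2
  have hcl := fun χ => Cfsg.Agent.Lib.Helper20.isClassFunction_of_isCharacter (hch χ)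
  choose m₀ hm₀ using fun χ : IrrCharacter (SpecialLinearGroup (Fin 2) F) => mS_nat ψ uSLc (hch χ) 0
  choose m₁ hm₁ using fun χ : IrrCharacter (SpecialLinearGroup (Fin 2) F) => mS_nat ψ uSLc (hch χ) 1
  have hq : 1 ≤ Fintype.card F := Fintype.card_pos
  have hun : ∀ χ : IrrSL F, ∀ s : F, s ≠ 0 → mS ψ uSLc χ s = m₁ χ := by
    intro χ s hs
    rw [sl2_even_mS_eq ψ (hcl χ) hs, hm₁]
  have hval := fun χ : IrrCharacter (SpecialLinearGroup (Fin 2) F) =>
    apply_of_mS_uniform hψ uSLc (χ : SpecialLinearGroup (Fin 2) F → ℂ) (m₁ χ) (hun χ)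
  have hdeg : ∀ χ : IrrCharacter (SpecialLinearGroup (Fin 2) F),
      (χ : SpecialLinearGroup (Fin 2) F → ℂ) 1 = ((m₀ χ + (Fintype.card F - 1) * m₁ χ : ℕ) : ℂ) := by
    intro χ
    have := hval χ 0
    rw [AddChar.map_zero_eq_one, if_pos rfl, hm₀] at this
    rw [this]
    push_cast [Nat.cast_sub hq]
    ring
  have hu : ∀ χ : IrrCharacter (SpecialLinearGroup (Fin 2) F), ∀ x : F, x ≠ 0 →
      (χ : SpecialLinearGroup (Fin 2) F → ℂ) (uSL x) = (m₀ χ : ℂ) - m₁ χ := by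
    intro χ x hx
    have := hval χ x
    rw [if_neg hx, hm₀, uSLc_apply] at this
    rw [this]; ring
  have htriv : ∀ χ : IrrCharacter (SpecialLinearGroup (Fin 2) F), m₁ χ = 0 →
      ∀ x : F, (χ : SpecialLinearGroup (Fin 2) F → ℂ) (uSL x) = (χ : SpecialLinearGroup (Fin 2) F → ℂ) 1 := by
    intro χ hm x
    by_cases hx : x = 0
    · subst hx
      have := (uSLc (F := F)).map_zero_eq_one
      rw [uSLc_apply] at this
      rw [this]
    · rw [hu χ x hx, hdeg, hm]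
      simp
  have h1 : ∑ χ, m₁ χ ^ 2 = Fintype.card F := by
    have := gram_SL_even_one_one hψ
    simp only [hm₁, Complex.conj_natCast] at this
    have h3 : ((∑ χ, m₁ χ ^ 2 : ℕ) : ℂ) = ((Fintype.card F : ℕ) : ℂ) := by
      push_cast
      rw [← this]
      apply Finset.sum_congr rfl
      intro χ _
      ring
    exact_mod_cast h3
  have h2 : ∑ χ, m₀ χ * m₁ χ = Fintype.card F - 1 := by
    have := gram_SL_zero_ne hψ (one_ne_zero (α := F))
    simp only [hm₀, hm₁, Complex.conj_natCast] at this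
    have h3 : ((∑ χ, m₀ χ * m₁ χ : ℕ) : ℂ) = ((Fintype.card F - 1 : ℕ) : ℂ) := by
      push_cast [Nat.cast_sub hq]
      rw [← this]
    exact_mod_cast h3
  have h3 : ∑ χ, m₀ χ ^ 2 = 2 * (Fintype.card F - 1) := by
    have := gram_SL_zero_zero hψ
    simp only [hm₀, Complex.conj_natCast] at this
    have h3 : ((∑ χ, m₀ χ ^ 2 : ℕ) : ℂ) = ((2 * (Fintype.card F - 1) : ℕ) : ℂ) := by
      push_cast [Nat.cast_sub hq]
      rw [← this]
      apply Finset.sum_congr rfl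
      intro χ _
      ring
    exact_mod_cast h3
  have h4 : Fintype.card (IrrCharacter (SpecialLinearGroup (Fin 2) F)) = Fintype.card F + 1 := by
    rw [← Nat.card_eq_fintype_card, Cfsg.Agent.Lib.Helper20.card_irrCharacter, Cfsg.Agent.S2331.result]
  have h5 : Fintype.card {χ // m₁ χ = 0} ≤ 1 := by
    rw [← Nat.card_eq_fintype_card]
    exact sl2_card_U_trivial_le (fun χ : {χ // m₁ χ = 0} => χ.1) Subtype.val_injective (fun χ => htriv χ.1 χ.2)
  refine ⟨m₀, m₁, hm₀, hun, ?_, ?_, hdeg, hu, ?_, ?_, h1, h2, h3, h4⟩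
  · exact le_one_of_sum_sq m₁ (by rw [h1, h4]; omega)
  · intro χ
    rcases sl2_m0 hψ χ.2 with h | h | ⟨h, -⟩ <;> rw [hm₀] at h
    · have : m₀ χ = 0 := by exact_mod_cast h
      omega
    · have : m₀ χ = 1 := by exact_mod_cast h
      omega
    · have : m₀ χ = 2 := by exact_mod_cast h
      omega
  · intro χ hm
    exact sl2_trivial_of_U χ.2 (htriv χ hm)
  · intro χ hm
    rcases sl2_m0 hψ χ.2 with h | h | ⟨-, h⟩
    · rw [hm₀, hm] at h; norm_num at h
    · rw [hm₀, hm] at h; norm_num at h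
    · exact h

end even

end Cfsg.Agent.Lib.Helper44
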