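import Cfsg.Agent.Lib.Helper44.SL2Even
import Cfsg.Agent.S2325

set_option autoImplicit false

namespace Cfsg.Agent.Lib.Helper44

open Matrix Cfsg
open scoped ComplexConjugate

theorem le_one_of_sum_sq_two {ι : Type*} [Fintype ι] (a b : ι → ℕ) [DecidablePred fun i => a i = 0 ∧ b i = 0]
    (h : ∑ i, a i ^ 2 + ∑ i, b i ^ 2 + Fintype.card {i // a i = 0 ∧ b i = 0} ≤ ∑ i, a i * b i + Fintype.card ι) :
    ∀ i, a i ≤ 1 ∧ b i ≤ 1 := by
  by_contra hcon
  push Not at hcon
  obtain ⟨i, hi⟩ := hcon
  have h1 : Fintype.card {i // a i = 0 ∧ b i = 0} = ∑ i, if a i = 0 ∧ b i = 0 then 1 else 0 := by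
    rw [Fintype.card_subtype]
    simp
  have h0 : Fintype.card ι = ∑ _i : ι, 1 := by simp
  rw [h1, h0, ← Finset.sum_add_distrib, ← Finset.sum_add_distrib, ← Finset.sum_add_distrib] at h
  have h2 : ∑ j : ι, (a j * b j + 1) < ∑ j, (a j ^ 2 + b j ^ 2 + if a j = 0 ∧ b j = 0 then 1 else 0) := by
    apply Finset.sum_lt_sum
    · intro j _
      by_cases hj : a j = 0 ∧ b j = 0
      · simp [hj]
      · rw [if_neg hj]
        have h3 : 1 ≤ a j ∨ 1 ≤ b j := by omega
        rcases Nat.le_total (a j) (b j) with hle | hle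
        · obtain ⟨k, hk⟩ := Nat.exists_eq_add_of_le hle
          rw [hk] at h3 ⊢
          rcases Nat.eq_zero_or_pos (a j) with h4 | h4
          · rw [h4] at h3 ⊢
            have : 1 ≤ k := by omega
            nlinarith
          · nlinarith
        · obtain ⟨k, hk⟩ := Nat.exists_eq_add_of_le hle
          rw [hk] at h3 ⊢
          rcases Nat.eq_zero_or_pos (b j) with h4 | h4
          · rw [h4] at h3 ⊢
            have : 1 ≤ k := by omega
            nlinarith
          · nlinarith
    · refine ⟨i, Finset.mem_univ _, ?_⟩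
      have h3 : 2 ≤ a i ∨ 2 ≤ b i := by
        by_contra hc
        push Not at hc
        have := hi (by omega)
        omega
      have h4 : ¬ (a i = 0 ∧ b i = 0) := by omega
      rw [if_neg h4]
      rcases Nat.le_total (a i) (b i) with hle | hle
      · obtain ⟨k, hk⟩ := Nat.exists_eq_add_of_le hle
        rw [hk] at h3 ⊢
        rcases Nat.eq_zero_or_pos (a i) with h5 | h5
        · rw [h5] at h3 ⊢
          have : 2 ≤ k := by omega
          nlinarith
        · rcases Nat.eq_zero_or_pos k with h6 | h6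
          · rw [h6] at h3 ⊢
            have : 2 ≤ a i := by omega
            nlinarith
          · nlinarith
      · obtain ⟨k, hk⟩ := Nat.exists_eq_add_of_le hle
        rw [hk] at h3 ⊢
        rcases Nat.eq_zero_or_pos (b i) with h5 | h5
        · rw [h5] at h3 ⊢
          have : 2 ≤ k := by omega
          nlinarith
        · rcases Nat.eq_zero_or_pos k with h6 | h6
          · rw [h6] at h3 ⊢
            have : 2 ≤ b i := by omega
            nlinarith
          · nlinarith
  omega

section abstract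

variable {F : Type*} [Field F] [Fintype F] [DecidableEq F] {G : Type*} [Group G]

theorem apply_of_mS_quadratic {ψ : AddChar F ℂ} (hψ : ψ.IsPrimitive) (u : AddChar F G) (χ : G → ℂ)
    (a b : ℂ) (h : ∀ s : F, s ≠ 0 → mS ψ u χ s = (a + b) / 2 + (quadraticChar F s : ℂ) * ((a - b) / 2)) (x : F) :
    χ (u x) = mS ψ u χ 0 + (a + b) / 2 * ((if x = 0 then (Fintype.card F : ℂ) else 0) - 1) +
      (a - b) / 2 * ∑ s : F, (quadraticChar F s : ℂ) * ψ (s * x) := by
  rw [mS_inversion hψ u χ x, ← sum_addChar_mul hψ x, ← Finset.add_sum_erase _ _ (Finset.mem_univ (0 : F)),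
    ← Finset.add_sum_erase (a := (0 : F)) _ (fun s => ψ (s * x)) (Finset.mem_univ (0 : F)),
    ← Finset.add_sum_erase (a := (0 : F)) _ (fun s => (quadraticChar F s : ℂ) * ψ (s * x)) (Finset.mem_univ (0 : F))]
  simp only [zero_mul, AddChar.map_zero_eq_one, mul_one, add_sub_cancel_left, Finset.mul_sum, quadraticChar_zero,
    Int.cast_zero, zero_add]
  rw [add_assoc, ← Finset.sum_add_distrib]
  congr 1
  apply Finset.sum_congr rfl
  intro s hs
  rw [h s (Finset.ne_of_mem_erase hs)]
  ring

/-- The quadratic Gauss sum. -/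
noncomputable def GS (ψ : AddChar F ℂ) : ℂ := ∑ s : F, (quadraticChar F s : ℂ) * ψ s

theorem GS_sq (hF : ringChar F ≠ 2) {ψ : AddChar F ℂ} (hψ : ψ.IsPrimitive) :
    GS ψ ^ 2 = (-1 : ℂ) ^ ((Fintype.card F - 1) / 2) * (Fintype.card F : ℂ) := by
  have h1 := gaussSum_sq (χ := (quadraticChar F).ringHomComp (Int.castRingHom ℂ))
    ((MulChar.ringHomComp_ne_one_iff (Int.cast_injective)).mpr (quadraticChar_ne_one hF))
    ((quadraticChar_isQuadratic F).comp _) hψ
  have h2 : gaussSum ((quadraticChar F).ringHomComp (Int.castRingHom ℂ)) ψ = GS ψ := rfl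
  rw [h2] at h1
  rw [h1, MulChar.ringHomComp_apply, quadraticChar_neg_one hF,
    ZMod.χ₄_eq_neg_one_pow (FiniteField.odd_card_of_char_ne_two hF)]
  have h3 : Fintype.card F / 2 = (Fintype.card F - 1) / 2 := by
    have := FiniteField.odd_card_of_char_ne_two hF
    omega
  rw [h3]
  simp

end abstract

variable {F : Type*} [Field F] [Fintype F] [DecidableEq F]

theorem sum_units_sq_eq_one (h2 : (2 : F) ≠ 0) : ∑ a : Fˣ, (if (a : F) * a = 1 then (1 : ℂ) else 0) = 2 := by
  have h : (Finset.univ.filter (fun a : Fˣ => (a : F) * a = 1)) = {1, -1} := by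
    ext a
    simp only [Finset.mem_filter, Finset.mem_univ, true_and, Finset.mem_insert, Finset.mem_singleton]
    constructor
    · intro h
      have h3 : ((a : F) - 1) * ((a : F) + 1) = 0 := by linear_combination h
      rcases mul_eq_zero.mp h3 with h4 | h4
      · left; apply Units.ext; simpa [sub_eq_zero] using h4
      · right; apply Units.ext; rw [Units.val_neg, Units.val_one]; linear_combination h4
    · rintro (rfl | rfl) <;> simp
  rw [← Finset.sum_filter, h, Finset.sum_pair]
  · norm_num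
  · intro h1
    apply h2
    have := congrArg Units.val h1
    simp at this
    linear_combination this

omit [DecidableEq F] in
theorem sl2_mS_of_isSquare (ψ : AddChar F ℂ) {χ : SpecialLinearGroup (Fin 2) F → ℂ} (hχ : IsClassFunction _ χ) {s : F}
    (hs : s ≠ 0) (h : IsSquare s) : mS ψ uSLc χ s = mS ψ uSLc χ 1 := by
  obtain ⟨k, rfl⟩ := h
  have hk : k ≠ 0 := by
    rintro rfl
    simp at hs
  have := sl2_mS_sq ψ hχ hk 1
  rwa [one_mul] at this

omit [DecidableEq F] in
theorem sl2_mS_of_not_isSquare (hodd : Odd (Fintype.card F)) (ψ : AddChar F ℂ)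
    {χ : SpecialLinearGroup (Fin 2) F → ℂ} (hχ : IsClassFunction _ χ) {s ε : F}
    (h : ¬ IsSquare s) (hε : ¬ IsSquare ε) : mS ψ uSLc χ s = mS ψ uSLc χ ε := by
  obtain ⟨k, hk⟩ := isSquare_mul_of_not_isSquare hodd h hε
  have hs0 : s ≠ 0 := by rintro rfl; exact h IsSquare.zero
  have hε0 : ε ≠ 0 := by rintro rfl; exact hε IsSquare.zero
  have hk0 : k ≠ 0 := by
    rintro rfl
    simp [hs0, hε0] at hk
  have := sl2_mS_sq ψ hχ (div_ne_zero hk0 hε0) ε
  rw [← this]
  congr 1
  field_simp
  linear_combination hk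

theorem gram_SL_odd_self (hodd : Odd (Fintype.card F)) {ψ : AddChar F ℂ} (hψ : ψ.IsPrimitive) {s : F} (hs : s ≠ 0) :
    ∑ χ : IrrSL F, mS ψ uSLc χ s * conj (mS ψ uSLc χ s) = (Fintype.card F : ℂ) + 1 := by
  rw [gram_SL hψ]
  have : ∀ a : Fˣ, (if s * ((a : F) * a) = s then (1 : ℂ) else 0) = if (a : F) * a = 1 then 1 else 0 := by
    intro a
    congr 1
    rw [mul_eq_left₀ hs]
  simp only [this, sum_units_sq_eq_one (two_ne_zero_of_odd hodd)]
  ring

theorem gram_SL_odd_cross {ψ : AddChar F ℂ} (hψ : ψ.IsPrimitive) {ε : F} (hε : ¬ IsSquare ε) :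
    ∑ χ : IrrSL F, mS ψ uSLc χ 1 * conj (mS ψ uSLc χ ε) = (Fintype.card F : ℂ) - 1 := by
  rw [gram_SL hψ]
  have : ∀ a : Fˣ, (if ε * ((a : F) * a) = 1 then (1 : ℂ) else 0) = 0 := by
    intro a
    rw [if_neg]
    intro h
    apply hε
    refine ⟨(a : F)⁻¹, ?_⟩
    have ha := a.ne_zero
    field_simp
    linear_combination h
  simp only [this, Finset.sum_const_zero, add_zero]

end Cfsg.Agent.Lib.Helper44
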