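import Cfsg.Agent.Lib.Helper44.SL2OddData

set_option autoImplicit false

namespace Cfsg.Agent.Lib.Helper44

open Matrix Cfsg
open scoped ComplexConjugate

/-- The number of indices of a given type. -/
def cntT {ι : Type*} [Fintype ι] (m a b : ι → ℕ) (i j l : ℕ) : ℕ :=
  ∑ x, if m x = i ∧ a x = j ∧ b x = l then 1 else 0

theorem odd_counts {ι : Type*} [Fintype ι] (q : ℕ) (hq : Odd q) (m a b : ι → ℕ)
    (ht : ∀ x, OddType (m x) (a x) (b x))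
    (g1 : ∑ x, a x * a x = q + 1) (g2 : ∑ x, b x * b x = q + 1) (g3 : ∑ x, a x * b x = q - 1)
    (g4 : ∑ x, m x * a x = q - 1) (g5 : ∑ x, m x * b x = q - 1) (g6 : ∑ x, m x * m x = 2 * (q - 1))
    (g7 : Fintype.card ι = q + 4) :
    cntT m a b 1 0 0 = 1 ∧ cntT m a b 0 1 0 = 1 ∧ cntT m a b 0 0 1 = 1 ∧ cntT m a b 0 1 1 = (q - 1) / 2 ∧
    cntT m a b 1 1 0 = 1 ∧ cntT m a b 1 0 1 = 1 ∧ cntT m a b 1 1 1 = 1 ∧ cntT m a b 2 1 1 = (q - 3) / 2 := by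
  have p1 : ∀ x, a x * a x = (if m x = 0 ∧ a x = 1 ∧ b x = 0 then 1 else 0) + (if m x = 0 ∧ a x = 1 ∧ b x = 1 then 1 else 0) +
      (if m x = 1 ∧ a x = 1 ∧ b x = 0 then 1 else 0) + (if m x = 1 ∧ a x = 1 ∧ b x = 1 then 1 else 0) +
      (if m x = 2 ∧ a x = 1 ∧ b x = 1 then 1 else 0) := by
    intro x
    rcases ht x with ⟨h0, h1, h2⟩ | ⟨h0, h1, h2⟩ | ⟨h0, h1, h2⟩ | ⟨h0, h1, h2⟩ | ⟨h0, h1, h2⟩ | ⟨h0, h1, h2⟩ |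
      ⟨h0, h1, h2⟩ | ⟨h0, h1, h2⟩ <;> simp [h0, h1, h2]
  have p2 : ∀ x, b x * b x = (if m x = 0 ∧ a x = 0 ∧ b x = 1 then 1 else 0) + (if m x = 0 ∧ a x = 1 ∧ b x = 1 then 1 else 0) +
      (if m x = 1 ∧ a x = 0 ∧ b x = 1 then 1 else 0) + (if m x = 1 ∧ a x = 1 ∧ b x = 1 then 1 else 0) +
      (if m x = 2 ∧ a x = 1 ∧ b x = 1 then 1 else 0) := by
    intro x
    rcases ht x with ⟨h0, h1, h2⟩ | ⟨h0, h1, h2⟩ | ⟨h0, h1, h2⟩ | ⟨h0, h1, h2⟩ | ⟨h0, h1, h2⟩ | ⟨h0, h1, h2⟩ |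
      ⟨h0, h1, h2⟩ | ⟨h0, h1, h2⟩ <;> simp [h0, h1, h2]
  have p3 : ∀ x, a x * b x = (if m x = 0 ∧ a x = 1 ∧ b x = 1 then 1 else 0) +
      (if m x = 1 ∧ a x = 1 ∧ b x = 1 then 1 else 0) + (if m x = 2 ∧ a x = 1 ∧ b x = 1 then 1 else 0) := by
    intro x
    rcases ht x with ⟨h0, h1, h2⟩ | ⟨h0, h1, h2⟩ | ⟨h0, h1, h2⟩ | ⟨h0, h1, h2⟩ | ⟨h0, h1, h2⟩ | ⟨h0, h1, h2⟩ |
      ⟨h0, h1, h2⟩ | ⟨h0, h1, h2⟩ <;> simp [h0, h1, h2]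
  have p4 : ∀ x, m x * a x = (if m x = 1 ∧ a x = 1 ∧ b x = 0 then 1 else 0) +
      (if m x = 1 ∧ a x = 1 ∧ b x = 1 then 1 else 0) + 2 * (if m x = 2 ∧ a x = 1 ∧ b x = 1 then 1 else 0) := by
    intro x
    rcases ht x with ⟨h0, h1, h2⟩ | ⟨h0, h1, h2⟩ | ⟨h0, h1, h2⟩ | ⟨h0, h1, h2⟩ | ⟨h0, h1, h2⟩ | ⟨h0, h1, h2⟩ |
      ⟨h0, h1, h2⟩ | ⟨h0, h1, h2⟩ <;> simp [h0, h1, h2]
  have p5 : ∀ x, m x * b x = (if m x = 1 ∧ a x = 0 ∧ b x = 1 then 1 else 0) +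
      (if m x = 1 ∧ a x = 1 ∧ b x = 1 then 1 else 0) + 2 * (if m x = 2 ∧ a x = 1 ∧ b x = 1 then 1 else 0) := by
    intro x
    rcases ht x with ⟨h0, h1, h2⟩ | ⟨h0, h1, h2⟩ | ⟨h0, h1, h2⟩ | ⟨h0, h1, h2⟩ | ⟨h0, h1, h2⟩ | ⟨h0, h1, h2⟩ |
      ⟨h0, h1, h2⟩ | ⟨h0, h1, h2⟩ <;> simp [h0, h1, h2]
  have p6 : ∀ x, m x * m x = (if m x = 1 ∧ a x = 0 ∧ b x = 0 then 1 else 0) +
      (if m x = 1 ∧ a x = 1 ∧ b x = 0 then 1 else 0) + (if m x = 1 ∧ a x = 0 ∧ b x = 1 then 1 else 0) +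
      (if m x = 1 ∧ a x = 1 ∧ b x = 1 then 1 else 0) + 4 * (if m x = 2 ∧ a x = 1 ∧ b x = 1 then 1 else 0) := by
    intro x
    rcases ht x with ⟨h0, h1, h2⟩ | ⟨h0, h1, h2⟩ | ⟨h0, h1, h2⟩ | ⟨h0, h1, h2⟩ | ⟨h0, h1, h2⟩ | ⟨h0, h1, h2⟩ |
      ⟨h0, h1, h2⟩ | ⟨h0, h1, h2⟩ <;> simp [h0, h1, h2]
  have p7 : ∀ x, 1 = (if m x = 1 ∧ a x = 0 ∧ b x = 0 then 1 else 0) + (if m x = 0 ∧ a x = 1 ∧ b x = 0 then 1 else 0) +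
      (if m x = 0 ∧ a x = 0 ∧ b x = 1 then 1 else 0) + (if m x = 0 ∧ a x = 1 ∧ b x = 1 then 1 else 0) +
      (if m x = 1 ∧ a x = 1 ∧ b x = 0 then 1 else 0) + (if m x = 1 ∧ a x = 0 ∧ b x = 1 then 1 else 0) +
      (if m x = 1 ∧ a x = 1 ∧ b x = 1 then 1 else 0) + (if m x = 2 ∧ a x = 1 ∧ b x = 1 then 1 else 0) := by
    intro x
    rcases ht x with ⟨h0, h1, h2⟩ | ⟨h0, h1, h2⟩ | ⟨h0, h1, h2⟩ | ⟨h0, h1, h2⟩ | ⟨h0, h1, h2⟩ | ⟨h0, h1, h2⟩ |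
      ⟨h0, h1, h2⟩ | ⟨h0, h1, h2⟩ <;> simp [h0, h1, h2]
  have g7' : ∑ _x : ι, 1 = q + 4 := by simpa using g7
  rw [Finset.sum_congr rfl (fun x _ => p1 x)] at g1
  rw [Finset.sum_congr rfl (fun x _ => p2 x)] at g2
  rw [Finset.sum_congr rfl (fun x _ => p3 x)] at g3
  rw [Finset.sum_congr rfl (fun x _ => p4 x)] at g4
  rw [Finset.sum_congr rfl (fun x _ => p5 x)] at g5
  rw [Finset.sum_congr rfl (fun x _ => p6 x)] at g6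
  rw [Finset.sum_congr rfl (fun x _ => p7 x)] at g7'
  simp only [Finset.sum_add_distrib, ← Finset.mul_sum] at g1 g2 g3 g4 g5 g6 g7'
  unfold cntT
  generalize (∑ x, if m x = 1 ∧ a x = 0 ∧ b x = 0 then 1 else 0) = n100 at *
  generalize (∑ x, if m x = 0 ∧ a x = 1 ∧ b x = 0 then 1 else 0) = n010 at *
  generalize (∑ x, if m x = 0 ∧ a x = 0 ∧ b x = 1 then 1 else 0) = n001 at *
  generalize (∑ x, if m x = 0 ∧ a x = 1 ∧ b x = 1 then 1 else 0) = n011 at *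
  generalize (∑ x, if m x = 1 ∧ a x = 1 ∧ b x = 0 then 1 else 0) = n110 at *
  generalize (∑ x, if m x = 1 ∧ a x = 0 ∧ b x = 1 then 1 else 0) = n101 at *
  generalize (∑ x, if m x = 1 ∧ a x = 1 ∧ b x = 1 then 1 else 0) = n111 at *
  generalize (∑ x, if m x = 2 ∧ a x = 1 ∧ b x = 1 then 1 else 0) = n211 at *
  obtain ⟨k, rfl⟩ := hq
  omega

/-- If only one index has a given type, two indices of that type are equal. -/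
theorem eq_of_cntT_eq_one {ι : Type*} [Fintype ι] {m a b : ι → ℕ} {i j l : ℕ} (h : cntT m a b i j l = 1)
    {x y : ι} (hx : m x = i ∧ a x = j ∧ b x = l) (hy : m y = i ∧ a y = j ∧ b y = l) : x = y := by
  classical
  unfold cntT at h
  rw [Finset.sum_boole] at h
  have h1 : (Finset.univ.filter (fun x => m x = i ∧ a x = j ∧ b x = l)).card = 1 := by exact_mod_cast h
  rw [Finset.card_eq_one] at h1
  obtain ⟨z, hz⟩ := h1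
  have hx' : x ∈ Finset.univ.filter (fun x => m x = i ∧ a x = j ∧ b x = l) := by simp [hx]
  have hy' : y ∈ Finset.univ.filter (fun x => m x = i ∧ a x = j ∧ b x = l) := by simp [hy]
  rw [hz, Finset.mem_singleton] at hx' hy'
  rw [hx', hy']

end Cfsg.Agent.Lib.Helper44
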