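import Cfsg.Agent.Lib.Helper44.SL2Odd

set_option autoImplicit false

namespace Cfsg.Agent.Lib.Helper44

open Matrix Cfsg
open scoped ComplexConjugate

variable {F : Type*} [Field F] [Fintype F] [DecidableEq F]

/-- The eight possible types of irreducible characters of `SL₂(q)`, `q` odd. -/
def OddType (m a b : ℕ) : Prop :=
  (m = 1 ∧ a = 0 ∧ b = 0) ∨ (m = 0 ∧ a = 1 ∧ b = 0) ∨ (m = 0 ∧ a = 0 ∧ b = 1) ∨ (m = 0 ∧ a = 1 ∧ b = 1) ∨
  (m = 1 ∧ a = 1 ∧ b = 0) ∨ (m = 1 ∧ a = 0 ∧ b = 1) ∨ (m = 1 ∧ a = 1 ∧ b = 1) ∨ (m = 2 ∧ a = 1 ∧ b = 1)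

theorem natCast_sum_mul_eq {ι : Type*} [Fintype ι] (f g : ι → ℕ) (n : ℕ) (z : ℂ) (hz : z = n)
    (h : ∑ i, (f i : ℂ) * (g i : ℂ) = z) : ∑ i, f i * g i = n := by
  have : ((∑ i, f i * g i : ℕ) : ℂ) = (n : ℂ) := by
    push_cast
    rw [h, hz]
  exact_mod_cast this

/-- All the numerical data on the irreducible characters of `SL₂` in odd characteristic. -/
theorem sl2_odd_data (hodd : Odd (Fintype.card F)) {ψ : AddChar F ℂ} (hψ : ψ.IsPrimitive) {ε : F}
    (hε : ¬ IsSquare ε) :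
    ∃ m₀ a b : IrrSL F → ℕ,
      (∀ χ : IrrSL F, mS ψ uSLc χ 0 = m₀ χ) ∧ (∀ χ : IrrSL F, mS ψ uSLc χ 1 = a χ) ∧
      (∀ χ : IrrSL F, mS ψ uSLc χ ε = b χ) ∧
      (∀ χ, OddType (m₀ χ) (a χ) (b χ)) ∧
      (∀ χ : IrrSL F, (χ : SpecialLinearGroup (Fin 2) F → ℂ) 1 =
        ((m₀ χ + (Fintype.card F - 1) / 2 * (a χ + b χ) : ℕ) : ℂ)) ∧
      (∀ χ : IrrSL F, 2 * (χ : SpecialLinearGroup (Fin 2) F → ℂ) (uSL 1) =
        2 * (m₀ χ : ℂ) - ((a χ : ℂ) + b χ) + ((a χ : ℂ) - b χ) * GS ψ) ∧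
      (∀ χ : IrrSL F, a χ = 0 → b χ = 0 → (χ : SpecialLinearGroup (Fin 2) F → ℂ) = fun _ => 1) ∧
      (∀ χ : IrrSL F, m₀ χ = 2 → ∃ α : MulChar F ℂ, (χ : SpecialLinearGroup (Fin 2) F → ℂ) = indFun (borelSL F) (borelHomSL α)) ∧
      ∑ χ, a χ * a χ = Fintype.card F + 1 ∧ ∑ χ, b χ * b χ = Fintype.card F + 1 ∧
      ∑ χ, a χ * b χ = Fintype.card F - 1 ∧ ∑ χ, m₀ χ * a χ = Fintype.card F - 1 ∧
      ∑ χ, m₀ χ * b χ = Fintype.card F - 1 ∧ ∑ χ, m₀ χ * m₀ χ = 2 * (Fintype.card F - 1) ∧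
      Fintype.card (IrrSL F) = Fintype.card F + 4 := by
  classical
  have hF := ringChar_ne_two_of_odd hodd
  have hε0 : ε ≠ 0 := by rintro rfl; exact hε IsSquare.zero
  have hch : ∀ χ : IrrSL F, IsCharacter _ (χ : SpecialLinearGroup (Fin 2) F → ℂ) :=
    fun χ => Cfsg.Agent.Lib.Helper82.isIrr_isChar χ.2
  have hcl := fun χ => Cfsg.Agent.Lib.Helper20.isClassFunction_of_isCharacter (hch χ)
  choose m₀ hm₀ using fun χ : IrrSL F => mS_nat ψ uSLc (hch χ) 0
  choose a ha using fun χ : IrrSL F => mS_nat ψ uSLc (hch χ) 1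
  choose b hb using fun χ : IrrSL F => mS_nat ψ uSLc (hch χ) ε
  have hq : 1 ≤ Fintype.card F := Fintype.card_pos
  have hquad : ∀ χ : IrrSL F, ∀ s : F, s ≠ 0 → mS ψ uSLc χ s =
      ((a χ : ℂ) + b χ) / 2 + (quadraticChar F s : ℂ) * (((a χ : ℂ) - b χ) / 2) := by
    intro χ s hs
    by_cases h : IsSquare s
    · rw [sl2_mS_of_isSquare ψ (hcl χ) hs h, ha, (quadraticChar_one_iff_isSquare hs).mpr h]
      push_cast
      ring
    · rw [sl2_mS_of_not_isSquare hodd ψ (hcl χ) h hε, hb, quadraticChar_neg_one_iff_not_isSquare.mpr h]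
      push_cast
      ring
  have hval := fun χ : IrrSL F =>
    apply_of_mS_quadratic hψ uSLc (χ : SpecialLinearGroup (Fin 2) F → ℂ) (a χ) (b χ) (hquad χ)
  have hdeg : ∀ χ : IrrSL F, (χ : SpecialLinearGroup (Fin 2) F → ℂ) 1 =
      ((m₀ χ + (Fintype.card F - 1) / 2 * (a χ + b χ) : ℕ) : ℂ) := by
    intro χ
    have := hval χ 0
    rw [AddChar.map_zero_eq_one, if_pos rfl, hm₀] at this
    simp only [mul_zero, AddChar.map_zero_eq_one, mul_one] at this
    have h0 : ∑ s : F, (quadraticChar F s : ℂ) = 0 := by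
      have := quadraticChar_sum_zero hF
      exact_mod_cast this
    rw [h0, mul_zero, add_zero] at this
    rw [this]
    obtain ⟨k, hk⟩ := hodd
    have e : (Fintype.card F - 1) / 2 = k := by omega
    rw [e, hk]
    push_cast
    ring
  have hu : ∀ χ : IrrSL F, 2 * (χ : SpecialLinearGroup (Fin 2) F → ℂ) (uSL 1) =
        2 * (m₀ χ : ℂ) - ((a χ : ℂ) + b χ) + ((a χ : ℂ) - b χ) * GS ψ := by
    intro χ
    have := hval χ 1
    rw [if_neg one_ne_zero, hm₀, uSLc_apply] at this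
    simp only [mul_one] at this
    rw [this]
    unfold GS
    ring
  have htriv : ∀ χ : IrrSL F, a χ = 0 → b χ = 0 →
      ∀ x : F, (χ : SpecialLinearGroup (Fin 2) F → ℂ) (uSL x) = (χ : SpecialLinearGroup (Fin 2) F → ℂ) 1 := by
    intro χ h1 h2 x
    have e1 := hval χ x
    have e2 := hval χ 0
    rw [AddChar.map_zero_eq_one] at e2
    rw [uSLc_apply] at e1
    rw [e1, e2, h1, h2]
    simp
  have g1 : ∑ χ, a χ * a χ = Fintype.card F + 1 := by
    apply natCast_sum_mul_eq a a _ ((Fintype.card F : ℂ) + 1) (by push_cast; ring)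
    have := gram_SL_odd_self hodd hψ (one_ne_zero (α := F))
    simpa only [ha, Complex.conj_natCast] using this
  have g2 : ∑ χ, b χ * b χ = Fintype.card F + 1 := by
    apply natCast_sum_mul_eq b b _ ((Fintype.card F : ℂ) + 1) (by push_cast; ring)
    have := gram_SL_odd_self hodd hψ hε0
    simpa only [hb, Complex.conj_natCast] using this
  have g3 : ∑ χ, a χ * b χ = Fintype.card F - 1 := by
    apply natCast_sum_mul_eq a b _ ((Fintype.card F : ℂ) - 1) (by push_cast [Nat.cast_sub hq]; ring)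
    have := gram_SL_odd_cross hψ hε
    simpa only [ha, hb, Complex.conj_natCast] using this
  have g4 : ∑ χ, m₀ χ * a χ = Fintype.card F - 1 := by
    apply natCast_sum_mul_eq m₀ a _ ((Fintype.card F : ℂ) - 1) (by push_cast [Nat.cast_sub hq]; ring)
    have := gram_SL_zero_ne hψ (one_ne_zero (α := F))
    simpa only [ha, hm₀, Complex.conj_natCast] using this
  have g5 : ∑ χ, m₀ χ * b χ = Fintype.card F - 1 := by
    apply natCast_sum_mul_eq m₀ b _ ((Fintype.card F : ℂ) - 1) (by push_cast [Nat.cast_sub hq]; ring)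
    have := gram_SL_zero_ne hψ hε0
    simpa only [hb, hm₀, Complex.conj_natCast] using this
  have g6 : ∑ χ, m₀ χ * m₀ χ = 2 * (Fintype.card F - 1) := by
    apply natCast_sum_mul_eq m₀ m₀ _ (2 * ((Fintype.card F : ℂ) - 1)) (by push_cast [Nat.cast_sub hq]; ring)
    have := gram_SL_zero_zero hψ
    simpa only [hm₀, Complex.conj_natCast] using this
  have g7 : Fintype.card (IrrSL F) = Fintype.card F + 4 := by
    rw [← Nat.card_eq_fintype_card, Cfsg.Agent.Lib.Helper20.card_irrCharacter, Cfsg.Agent.S2325.result hodd]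
  have h5 : Fintype.card {χ // a χ = 0 ∧ b χ = 0} ≤ 1 := by
    rw [← Nat.card_eq_fintype_card]
    exact sl2_card_U_trivial_le (fun χ : {χ // a χ = 0 ∧ b χ = 0} => χ.1) Subtype.val_injective
      (fun χ => htriv χ.1 χ.2.1 χ.2.2)
  have hab := le_one_of_sum_sq_two a b (by
    simp only [sq]
    rw [g1, g2, g3, g7]; omega)
  have hR : ∀ χ : IrrSL F, m₀ χ = 2 →
      ∃ α : MulChar F ℂ, (χ : SpecialLinearGroup (Fin 2) F → ℂ) = indFun (borelSL F) (borelHomSL α) := by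
    intro χ hm
    rcases sl2_m0 hψ χ.2 with h | h | ⟨-, h⟩
    · rw [hm₀, hm] at h; norm_num at h
    · rw [hm₀, hm] at h; norm_num at h
    · exact h
  have h1' : ∀ χ : IrrSL F, a χ = 0 → b χ = 0 → (χ : SpecialLinearGroup (Fin 2) F → ℂ) = fun _ => 1 :=
    fun χ h1 h2 => sl2_trivial_of_U χ.2 (htriv χ h1 h2)
  refine ⟨m₀, a, b, hm₀, ha, hb, ?_, hdeg, hu, h1', hR, g1, g2, g3, g4, g5, g6, g7⟩
  intro χ
  have hm2 : m₀ χ ≤ 2 := by
    rcases sl2_m0 hψ χ.2 with h | h | ⟨h, -⟩ <;> rw [hm₀] at h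
    · have : m₀ χ = 0 := by exact_mod_cast h
      omega
    · have : m₀ χ = 1 := by exact_mod_cast h
      omega
    · have : m₀ χ = 2 := by exact_mod_cast h
      omega
  obtain ⟨ha1, hb1⟩ := hab χ
  have c1 : a χ = 0 → b χ = 0 → m₀ χ = 1 := by
    intro h1 h2
    have h3 := hdeg χ
    rw [h1' χ h1 h2, h1, h2] at h3
    have h3' : (1 : ℂ) = ((m₀ χ + (Fintype.card F - 1) / 2 * (0 + 0) : ℕ) : ℂ) := h3
    have h4 : 1 = m₀ χ + (Fintype.card F - 1) / 2 * (0 + 0) := by exact_mod_cast h3'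
    omega
  have c2 : m₀ χ = 2 → a χ = 1 ∧ b χ = 1 := by
    intro h
    obtain ⟨α, hα⟩ := hR χ h
    have e1 := ha χ
    have e2 := hb χ
    rw [hα, mS_RSL hψ] at e1 e2
    rw [if_neg one_ne_zero] at e1
    rw [if_neg hε0] at e2
    constructor
    · have : ((1 : ℕ) : ℂ) = a χ := by rw [← e1]; simp
      exact_mod_cast this.symm
    · have : ((1 : ℕ) : ℂ) = b χ := by rw [← e2]; simp
      exact_mod_cast this.symm
  unfold OddType
  omega

end Cfsg.Agent.Lib.Helper44
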