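import Cfsg.Agent.Lib.Helper44.GL2PS

set_option autoImplicit false

namespace Cfsg.Agent.Lib.Helper44

open Matrix Cfsg
open scoped ComplexConjugate

theorem eq_zero_of_classInner_self {G : Type*} [Group G] [Fintype G] {φ : G → ℂ} (h : classInner φ φ = 0) :
    φ = 0 := by
  unfold classInner at h
  have hc : (Nat.card G : ℂ)⁻¹ ≠ 0 := inv_ne_zero (by exact_mod_cast Nat.card_pos.ne')
  have h1 : ∑ g : G, φ g * conj (φ g) = 0 := (mul_eq_zero.mp h).resolve_left hc
  have h2 : ∑ g : G, ‖φ g‖ ^ 2 = 0 := by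
    have : ((∑ g : G, ‖φ g‖ ^ 2 : ℝ) : ℂ) = 0 := by
      rw [← h1]
      push_cast
      apply Finset.sum_congr rfl
      intro g _
      rw [Complex.mul_conj, Complex.normSq_eq_norm_sq]
      push_cast
      rfl
    exact_mod_cast this
  funext g
  have h3 := (Finset.sum_eq_zero_iff_of_nonneg (fun g _ => by positivity)).mp h2 g (Finset.mem_univ _)
  simpa using h3

variable {F : Type*} [Field F]

theorem sl2_isConj_u {k : F} (hk : k ≠ 0) (x : F) : IsConj (uSLc x) (uSLc (k * k * x)) := by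
  rw [isConj_iff]
  refine ⟨triSL (Units.mk0 k hk) 0, ?_⟩
  rw [mul_inv_eq_iff_eq_mul]
  apply Subtype.ext
  ext i j; fin_cases i <;> fin_cases j <;>
    simp [Matrix.SpecialLinearGroup.coe_mul, Matrix.mul_apply, Fin.sum_univ_two]
  field_simp

theorem sl2_isConj_tri {a : Fˣ} (h : a ≠ a⁻¹) (x : F) : IsConj (triSL a x) (triSL a 0) := by
  rw [isConj_comm, isConj_iff]
  have hne : ((a⁻¹ : Fˣ) : F) - a ≠ 0 := sub_ne_zero.mpr (fun e => h (Units.ext e.symm))
  obtain ⟨c, hc⟩ : ∃ c, c * (((a⁻¹ : Fˣ) : F) - a) = x := ⟨x / _, div_mul_cancel₀ _ hne⟩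
  refine ⟨uSL c, ?_⟩
  rw [mul_inv_eq_iff_eq_mul]
  apply Subtype.ext
  ext i j; fin_cases i <;> fin_cases j <;>
    simp only [Matrix.SpecialLinearGroup.coe_mul, Matrix.mul_apply, Fin.sum_univ_two, coe_uSL, coe_triSL] <;> simp
  simp only [Units.val_inv_eq_inv_val] at hc
  linear_combination hc

theorem sl2_eq_triSL {g : SpecialLinearGroup (Fin 2) F} (h10 : (g : Matrix (Fin 2) (Fin 2) F) 1 0 = 0) :
    ∃ a : Fˣ, (a : F) = (g : Matrix (Fin 2) (Fin 2) F) 0 0 ∧
      g = triSL a ((g : Matrix (Fin 2) (Fin 2) F) 0 1) := by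
  have hd := g.det_coe
  rw [Matrix.det_fin_two, h10, mul_zero, sub_zero] at hd
  have h0 : (g : Matrix (Fin 2) (Fin 2) F) 0 0 ≠ 0 := by
    intro h; rw [h] at hd; simp at hd
  refine ⟨Units.mk0 _ h0, rfl, ?_⟩
  apply Subtype.ext
  ext i j; fin_cases i <;> fin_cases j <;> simp [h10]
  exact eq_inv_of_mul_eq_one_right hd

section fin

variable [Fintype F] [DecidableEq F]

omit [DecidableEq F] in
theorem sl2_mS_sq (ψ : AddChar F ℂ) {χ : SpecialLinearGroup (Fin 2) F → ℂ} (hχ : IsClassFunction _ χ) {k : F}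
    (hk : k ≠ 0) (s : F) : mS ψ uSLc χ (s * (k * k)) = mS ψ uSLc χ s :=
  mS_mul_of_isConj ψ uSLc hχ (mul_ne_zero hk hk) (sl2_isConj_u hk) s

theorem isCharacter_RSL (α : MulChar F ℂ) : IsCharacter _ (indFun (borelSL F) (borelHomSL α)) :=
  Cfsg.Agent.Lib.Helper19.isCharacter_indFun _ _ (isCharacter_monoidHom _)

theorem RSL_u (α : MulChar F ℂ) (x : F) :
    indFun (borelSL F) (borelHomSL α) (uSL x) = 1 + if x = 0 then (Fintype.card F : ℂ) else 0 := by
  rw [← triSL_one]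
  split_ifs with hx
  · subst hx
    rw [indFun_borelSL_scalar α (by simp)]
    simp
    ring
  · rw [indFun_borelSL_unip α (by simp) hx]
    simp

theorem RSL_one (α : MulChar F ℂ) : indFun (borelSL F) (borelHomSL α) 1 = (Fintype.card F : ℂ) + 1 := by
  have h := RSL_u α 0
  have h1 : uSL (0 : F) = 1 := (uSLc (F := F)).map_zero_eq_one
  rw [h1, if_pos rfl] at h
  rw [h]; ring

theorem mS_RSL {ψ : AddChar F ℂ} (hψ : ψ.IsPrimitive) (α : MulChar F ℂ) (s : F) :
    mS ψ uSLc (indFun (borelSL F) (borelHomSL α)) s = 1 + if s = 0 then 1 else 0 := by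
  unfold mS
  simp only [uSLc_apply, RSL_u, add_mul, one_mul, Finset.sum_add_distrib, ite_mul, zero_mul, Finset.sum_ite_eq',
    Finset.mem_univ, if_true, mul_zero, AddChar.map_zero_eq_one, map_one, mul_one]
  have h := sum_conj_mul_addChar hψ s 0
  simp only [zero_mul, AddChar.map_zero_eq_one, mul_one] at h
  rw [h]
  have hq := card_F_ne_zero (F := F)
  by_cases hs : s = 0
  · rw [if_pos hs, if_pos hs.symm]
    field_simp
  · rw [if_neg hs, if_neg (Ne.symm hs)]
    field_simp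
    simp

theorem sl2_jacquet_regular {χ : SpecialLinearGroup (Fin 2) F → ℂ} (hχ : IsClassFunction _ χ) {a : Fˣ}
    (h : a ≠ a⁻¹) :
    ∑ α : MulChar F ℂ, classInner χ (indFun (borelSL F) (borelHomSL α)) * α a = χ (triSL a 0) := by
  rw [jacquet_SL χ hχ]
  simp only [Cfsg.Agent.Lib.Helper20.isClassFunction_isConj hχ (sl2_isConj_tri h _), Finset.sum_const,
    Finset.card_univ, nsmul_eq_mul]
  rw [← mul_assoc, inv_mul_cancel₀ card_F_ne_zero, one_mul]

/-- The multiplicities of a character of `SL₂` in the principal series. -/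
theorem sl2_exists_r (ψ : AddChar F ℂ) {χ : SpecialLinearGroup (Fin 2) F → ℂ} (hχ : IsCharacter _ χ) :
    ∃ r : MulChar F ℂ → ℕ,
      (∀ α, classInner χ (indFun (borelSL F) (borelHomSL α)) = r α) ∧
      (mS ψ uSLc χ 0 = ((∑ α, r α : ℕ) : ℂ)) ∧
      (∀ a : Fˣ, a ≠ a⁻¹ → χ (triSL a 0) = ∑ α, (r α : ℂ) * α a) := by
  choose r hr using fun α : MulChar F ℂ =>
    Cfsg.Agent.Lib.Helper20.isCharacter_classInner_nat' hχ (isCharacter_RSL α)
  have hcl := Cfsg.Agent.Lib.Helper20.isClassFunction_of_isCharacter hχ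
  refine ⟨r, hr, ?_, ?_⟩
  · have h := jacquet_SL χ hcl 1
    simp only [triSL_one] at h
    have h2 : mS ψ uSLc χ 0 = (Fintype.card F : ℂ)⁻¹ * ∑ x : F, χ (uSL x) := by simp [mS]
    rw [h2, ← h]
    push_cast
    apply Finset.sum_congr rfl
    intro p _
    rw [hr]
    simp
  · intro a h
    rw [← sl2_jacquet_regular hcl h]
    apply Finset.sum_congr rfl
    intro p _
    rw [hr]

theorem sl2_exists_add_of_r {χ : SpecialLinearGroup (Fin 2) F → ℂ} (hχ : IsIrrCharacter _ χ) {α : MulChar F ℂ}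
    (h : classInner χ (indFun (borelSL F) (borelHomSL α)) ≠ 0) :
    ∃ φ : SpecialLinearGroup (Fin 2) F → ℂ, IsCharacter _ φ ∧ indFun (borelSL F) (borelHomSL α) = χ + φ := by
  apply exists_add_of_classInner_ne_zero (isCharacter_RSL α) hχ
  rw [← Cfsg.Agent.Lib.Helper20.classInner_conj_symm]
  simpa using h

/-- A character with no `U`-invariants which is a summand of a principal series character vanishes. -/
theorem sl2_eq_zero_of_m0 (ψ : AddChar F ℂ) {χ φ : SpecialLinearGroup (Fin 2) F → ℂ} (hχ : IsCharacter _ χ)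
    (hφ : IsCharacter _ φ) {α : MulChar F ℂ} (hR : indFun (borelSL F) (borelHomSL α) = χ + φ)
    (h0 : mS ψ uSLc φ 0 = 0) : φ = 0 := by
  obtain ⟨r, hr, hsum, -⟩ := sl2_exists_r ψ hφ
  rw [h0] at hsum
  have hsum' : ∑ α, r α = 0 := by exact_mod_cast hsum.symm
  have h1 : r α = 0 := (Finset.sum_eq_zero_iff.mp hsum') α (Finset.mem_univ _)
  have h2 := hr α
  rw [h1, hR, Cfsg.Agent.Lib.Helper20.classInner_add_right] at h2
  obtain ⟨n₁, hn₁⟩ := Cfsg.Agent.Lib.Helper20.isCharacter_classInner_nat' hφ hχ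
  obtain ⟨n₂, hn₂⟩ := Cfsg.Agent.Lib.Helper20.isCharacter_classInner_nat' hφ hφ
  rw [hn₁, hn₂] at h2
  have h3 : n₁ + n₂ = 0 := by exact_mod_cast h2
  apply eq_zero_of_classInner_self
  rw [hn₂]
  have : n₂ = 0 := by omega
  simp [this]

/-- The multiplicity of the trivial character of `U` in an irreducible character of `SL₂`. -/
theorem sl2_m0 {ψ : AddChar F ℂ} (hψ : ψ.IsPrimitive) {χ : SpecialLinearGroup (Fin 2) F → ℂ}
    (hχ : IsIrrCharacter _ χ) :
    mS ψ uSLc χ 0 = 0 ∨ mS ψ uSLc χ 0 = 1 ∨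
      (mS ψ uSLc χ 0 = 2 ∧ ∃ α : MulChar F ℂ, χ = indFun (borelSL F) (borelHomSL α)) := by
  have hch := Cfsg.Agent.Lib.Helper82.isIrr_isChar hχ
  obtain ⟨r, hr, hsum, -⟩ := sl2_exists_r ψ hch
  by_cases h0 : ∑ α, r α = 0
  · left; rw [hsum, h0]; simp
  · right
    have h4 : ∃ α, r α ≠ 0 := by
      by_contra hcon
      push Not at hcon
      simp [hcon] at h0
    obtain ⟨α, hα⟩ := h4
    obtain ⟨φ, hφ, hR⟩ := sl2_exists_add_of_r hχ (α := α) (by rw [hr]; exact_mod_cast hα)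
    have h5 := mS_RSL hψ α 0
    rw [if_pos rfl, hR] at h5
    obtain ⟨k, l, hk, hl, hkl⟩ := mS_le_of_add ψ uSLc hch hφ 0 (n := 2) (by rw [h5]; norm_num)
    have hk0 : k ≠ 0 := by
      intro hk0
      rw [hk, hk0] at hsum
      apply h0
      exact_mod_cast hsum.symm
    have hk' : k = 1 ∨ k = 2 := by omega
    rcases hk' with rfl | rfl
    · left; rw [hk]; simp
    · right
      refine ⟨by rw [hk]; simp, α, ?_⟩
      have hl0 : l = 0 := by omega
      rw [hl0] at hl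
      have := sl2_eq_zero_of_m0 ψ hch hφ hR (by simpa using hl)
      rw [hR, this, add_zero]

omit [Fintype F] [DecidableEq F] in
theorem sl2_trivial_of_U [Finite F] {χ : SpecialLinearGroup (Fin 2) F → ℂ} (hχ : IsIrrCharacter _ χ)
    (h : ∀ x : F, χ (uSL x) = χ 1) : χ = fun _ => 1 := by
  have hch := Cfsg.Agent.Lib.Helper82.isIrr_isChar hχ
  have h1 := sl2_char_const_of_U hch h
  have h2 : χ 1 = 1 := by
    rw [Cfsg.Agent.Lib.Helper82.isIrr_linear_iff hχ]
    intro x _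
    exact h1 x
  funext g
  rw [h1 g, h2]

end fin

end Cfsg.Agent.Lib.Helper44
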