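import Cfsg.Agent.Lib.Helper44.SUf

/-!
# Multiplicities of weights
-/

set_option autoImplicit false
set_option linter.unusedSectionVars false

namespace Cfsg.Agent.Lib.Helper44

open Matrix

section idem

variable {d : ℕ}

theorem trace_eq_rank_of_idem (e : Matrix (Fin d) (Fin d) ℂ) (he : e * e = e) :
    e.trace = (e.rank : ℂ) := by
  have hp : LinearMap.IsProj (LinearMap.range e.mulVecLin) e.mulVecLin := by
    rw [LinearMap.isProj_range_iff_isIdempotentElem]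
    show e.mulVecLin * e.mulVecLin = e.mulVecLin
    rw [Module.End.mul_eq_comp, ← Matrix.mulVecLin_mul, he]
  have h := hp.trace
  rw [Matrix.rank, ← h]
  exact (Matrix.trace_toLin'_eq e).symm

theorem card_le_finrank_sq_aux {K V : Type*} [Field K] [AddCommGroup V] [Module K V]
    [FiniteDimensional K V] (W : Submodule K V) {I : Type*} [Fintype I] (t : I → V →ₗ[K] V)
    (hpres : ∀ i, ∀ x ∈ W, t i x ∈ W)
    (hind : ∀ g : I → K, (∀ x ∈ W, ∑ i, g i • t i x = 0) → ∀ i, g i = 0) :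
    Fintype.card I ≤ Module.finrank K W * Module.finrank K W := by
  have hli : LinearIndependent K (fun i => (t i).restrict (hpres i)) := by
    refine Fintype.linearIndependent_iff.2 ?_
    intro g hg
    apply hind
    intro x hx
    have h2 := congrArg Subtype.val (LinearMap.congr_fun hg ⟨x, hx⟩)
    rw [LinearMap.sum_apply] at h2
    simpa using h2
  have h := hli.fintype_card_le_finrank
  rwa [Module.finrank_linearMap] at h

theorem card_le_rank_sq {K : Type*} [Field K] (e : Matrix (Fin d) (Fin d) K) {I : Type*} [Fintype I]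
    [DecidableEq I]
    (T T' : I → Matrix (Fin d) (Fin d) K) (hT : ∀ i, T i * e = e * T i)
    (hoff : ∀ i j, i ≠ j → (T' j * (T i * e)).trace = 0)
    (hdiag : ∀ i, (T' i * (T i * e)).trace ≠ 0) : Fintype.card I ≤ e.rank ^ 2 := by
  have hpres : ∀ i, ∀ x ∈ LinearMap.range e.mulVecLin,
      (T i).mulVecLin x ∈ LinearMap.range e.mulVecLin := by
    rintro i _ ⟨u, rfl⟩
    refine ⟨T i *ᵥ u, ?_⟩
    simp only [mulVecLin_apply, mulVec_mulVec, hT]
  rw [sq]
  refine card_le_finrank_sq_aux (LinearMap.range e.mulVecLin) (fun i => (T i).mulVecLin) hpres ?_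
  intro g hg j
  have h1 : ∑ i, g i • (T i * e) = 0 := by
    rw [Matrix.ext_iff_mulVec]
    intro x
    have h2 := hg (e *ᵥ x) ⟨x, rfl⟩
    rw [zero_mulVec, Matrix.sum_mulVec, ← h2]
    refine Finset.sum_congr rfl fun i _ => ?_
    rw [smul_mulVec, ← mulVec_mulVec]
    rfl
  have h3 : (T' j * ∑ i, g i • (T i * e)).trace = 0 := by rw [h1, mul_zero, trace_zero]
  rw [Finset.mul_sum, trace_sum, Finset.sum_eq_single j] at h3
  · rw [Matrix.mul_smul, trace_smul, smul_eq_mul] at h3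
    exact (mul_eq_zero.mp h3).resolve_right (hdiag j)
  · intro i _ hij
    rw [Matrix.mul_smul, trace_smul, hoff i j hij, smul_zero]
  · intro h; exact absurd (Finset.mem_univ j) h

end idem

section weights

variable {F : Type*} [Field F] [Fintype F] [DecidableEq F]
  {ι : Type*} [Fintype ι] [DecidableEq ι] {G : Type*} [Group G] {d : ℕ}
  (ψ : AddChar F ℂ) (a : (ι → F) → G) (R : G →* Matrix (Fin d) (Fin d) ℂ)

/-- the projection onto a weight space -/
noncomputable def eOp (c : ι → F) : Matrix (Fin d) (Fin d) ℂ :=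
  (Fintype.card (ι → F) : ℂ)⁻¹ • wOp ψ a R c

theorem card_fun_ne_zero : (Fintype.card (ι → F) : ℂ) ≠ 0 := by
  have : 0 < Fintype.card (ι → F) := Fintype.card_pos
  exact_mod_cast this.ne'

theorem eOp_ne_zero {c : ι → F} (h : wOp ψ a R c ≠ 0) : eOp ψ a R c ≠ 0 :=
  smul_ne_zero (inv_ne_zero card_fun_ne_zero) h

variable {ψ}

theorem eOp_idem (hψ : ψ.IsPrimitive) (ha : ∀ x y, a (x + y) = a x * a y) (c : ι → F) :
    eOp ψ a R c * eOp ψ a R c = eOp ψ a R c := by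
  unfold eOp
  rw [Matrix.smul_mul, Matrix.mul_smul, wOp_mul_wOp a R hψ ha, if_pos rfl, smul_smul, smul_smul,
    mul_assoc, inv_mul_cancel₀ card_fun_ne_zero, mul_one]

theorem sum_eOp (hψ : ψ.IsPrimitive) (ha : ∀ x y, a (x + y) = a x * a y) :
    ∑ c, eOp ψ a R c = 1 := by
  unfold eOp
  rw [← Finset.smul_sum, sum_wOp a R hψ ha, smul_smul, inv_mul_cancel₀ card_fun_ne_zero, one_smul]

variable (ψ)

theorem map_mul_eOp (ha : ∀ x y, a (x + y) = a x * a y) (c y : ι → F) :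
    R (a y) * eOp ψ a R c = ψ (c ⬝ᵥ y) • eOp ψ a R c := by
  unfold eOp
  rw [Matrix.mul_smul, map_mul_wOp ψ a R ha, smul_comm]

theorem comm_eOp (g : G) (hg : ∀ y, g * a y = a y * g) (c : ι → F) :
    R g * eOp ψ a R c = eOp ψ a R c * R g := by
  unfold eOp wOp
  rw [Matrix.mul_smul, Matrix.smul_mul, Finset.mul_sum, Finset.sum_mul]
  congr 1
  refine Finset.sum_congr rfl fun y _ => ?_
  rw [Matrix.mul_smul, Matrix.smul_mul, ← map_mul, ← map_mul, hg]

variable {ψ}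

theorem sum_rank_eOp (hψ : ψ.IsPrimitive) (ha : ∀ x y, a (x + y) = a x * a y) :
    ∑ c, (eOp ψ a R c).rank = d := by
  have h := congrArg Matrix.trace (sum_eOp a R hψ ha)
  rw [trace_sum, trace_one, Fintype.card_fin] at h
  have h2 : ∑ c, ((eOp ψ a R c).rank : ℂ) = d := by
    rw [← h]
    exact Finset.sum_congr rfl fun c _ => (trace_eq_rank_of_idem _ (eOp_idem a R hψ ha c)).symm
  exact_mod_cast h2

variable (ψ)

theorem trace_eq_zero_of_twist (ha : ∀ x y, a (x + y) = a x * a y) (c : ι → F) (x h : G)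
    (y : ι → F) (hx : ∀ y, x * a y = a y * x) (hh : ∀ y, h * a y = a y * h)
    (hxh : h * x = a y * x * h) (hy : ψ (c ⬝ᵥ y) ≠ 1) : (R x * eOp ψ a R c).trace = 0 := by
  set e := eOp ψ a R c with he
  have h1 : R h * (R x * e) = ψ (c ⬝ᵥ y) • ((R x * e) * R h) := by
    rw [← mul_assoc, ← map_mul, hxh, ← hx, map_mul, map_mul, mul_assoc, comm_eOp ψ a R h hh c,
      ← he, mul_assoc, ← mul_assoc (R (a y)), map_mul_eOp ψ a R ha, ← he, Matrix.smul_mul,
      Matrix.mul_smul, mul_assoc]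
  have h2 : (R x * e).trace = ψ (c ⬝ᵥ y) * (R x * e).trace := by
    have e1 : R x * e = R h⁻¹ * (R h * (R x * e)) := by
      rw [← mul_assoc, ← map_mul, inv_mul_cancel, map_one, one_mul]
    conv_lhs => rw [e1, h1, Matrix.mul_smul, trace_smul, trace_mul_comm, mul_assoc, ← map_mul,
      mul_inv_cancel, map_one, mul_one, smul_eq_mul]
  have h3 : (1 - ψ (c ⬝ᵥ y)) * (R x * e).trace = 0 := by linear_combination h2
  rcases mul_eq_zero.mp h3 with h4 | h4
  · exact absurd (sub_eq_zero.mp h4).symm hy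
  · exact h4

theorem twist_inv_mul (ha : ∀ x y, a (x + y) = a x * a y) (g₁ g₂ h : G) (y₁ y₂ : ι → F)
    (hg₂ : ∀ y, g₂ * a y = a y * g₂)
    (h₁ : h * g₁ = a y₁ * g₁ * h) (h₂ : h * g₂ = a y₂ * g₂ * h) :
    h * (g₂⁻¹ * g₁) = a (y₁ - y₂) * (g₂⁻¹ * g₁) * h := by
  have e0 : a (y₁ - y₂) * a y₂ = a y₁ := by rw [← ha, sub_add_cancel]
  have e1 : h * g₂⁻¹ = g₂⁻¹ * (a y₂)⁻¹ * h := by
    have : g₂ * a y₂ * (h * g₂⁻¹) = h := by
      rw [hg₂, ← mul_assoc, ← h₂, mul_assoc, mul_inv_cancel, mul_one]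
    calc h * g₂⁻¹ = (g₂ * a y₂)⁻¹ * (g₂ * a y₂ * (h * g₂⁻¹)) := by rw [inv_mul_cancel_left]
      _ = (g₂ * a y₂)⁻¹ * h := by rw [this]
      _ = g₂⁻¹ * (a y₂)⁻¹ * h := by rw [hg₂, _root_.mul_inv_rev]
  have e2 : (a y₂)⁻¹ * a y₁ = a (y₁ - y₂) := by
    rw [inv_mul_eq_iff_eq_mul, ← ha, add_sub_cancel]
  have e3 : g₂⁻¹ * a (y₁ - y₂) = a (y₁ - y₂) * g₂⁻¹ := by
    rw [inv_mul_eq_iff_eq_mul, ← mul_assoc, hg₂, mul_assoc, mul_inv_cancel, mul_one]
  calc h * (g₂⁻¹ * g₁) = g₂⁻¹ * (a y₂)⁻¹ * (h * g₁) := by rw [← mul_assoc, e1, mul_assoc]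
    _ = g₂⁻¹ * ((a y₂)⁻¹ * a y₁) * g₁ * h := by rw [h₁]; simp only [mul_assoc]
    _ = a (y₁ - y₂) * (g₂⁻¹ * g₁) * h := by rw [e2, e3]; simp only [mul_assoc]

variable {ψ}

/-- a Heisenberg type family forces a large multiplicity -/
theorem card_le_rank_eOp_sq (hψ : ψ.IsPrimitive) (ha : ∀ x y, a (x + y) = a x * a y) (c : ι → F)
    (hc : wOp ψ a R c ≠ 0) {I : Type*} [Fintype I] [DecidableEq I] (g : I → G)
    (hg : ∀ i y, g i * a y = a y * g i)
    (hsep : ∀ i j, i ≠ j → ∃ (h : G) (yi yj : ι → F), (∀ y, h * a y = a y * h) ∧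
      h * g i = a yi * g i * h ∧ h * g j = a yj * g j * h ∧ ψ (c ⬝ᵥ (yi - yj)) ≠ 1) :
    Fintype.card I ≤ (eOp ψ a R c).rank ^ 2 := by
  refine card_le_rank_sq _ (fun i => R (g i)) (fun j => R (g j)⁻¹)
    (fun i => comm_eOp ψ a R _ (hg i) c) ?_ ?_
  · intro i j hij
    obtain ⟨h, yi, yj, hh, h1, h2, hne⟩ := hsep i j hij
    show (R (g j)⁻¹ * (R (g i) * eOp ψ a R c)).trace = 0
    rw [← mul_assoc, ← map_mul]
    refine trace_eq_zero_of_twist ψ a R ha c _ h (yi - yj) ?_ hh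
      (twist_inv_mul a ha (g i) (g j) h yi yj (hg j) h1 h2) hne
    intro y
    have e3 : (g j)⁻¹ * a y = a y * (g j)⁻¹ := by
      rw [inv_mul_eq_iff_eq_mul, ← mul_assoc, hg, mul_assoc, mul_inv_cancel, mul_one]
    rw [mul_assoc, hg, ← mul_assoc, e3, mul_assoc]
  · intro i
    show (R (g i)⁻¹ * (R (g i) * eOp ψ a R c)).trace ≠ 0
    rw [← mul_assoc, ← map_mul, inv_mul_cancel, map_one, one_mul,
      trace_eq_rank_of_idem _ (eOp_idem a R hψ ha c)]
    intro h0
    have h1 : (eOp ψ a R c).rank = 0 := by exact_mod_cast h0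
    exact eOp_ne_zero ψ a R hc (eq_zero_of_rank_eq_zero _ h1)

/-- counting weights with multiplicity -/
theorem mul_card_weights_le (hψ : ψ.IsPrimitive) (ha : ∀ x y, a (x + y) = a x * a y)
    (S : Finset (ι → F)) (r : ℕ) (hS : ∀ c ∈ S, r ≤ (eOp ψ a R c).rank) : r * S.card ≤ d := by
  rw [← sum_rank_eOp a R hψ ha, mul_comm, ← smul_eq_mul, ← Finset.sum_const]
  exact (Finset.sum_le_sum hS).trans
    (Finset.sum_le_sum_of_subset (Finset.subset_univ S))

end weights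

end Cfsg.Agent.Lib.Helper44
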