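import Mathlib

/-!
# Weights of an abelian unipotent subgroup in a cross-characteristic representation
-/

set_option autoImplicit false

namespace Cfsg.Agent.Lib.Helper44

open Matrix

section Weights

variable {F : Type*} [Field F] [Fintype F] [DecidableEq F] {K : Type*} [Field K]
  {ι : Type*} [Fintype ι] [DecidableEq ι]
  {G : Type*} [Group G] {d : ℕ}

/-- (unnormalised) projection onto the weight space of weight `c`. -/
noncomputable def wOp (ψ : AddChar F K) (a : (ι → F) → G) (R : G →* Matrix (Fin d) (Fin d) K)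
    (c : ι → F) : Matrix (Fin d) (Fin d) K :=
  ∑ y : ι → F, ψ (-(c ⬝ᵥ y)) • R (a y)

theorem sum_psi_dot {ψ : AddChar F K} (hψ : ψ.IsPrimitive) (y : ι → F) :
    ∑ c : ι → F, ψ (c ⬝ᵥ y) = if y = 0 then (Fintype.card (ι → F) : K) else 0 := by
  split_ifs with h
  · subst h; simp
  · let χ : AddChar (ι → F) K :=
      { toFun := fun c => ψ (c ⬝ᵥ y)
        map_zero_eq_one' := by simp
        map_add_eq_mul' := by intro a b; simp [add_dotProduct, AddChar.map_add_eq_mul] }
    have hχ : χ ≠ 1 := by
      obtain ⟨i, hi⟩ : ∃ i, y i ≠ 0 := by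
        by_contra hcon
        push Not at hcon
        exact h (funext hcon)
      obtain ⟨x, hx⟩ := AddChar.ne_one_iff.1 (hψ hi)
      refine AddChar.ne_one_iff.2 ⟨Pi.single i x, ?_⟩
      show ψ (Pi.single i x ⬝ᵥ y) ≠ 1
      rw [single_dotProduct, mul_comm]
      exact hx
    exact AddChar.sum_eq_zero_of_ne_one hχ

theorem sum_psi_dot' {ψ : AddChar F K} (hψ : ψ.IsPrimitive) (c : ι → F) :
    ∑ y : ι → F, ψ (c ⬝ᵥ y) = if c = 0 then (Fintype.card (ι → F) : K) else 0 := by
  rw [← sum_psi_dot hψ c]
  exact Finset.sum_congr rfl fun y _ => by rw [dotProduct_comm]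

variable (ψ : AddChar F K) (a : (ι → F) → G) (R : G →* Matrix (Fin d) (Fin d) K)

omit [DecidableEq F] in
theorem map_mul_wOp (ha : ∀ x y, a (x + y) = a x * a y) (c y : ι → F) :
    R (a y) * wOp ψ a R c = ψ (c ⬝ᵥ y) • wOp ψ a R c := by
  unfold wOp
  rw [Finset.mul_sum, Finset.smul_sum]
  rw [← Equiv.sum_comp (Equiv.addLeft y) (fun x => ψ (c ⬝ᵥ y) • ψ (-(c ⬝ᵥ x)) • R (a x))]
  refine Finset.sum_congr rfl fun x _ => ?_
  rw [Equiv.coe_addLeft, ha, map_mul, Matrix.mul_smul, smul_smul, ← AddChar.map_add_eq_mul,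
    dotProduct_add]
  congr 2
  ring

omit [Fintype F] [DecidableEq F] [Fintype ι] [DecidableEq ι] in
theorem a_zero (ha : ∀ x y, a (x + y) = a x * a y) : a 0 = 1 := by
  have := ha 0 0
  rw [add_zero] at this
  exact (mul_eq_left.mp this.symm)

theorem sum_wOp {ψ : AddChar F K} (hψ : ψ.IsPrimitive)
    (ha : ∀ x y, a (x + y) = a x * a y) :
    ∑ c, wOp ψ a R c = (Fintype.card (ι → F) : K) • (1 : Matrix (Fin d) (Fin d) K) := by
  unfold wOp
  rw [Finset.sum_comm]
  have : ∀ y : ι → F, ∑ c : ι → F, ψ (-(c ⬝ᵥ y)) • R (a y)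
      = (if y = 0 then (Fintype.card (ι → F) : K) else 0) • R (a y) := by
    intro y
    rw [← Finset.sum_smul]
    congr 1
    have := sum_psi_dot hψ (-y)
    simp only [neg_eq_zero] at this
    rw [← this]
    exact Finset.sum_congr rfl fun c _ => by rw [dotProduct_neg]
  rw [Finset.sum_congr rfl fun y _ => this y]
  simp [a_zero a ha]

theorem wOp_mul_wOp {ψ : AddChar F K} (hψ : ψ.IsPrimitive)
    (ha : ∀ x y, a (x + y) = a x * a y) (c c' : ι → F) :
    wOp ψ a R c' * wOp ψ a R c
      = (if c = c' then (Fintype.card (ι → F) : K) else 0) • wOp ψ a R c := by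
  conv_lhs => rw [wOp]
  rw [Finset.sum_mul]
  have : ∀ y : ι → F, (ψ (-(c' ⬝ᵥ y)) • R (a y)) * wOp ψ a R c
      = ψ ((c - c') ⬝ᵥ y) • wOp ψ a R c := by
    intro y
    rw [Matrix.smul_mul, map_mul_wOp ψ a R ha, smul_smul, ← AddChar.map_add_eq_mul,
      sub_dotProduct]
    congr 2
    ring
  rw [Finset.sum_congr rfl fun y _ => this y, ← Finset.sum_smul, sum_psi_dot' hψ]
  simp only [sub_eq_zero]

/-- The number of weights is at most the degree. -/
theorem card_weights_le {ψ : AddChar F K} (hψ : ψ.IsPrimitive)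
    (hq : (Fintype.card (ι → F) : K) ≠ 0)
    (ha : ∀ x y, a (x + y) = a x * a y) (S : Finset (ι → F))
    (hS : ∀ c ∈ S, wOp ψ a R c ≠ 0) : S.card ≤ d := by
  classical
  have hex : ∀ c : S, ∃ w : Fin d → K, wOp ψ a R c.1 *ᵥ w ≠ 0 := by
    intro c
    by_contra hcon
    push Not at hcon
    apply hS c.1 c.2
    ext i j
    have := congrFun (hcon (Pi.single j 1)) i
    simpa using this
  choose w hw using hex
  have hli : LinearIndependent K (fun c : S => wOp ψ a R c.1 *ᵥ w c) := by
    rw [Fintype.linearIndependent_iff]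
    intro g hg c'
    have h1 := congrArg (fun v => wOp ψ a R c'.1 *ᵥ v) hg
    simp only [Matrix.mulVec_sum, Matrix.mulVec_smul, Matrix.mulVec_mulVec, Matrix.mulVec_zero,
      wOp_mul_wOp a R hψ ha] at h1
    rw [Finset.sum_eq_single c'] at h1
    · rw [if_pos rfl, Matrix.smul_mulVec, smul_smul] at h1
      rcases smul_eq_zero.mp h1 with h2 | h2
      · exact (mul_eq_zero.mp h2).resolve_right hq
      · exact absurd h2 (hw c')
    · intro b _ hb
      rw [if_neg (fun h => hb (Subtype.ext h))]
      simp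
    · intro h; exact absurd (Finset.mem_univ _) h
  have := hli.fintype_card_le_finrank
  simpa using this

omit [DecidableEq F] in
/-- Normalising elements permute the weights. -/
theorem wOp_ne_zero_of_conj (hinj : Function.Injective a) (g : G) (T : (ι → F) → (ι → F))
    (hg : ∀ y, g * a y = a (T y) * g) (c c' : ι → F) (hc : ∀ y, c' ⬝ᵥ T y = c ⬝ᵥ y)
    (h : wOp ψ a R c ≠ 0) : wOp ψ a R c' ≠ 0 := by
  have hT : Function.Injective T := by
    intro y y' hy
    apply hinj
    have h1 := hg y
    rw [hy, ← hg y'] at h1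
    exact mul_left_cancel h1
  have hTb : Function.Bijective T := Finite.injective_iff_bijective.mp hT
  have key : R g * wOp ψ a R c = wOp ψ a R c' * R g := by
    unfold wOp
    rw [Finset.mul_sum, Finset.sum_mul,
      ← hTb.sum_comp (fun y => ψ (-(c' ⬝ᵥ y)) • R (a y) * R g)]
    refine Finset.sum_congr rfl fun y _ => ?_
    rw [Matrix.mul_smul, Matrix.smul_mul, ← map_mul, ← map_mul, hg, hc]
  intro h0
  apply h
  rw [h0, zero_mul] at key
  have : R g⁻¹ * (R g * wOp ψ a R c) = 0 := by rw [key, mul_zero]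
  rwa [← mul_assoc, ← map_mul, inv_mul_cancel, map_one, one_mul] at this

/-- If all weights kill `y` then `a y` acts trivially. -/
theorem map_eq_one_of_weights {ψ : AddChar F K} (hψ : ψ.IsPrimitive)
    (hq : (Fintype.card (ι → F) : K) ≠ 0)
    (ha : ∀ x y, a (x + y) = a x * a y) (y : ι → F)
    (h : ∀ c, wOp ψ a R c ≠ 0 → c ⬝ᵥ y = 0) : R (a y) = 1 := by
  have h1 : R (a y) * ∑ c, wOp ψ a R c = ∑ c, wOp ψ a R c := by
    rw [Finset.mul_sum]
    refine Finset.sum_congr rfl fun c _ => ?_
    rw [map_mul_wOp ψ a R ha]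
    by_cases h0 : wOp ψ a R c = 0
    · rw [h0, smul_zero]
    · rw [h c h0, AddChar.map_zero_eq_one, one_smul]
  rw [sum_wOp a R hψ ha, Matrix.mul_smul, mul_one] at h1
  exact smul_right_injective _ hq h1

/-- Packaged version: the set of weights of an abelian subgroup `a : F^ι → G` in a
cross-characteristic representation. -/
theorem exists_weights (hK : ringChar K ≠ ringChar F) (ρ : G →* GL (Fin d) K)
    (ha : ∀ x y, a (x + y) = a x * a y) (hinj : Function.Injective a) :
    ∃ W : Finset (ι → F), W.card ≤ d ∧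
      (∀ (g : G) (T : (ι → F) → (ι → F)) (c c' : ι → F), (∀ y, g * a y = a (T y) * g) →
        (∀ y, c' ⬝ᵥ T y = c ⬝ᵥ y) → c ∈ W → c' ∈ W) ∧
      (∀ y, (∀ c ∈ W, c ⬝ᵥ y = 0) → ρ (a y) = 1) := by
  classical
  let P := AddChar.FiniteField.primitiveChar F K hK
  let K' := CyclotomicField P.n K
  let ψ : AddChar F K' := P.char
  have hψ : ψ.IsPrimitive := P.prim
  let R : G →* Matrix (Fin d) (Fin d) K' :=
    ((algebraMap K K').mapMatrix (m := Fin d)).toMonoidHom.comp ((Units.coeHom _).comp ρ)
  have hp : (ringChar F).Prime := CharP.char_is_prime F _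
  have hpK : ((ringChar F : ℕ) : K) ≠ 0 := by
    intro h0
    have hdvd := (ringChar.spec K _).mp h0
    rcases CharP.char_is_prime_or_zero K (ringChar K) with hq | hq
    · exact hK ((Nat.Prime.dvd_iff_eq hp hq.ne_one).mp hdvd).symm
    · rw [hq] at hdvd
      exact hp.ne_zero (zero_dvd_iff.mp hdvd)
  have hq : (Fintype.card (ι → F) : K') ≠ 0 := by
    obtain ⟨n, -, hn⟩ := FiniteField.card F (ringChar F)
    rw [Fintype.card_fun, hn]
    push_cast
    refine pow_ne_zero _ (pow_ne_zero _ ?_)
    rw [← map_natCast (algebraMap K K')]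
    exact (map_ne_zero _).mpr hpK
  refine ⟨Finset.univ.filter fun c => wOp ψ a R c ≠ 0, ?_, ?_, ?_⟩
  · exact card_weights_le a R hψ hq ha _ fun c hc => (Finset.mem_filter.mp hc).2
  · intro g T c c' hg hc hcW
    rw [Finset.mem_filter] at hcW ⊢
    exact ⟨Finset.mem_univ _, wOp_ne_zero_of_conj ψ a R hinj g T hg c c' hc hcW.2⟩
  · intro y hy
    have h1 : R (a y) = 1 := map_eq_one_of_weights a R hψ hq ha y fun c hc =>
      hy c (Finset.mem_filter.mpr ⟨Finset.mem_univ _, hc⟩)
    apply Units.ext
    have h2 : ((ρ (a y) : GL (Fin d) K) : Matrix (Fin d) (Fin d) K).map (algebraMap K K')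
        = (1 : Matrix (Fin d) (Fin d) K).map (algebraMap K K') := by
      rw [Matrix.map_one _ (map_zero _) (map_one _)]
      exact h1
    exact Matrix.map_injective (algebraMap K K').injective h2

end Weights

/-- A property of vectors closed under elementary operations holds for all nonzero vectors as
soon as it holds for one. -/
theorem elem_closure {F : Type*} [Field F] {κ : Type*} [Fintype κ] [DecidableEq κ] [Nontrivial κ]
    (P : (κ → F) → Prop)
    (hP : ∀ (c : κ → F) (i j : κ) (t : F), i ≠ j → P c → P (c + Pi.single i (t * c j)))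
    (c c' : κ → F) (hc : c ≠ 0) (hc' : c' ≠ 0) (h : P c) : P c' := by
  classical
  -- Step A
  have stepA : ∀ (c w : κ → F) (j : κ), c j ≠ 0 → w j = c j → P c → P w := by
    intro c w j hj hw hPc
    have key : ∀ s : Finset κ, P (fun i => if i ∈ s then w i else c i) := by
      intro s
      induction s using Finset.induction_on with
      | empty => simpa using hPc
      | insert i s hi ih =>
        by_cases hij : i = j
        · subst hij
          convert ih using 2 with k
          by_cases hk : k = i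
          · subst hk
            simp [hi, hw]
          · simp [hk]
        · have := hP _ i j ((w i - c i) / c j) hij ih
          convert this using 2 with k
          have hjj : (if j ∈ s then w j else c j) = c j := by split_ifs <;> simp [hw]
          by_cases hk : k = i
          · subst hk
            simp only [Finset.mem_insert, true_or, if_true, Pi.add_apply, Pi.single_eq_same, hi,
              if_false, hjj]
            field_simp
            ring
          · simp [hk]
    simpa using key Finset.univ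
  have stepB : ∀ (c c' : κ → F) (j k : κ), j ≠ k → c j ≠ 0 → c' k ≠ 0 → P c → P c' := by
    intro c c' j k hjk hj hk hPc
    have h1 : P (Function.update c' j (c j)) :=
      stepA c _ j hj (by simp) hPc
    refine stepA _ c' k ?_ ?_ h1
    · rw [Function.update_of_ne hjk.symm]; exact hk
    · rw [Function.update_of_ne hjk.symm]
  obtain ⟨j, hj⟩ : ∃ j, c j ≠ 0 := by
    by_contra hcon
    push Not at hcon
    exact hc (funext hcon)
  obtain ⟨k, hk⟩ : ∃ k, c' k ≠ 0 := by
    by_contra hcon
    push Not at hcon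
    exact hc' (funext hcon)
  by_cases hjk : j = k
  · subst hjk
    obtain ⟨i, hi⟩ := exists_ne j
    have h1 : P (Function.update c i 1) :=
      stepA c _ j hj (by rw [Function.update_of_ne hi.symm]) h
    exact stepB _ c' i j hi (by simp) hk h1
  · exact stepB c c' j k hjk hj hk h

end Cfsg.Agent.Lib.Helper44
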