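import Cfsg.Agent.Lib.Helper17.UnitCoord

/-!
# Transport of unitary groups of arbitrary Hermitian Gram matrices to the standard `SU_n(q)`
-/

set_option autoImplicit false
set_option linter.unusedSectionVars false

namespace Cfsg.Agent.Lib.Helper44

open Matrix Cfsg.Agent.Lib.Helper17

section

variable {F : Type*} [Field F] [Fintype F] {q : ℕ}
  {κ : Type} [Fintype κ] [DecidableEq κ]

/-- entrywise `q`-th power on vectors -/
def fv (q : ℕ) {κ : Type*} (v : κ → F) : κ → F := fun i => v i ^ q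

theorem fv_add (hF : Fintype.card F = q ^ 2) {κ : Type*} (u v : κ → F) :
    fv q (u + v) = fv q u + fv q v := by
  funext i; exact add_pow_q hF _ _

omit [Fintype F] in
theorem fv_smul {κ : Type*} (c : F) (v : κ → F) : fv q (c • v) = c ^ q • fv q v := by
  funext i; exact mul_pow _ _ _

theorem fv_fv (hF : Fintype.card F = q ^ 2) {κ : Type*} (v : κ → F) : fv q (fv q v) = v := by
  funext i; exact pow_q_pow_q hF _

theorem fv_zero (hF : Fintype.card F = q ^ 2) {κ : Type*} : fv q (0 : κ → F) = 0 := by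
  funext i; exact zero_pow (by have := two_le_of_card_sq hF; omega)

theorem fv_neg (hF : Fintype.card F = q ^ 2) {κ : Type*} (v : κ → F) : fv q (-v) = -fv q v := by
  funext i; exact neg_pow_q hF _

theorem fv_sub (hF : Fintype.card F = q ^ 2) {κ : Type*} (u v : κ → F) :
    fv q (u - v) = fv q u - fv q v := by
  funext i; exact sub_pow_q hF _ _

omit [Fintype F] in
theorem fv_eq_zero {κ : Type*} {v : κ → F} (h : fv q v = 0) : v = 0 := by
  funext i
  have := congrFun h i
  exact eq_zero_of_pow_eq_zero this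

theorem fv_mulVec (hF : Fintype.card F = q ^ 2) {l : Type*} (A : Matrix l κ F) (v : κ → F) :
    fv q (A *ᵥ v) = A.map (frobQ hF) *ᵥ fv q v := by
  funext i
  exact RingHom.map_mulVec (frobQ hF) A v i

theorem dot_pow_q (hF : Fintype.card F = q ^ 2) (u v : κ → F) :
    (u ⬝ᵥ v) ^ q = fv q u ⬝ᵥ fv q v := by
  unfold dotProduct
  rw [sum_pow_q hF]
  exact Finset.sum_congr rfl fun i _ => mul_pow _ _ _

omit [Fintype F] [DecidableEq κ] in
theorem mulVec_dot (A : Matrix κ κ F) (u w : κ → F) : (A *ᵥ u) ⬝ᵥ w = u ⬝ᵥ (Aᵀ *ᵥ w) := by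
  rw [dotProduct_comm, dotProduct_mulVec, ← mulVec_transpose, dotProduct_comm]

/-- the sesquilinear form with Gram matrix `J` -/
def fJ (q : ℕ) (J : Matrix κ κ F) (u v : κ → F) : F := u ⬝ᵥ (J *ᵥ fv q v)

omit [Fintype F] in
theorem hermForm_eq_dot (n : ℕ) (u v : Fin n → F) : Cfsg.hermForm n F q u v = u ⬝ᵥ fv q v := rfl

/-- a matrix criterion for preserving `fJ` -/
theorem fJ_mulVec (hF : Fintype.card F = q ^ 2) {J B : Matrix κ κ F}
    (hB : Bᵀ * J * B.map (frobQ hF) = J) (u v : κ → F) :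
    fJ q J (B *ᵥ u) (B *ᵥ v) = fJ q J u v := by
  unfold fJ
  rw [mulVec_dot, fv_mulVec hF, mulVec_mulVec, mulVec_mulVec, hB]

/-- the coercion from `SL` to matrices as a monoid homomorphism -/
def slMat (κ : Type) [Fintype κ] [DecidableEq κ] (F : Type*) [Field F] :
    Matrix.SpecialLinearGroup κ F →* Matrix κ κ F where
  toFun A := A.1
  map_one' := rfl
  map_mul' _ _ := rfl

/-- the special unitary group of the Gram matrix `J` -/
def UJ (q : ℕ) (J : Matrix κ κ F) : Subgroup (Matrix.SpecialLinearGroup κ F) :=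
  Cfsg.preserving (slMat κ F) (fJ q J)

/-- constructor for elements of `UJ` -/
def mkUJ (hF : Fintype.card F = q ^ 2) (J B : Matrix κ κ F) (hd : B.det = 1)
    (hB : Bᵀ * J * B.map (frobQ hF) = J) : UJ q J :=
  ⟨⟨B, hd⟩, fun u v => fJ_mulVec hF hB u v⟩

theorem mkUJ_coe (hF : Fintype.card F = q ^ 2) (J B : Matrix κ κ F) (hd : B.det = 1)
    (hB : Bᵀ * J * B.map (frobQ hF) = J) : (mkUJ hF J B hd hB).1.1 = B := rfl

omit [Fintype F] in
theorem UJ_ext {J : Matrix κ κ F} {A B : UJ q J} (h : A.1.1 = B.1.1) : A = B :=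
  Subtype.ext (Subtype.ext h)

/-- Transport to the standard special unitary group. -/
theorem exists_transport (hF : Fintype.card F = q ^ 2) (J J' : Matrix κ κ F)
    (hJ : (J.map (frobQ hF))ᵀ = J) (hJ' : J' * J = 1) {k : ℕ} (hk : Fintype.card κ = k) :
    ∃ (Θ : UJ q J →* Cfsg.SU k F q) (Φ : (Fin k → F) ≃ₗ[F] (κ → F)),
      (∀ x y, fJ q J (Φ x) (Φ y) = Cfsg.hermForm k F q x y) ∧
      ∀ (B : UJ q J) (x : Fin k → F), (Θ B).1.1 *ᵥ x = Φ.symm (B.1.1 *ᵥ Φ x) := by
  classical
  have hJJ' : J * J' = 1 := mul_eq_one_comm.mp hJ'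
  let BJ : (κ → F) →ₛₗ[frobQ hF] (κ → F) →ₗ[F] F :=
    LinearMap.mk₂'ₛₗ (frobQ hF) (RingHom.id F) (fun x y => fJ q J y x)
      (fun x x' y => by
        simp only [fJ]
        rw [fv_add hF, mulVec_add, dotProduct_add])
      (fun c x y => by
        simp only [fJ]
        rw [fv_smul, mulVec_smul, dotProduct_smul, frobQ_apply])
      (fun x y y' => by
        simp only [fJ]
        rw [add_dotProduct])
      (fun c x y => by
        simp only [fJ]
        rw [smul_dotProduct, RingHom.id_apply])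
  have hBJ : ∀ x y, BJ x y = fJ q J y x := fun x y => rfl
  have hS : BJ.IsSymm := ⟨fun x y => by
    rw [hBJ, hBJ, frobQ_apply]
    unfold fJ
    rw [dot_pow_q hF, fv_mulVec hF, fv_fv hF, dotProduct_comm, mulVec_dot, hJ]⟩
  have hN : BJ.Nondegenerate := by
    refine ⟨fun x hx => ?_, fun y hy => ?_⟩
    · have h1 : J *ᵥ fv q x = 0 := by
        funext i
        have := hx (Pi.single i 1)
        rw [hBJ] at this
        unfold fJ at this
        rwa [single_dotProduct, one_mul] at this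
      have h2 : fv q x = 0 := by
        have := congrArg (fun w => J' *ᵥ w) h1
        simpa [mulVec_mulVec, hJ'] using this
      exact fv_eq_zero h2
    · funext i
      have := hy (fv q (J' *ᵥ Pi.single i 1))
      rw [hBJ] at this
      unfold fJ at this
      rwa [fv_fv hF, mulVec_mulVec, hJJ', one_mulVec, dotProduct_single, mul_one] at this
  obtain ⟨Φ, hΦ⟩ := exists_herm_coords hF BJ hS hN
    (k := k) (by rw [Module.finrank_fintype_fun_eq_card, hk])
  have hΦ' : ∀ x y, fJ q J (Φ x) (Φ y) = Cfsg.hermForm k F q x y := fun x y => hΦ y x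
  let cj : Matrix κ κ F → Matrix (Fin k) (Fin k) F := fun B =>
    LinearMap.toMatrix' (Φ.symm.toLinearMap ∘ₗ Matrix.toLin' B ∘ₗ Φ.toLinearMap)
  have hcj : ∀ B x, cj B *ᵥ x = Φ.symm (B *ᵥ Φ x) := by
    intro B x
    simp only [cj]
    rw [LinearMap.toMatrix'_mulVec]
    simp
  have hdet : ∀ B, (cj B).det = B.det := by
    intro B
    simp only [cj]
    rw [LinearMap.det_toMatrix']
    have := LinearMap.det_conj (Matrix.toLin' B) Φ.symm
    rw [LinearEquiv.symm_symm] at this
    rw [this, LinearMap.det_toLin']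
  refine ⟨{ toFun := fun B => ⟨⟨cj B.1.1, by rw [hdet]; exact B.1.2⟩, ?_⟩
            map_one' := ?_
            map_mul' := ?_ }, Φ, hΦ', fun B x => hcj _ x⟩
  · intro u v
    show Cfsg.hermForm k F q (cj B.1.1 *ᵥ u) (cj B.1.1 *ᵥ v) = _
    rw [hcj, hcj, ← hΦ', ← hΦ', LinearEquiv.apply_symm_apply, LinearEquiv.apply_symm_apply]
    exact B.2 _ _
  · apply Subtype.ext
    apply Subtype.ext
    show cj (1 : Matrix κ κ F) = 1
    rw [Matrix.ext_iff_mulVec]
    intro x
    rw [hcj, one_mulVec, one_mulVec, LinearEquiv.symm_apply_apply]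
  · intro A B
    apply Subtype.ext
    apply Subtype.ext
    show cj (A.1.1 * B.1.1) = cj A.1.1 * cj B.1.1
    rw [Matrix.ext_iff_mulVec]
    intro x
    rw [← mulVec_mulVec, hcj, hcj, hcj, LinearEquiv.apply_symm_apply, mulVec_mulVec]

end

end Cfsg.Agent.Lib.Helper44
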