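import Cfsg.Agent.Lib.Helper44.WeightsSp
import Cfsg.Agent.Lib.Helper7.SpGen
import Cfsg.Agent.Lib.Helper7.SpPerfect

/-!
# Weights of the full Siegel radical of `Sp_{2n}(q)`, `q` odd, in a complex representation
-/

set_option autoImplicit false
set_option linter.unusedSectionVars false

namespace Cfsg.Agent.Lib.Helper44

open Matrix Cfsg.Agent.Lib.Helper7

section general

variable {F : Type*} [Field F] [Fintype F] [DecidableEq F] {K : Type*} [Field K]
  {ι : Type*} [Fintype ι] [DecidableEq ι]
  {G : Type*} [Group G] {d : ℕ}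
  (ψ : AddChar F K) (a : (ι → F) → G) (R : G →* Matrix (Fin d) (Fin d) K)

/-- Normalising elements permute the weights (no injectivity of `a` needed). -/
theorem wOp_ne_zero_of_conj' (g : G) (T : (ι → F) → (ι → F)) (hTb : Function.Bijective T)
    (hg : ∀ y, g * a y = a (T y) * g) (c c' : ι → F) (hc : ∀ y, c' ⬝ᵥ T y = c ⬝ᵥ y)
    (h : wOp ψ a R c ≠ 0) : wOp ψ a R c' ≠ 0 := by
  have key : R g * wOp ψ a R c = wOp ψ a R c' * R g := by
    unfold wOp
    rw [Finset.mul_sum, Finset.sum_mul,
      ← hTb.sum_comp (fun y => ψ (-(c' ⬝ᵥ y)) • R (a y) * R g)]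
    refine Finset.sum_congr rfl fun y _ => ?_
    rw [Matrix.mul_smul, Matrix.smul_mul, ← map_mul, ← map_mul, hg, hc]
  intro h0
  apply h
  rw [h0, zero_mul] at key
  have : R g⁻¹ * (R g * wOp ψ a R c) = 0 := by rw [key, mul_zero]
  rwa [← mul_assoc, ← map_mul, inv_mul_cancel, map_one, one_mul] at this

variable {ψ}

/-- a weight kills every line on which `a` is trivial -/
theorem weight_kills (hψ : ψ.IsPrimitive) (ha : ∀ x y, a (x + y) = a x * a y) (c y : ι → F)
    (h : wOp ψ a R c ≠ 0) (hy : ∀ t : F, a (t • y) = 1) : c ⬝ᵥ y = 0 := by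
  by_contra hne
  obtain ⟨t, ht⟩ := AddChar.ne_one_iff.1 (hψ hne)
  have ht' : ψ (c ⬝ᵥ y * t) ≠ 1 := ht
  have h1 := map_mul_wOp ψ a R ha c (t • y)
  rw [hy, map_one, one_mul, dotProduct_smul, smul_eq_mul, mul_comm] at h1
  have h2 : (ψ (c ⬝ᵥ y * t) - 1) • wOp ψ a R c = 0 := by rw [sub_smul, one_smul, ← h1, sub_self]
  rcases smul_eq_zero.mp h2 with h3 | h3
  · exact ht' (sub_eq_zero.mp h3)
  · exact h h3

end general

section siegel

variable {F : Type*} [Field F] {n : Type*} [Fintype n] [DecidableEq n]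

/-- matrix attached to a vector indexed by pairs -/
def matOf (y : n × n → F) : Matrix n n F := fun i j => y (i, j)
/-- vector indexed by pairs attached to a matrix -/
def vecOf (Y : Matrix n n F) : n × n → F := fun p => Y p.1 p.2

theorem matOf_vecOf (Y : Matrix n n F) : matOf (vecOf Y) = Y := rfl
theorem vecOf_matOf (y : n × n → F) : vecOf (matOf y) = y := rfl
theorem matOf_add (x y : n × n → F) : matOf (x + y) = matOf x + matOf y := rfl
theorem matOf_smul (t : F) (y : n × n → F) : matOf (t • y) = t • matOf y := rfl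

theorem dot_eq_trace (c y : n × n → F) : c ⬝ᵥ y = ((matOf c)ᵀ * matOf y).trace := by
  unfold dotProduct Matrix.trace
  rw [Fintype.sum_prod_type, Finset.sum_comm]
  refine Finset.sum_congr rfl fun j _ => ?_
  rw [Matrix.diag_apply, Matrix.mul_apply]
  rfl

/-- the full Siegel radical, parametrised (non-injectively) by all matrices -/
def sieg (y : n × n → F) : symplecticGroup n F :=
  siegel (matOf y + (matOf y)ᵀ) (by rw [transpose_add, transpose_transpose, add_comm])

theorem siegel_mul (S S' : Matrix n n F) (hS : Sᵀ = S) (hS' : S'ᵀ = S') (h : (S + S')ᵀ = S + S') :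
    siegel (S + S') h = siegel S hS * siegel S' hS' := by
  apply Subtype.ext
  show fromBlocks 1 (S + S') 0 1 = fromBlocks 1 S 0 1 * fromBlocks 1 S' 0 1
  rw [fromBlocks_multiply]
  simp [add_comm]

theorem siegel_congr {S S' : Matrix n n F} (hS : Sᵀ = S) (h : S = S') :
    siegel S hS = siegel S' (h ▸ hS) := by
  subst h; rfl

theorem sieg_add (x y : n × n → F) : sieg (x + y) = sieg x * sieg y := by
  unfold sieg
  rw [← siegel_mul]
  · apply siegel_congr
    rw [matOf_add, transpose_add]
    abel
  · simp only [transpose_add, transpose_transpose]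
    abel

theorem levi_siegel (M M' : Matrix n n F) (h : M' * M = 1) (S : Matrix n n F) (hS : Sᵀ = S) :
    leviSp M M' h * siegel S hS = siegel (M * S * Mᵀ) (by
      rw [transpose_mul, transpose_mul, transpose_transpose, hS, mul_assoc]) * leviSp M M' h := by
  apply Subtype.ext
  show fromBlocks M 0 0 M'ᵀ * fromBlocks 1 S 0 1 = fromBlocks 1 (M * S * Mᵀ) 0 1 * fromBlocks M 0 0 M'ᵀ
  rw [fromBlocks_multiply, fromBlocks_multiply]
  have : M * S * Mᵀ * M'ᵀ = M * S := by
    rw [mul_assoc, ← transpose_mul, h, transpose_one, mul_one]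
  simp [this]

theorem levi_sieg (M M' : Matrix n n F) (h : M' * M = 1) (y : n × n → F) :
    leviSp M M' h * sieg y = sieg (vecOf (M * matOf y * Mᵀ)) * leviSp M M' h := by
  unfold sieg
  rw [levi_siegel]
  congr 1
  apply siegel_congr
  rw [matOf_vecOf, transpose_mul, transpose_mul, transpose_transpose, mul_add, add_mul, mul_assoc M,
    mul_assoc M]

theorem siegel_zero : siegel (0 : Matrix n n F) transpose_zero = 1 := by
  apply Subtype.ext
  show fromBlocks 1 0 0 1 = (1 : Matrix (n ⊕ n) (n ⊕ n) F)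
  exact fromBlocks_one

end siegel

theorem exists_prim_addChar'' (F : Type*) [Field F] [Finite F] : ∃ ψ : AddChar F ℂ, ψ.IsPrimitive := by
  obtain ⟨ψ, hψ⟩ := (AddChar.exists_apply_ne_zero (α := F) (a := 1)).mpr one_ne_zero
  refine ⟨ψ, AddChar.IsPrimitive.of_ne_one ?_⟩
  rintro rfl
  simp at hψ

/-- the set of weights of the Siegel radical: symmetric matrices, closed under congruence -/
theorem exists_sym_weights {F : Type*} [Field F] [Fintype F] [DecidableEq F] {n : Type*} [Fintype n]
    [DecidableEq n] (h2 : (2 : F) ≠ 0) {d : ℕ}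
    (R : symplecticGroup n F →* Matrix (Fin d) (Fin d) ℂ) :
    ∃ W : Finset (Matrix n n F), W.card ≤ d ∧ (∀ C ∈ W, Cᵀ = C) ∧
      (∀ C ∈ W, ∀ N N' : Matrix n n F, N' * N = 1 → Nᵀ * C * N ∈ W) ∧
      ((∀ C ∈ W, C = 0) → ∀ S hS, R (siegel S hS) = 1) := by
  classical
  obtain ⟨ψ, hψ⟩ := exists_prim_addChar'' F
  have hq : (Fintype.card (n × n → F) : ℂ) ≠ 0 := by
    have : 0 < Fintype.card (n × n → F) := Fintype.card_pos
    exact_mod_cast this.ne'
  refine ⟨(Finset.univ.filter fun c => wOp ψ sieg R c ≠ 0).image matOf, ?_, ?_, ?_, ?_⟩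
  · exact Finset.card_image_le.trans
      (card_weights_le sieg R hψ hq sieg_add _ fun c hc => (Finset.mem_filter.mp hc).2)
  · intro C hC
    obtain ⟨c, hc, rfl⟩ := Finset.mem_image.mp hC
    have hc' := (Finset.mem_filter.mp hc).2
    rw [Matrix.ext_iff_trace_mul_right]
    intro A
    have hk := weight_kills sieg R hψ sieg_add c (vecOf (A - Aᵀ)) hc' (by
      intro t
      unfold sieg
      rw [← siegel_zero]
      apply siegel_congr
      rw [matOf_smul, matOf_vecOf, transpose_smul, transpose_sub, transpose_transpose, ← smul_add]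
      have : A - Aᵀ + (Aᵀ - A) = 0 := by abel
      rw [this, smul_zero])
    rw [dot_eq_trace, matOf_vecOf, mul_sub, trace_sub, sub_eq_zero] at hk
    rw [hk, ← transpose_mul, trace_transpose, trace_mul_comm]
  · intro C hC N N' hN
    obtain ⟨c, hc, rfl⟩ := Finset.mem_image.mp hC
    have hc' := (Finset.mem_filter.mp hc).2
    have hN' : N * N' = 1 := mul_eq_one_comm.mp hN
    refine Finset.mem_image.mpr ⟨vecOf (Nᵀ * matOf c * N), ?_, rfl⟩
    rw [Finset.mem_filter]
    refine ⟨Finset.mem_univ _, ?_⟩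
    refine wOp_ne_zero_of_conj' ψ sieg R (leviSp N' N hN') (fun y => vecOf (N' * matOf y * N'ᵀ)) ?_
      (levi_sieg N' N hN') c _ ?_ hc'
    · apply Function.Injective.bijective_of_finite
      intro y y' hy
      have h1 : N' * matOf y * N'ᵀ = N' * matOf y' * N'ᵀ := congrArg matOf hy
      have h3 : N * (N' * matOf y * N'ᵀ) * Nᵀ = N * (N' * matOf y' * N'ᵀ) * Nᵀ := by rw [h1]
      have e : ∀ Y : Matrix n n F, N * (N' * Y * N'ᵀ) * Nᵀ = Y := by
        intro Y
        rw [mul_assoc N', ← mul_assoc N, hN', one_mul, mul_assoc, ← transpose_mul, hN',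
          transpose_one, mul_one]
      rw [e, e] at h3
      exact congrArg vecOf h3
    · intro y
      rw [dot_eq_trace, dot_eq_trace, matOf_vecOf, matOf_vecOf, transpose_mul, transpose_mul,
        transpose_transpose]
      have e : Nᵀ * ((matOf c)ᵀ * N) * (N' * matOf y * N'ᵀ) = Nᵀ * ((matOf c)ᵀ * matOf y) * N'ᵀ := by
        have : (matOf c)ᵀ * N * (N' * matOf y) = (matOf c)ᵀ * matOf y := by
          rw [mul_assoc, ← mul_assoc N, hN', one_mul]
        calc Nᵀ * ((matOf c)ᵀ * N) * (N' * matOf y * N'ᵀ)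
            = Nᵀ * ((matOf c)ᵀ * N * (N' * matOf y)) * N'ᵀ := by simp only [mul_assoc]
          _ = _ := by rw [this]
      rw [e, trace_mul_cycle, ← transpose_mul, hN', transpose_one, one_mul]
  · intro hW S hS
    have e : siegel S hS = sieg (vecOf ((2 : F)⁻¹ • S)) := by
      unfold sieg
      apply siegel_congr
      rw [matOf_vecOf, transpose_smul, hS, ← add_smul, ← two_mul, mul_inv_cancel₀ h2, one_smul]
    rw [e]
    apply map_eq_one_of_weights sieg R hψ hq sieg_add
    intro c hc
    have h0 : matOf c = 0 := hW _ (Finset.mem_image.mpr ⟨c, Finset.mem_filter.mpr ⟨Finset.mem_univ _, hc⟩, rfl⟩)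
    have : c = 0 := congrArg vecOf h0
    rw [this, zero_dotProduct]

/-- a homomorphism trivial on the Siegel radical is trivial -/
theorem trivial_of_siegel {F : Type*} [Field F] {n : Type*} [Fintype n] [DecidableEq n] [Nonempty n]
    {M : Type*} [Monoid M] (R : symplecticGroup n F →* M)
    (h : ∀ S hS, R (siegel S hS) = 1) (g : symplecticGroup n F) : R g = 1 := by
  obtain ⟨i⟩ := ‹Nonempty n›
  have h1 : ∀ c : F, R (tv (eL F i) c) = 1 := by
    intro c
    have e : tv (eL F i) c = siegel (Matrix.diagonal (Pi.single i c)) (Matrix.diagonal_transpose _) := by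
      apply sp_ext
      intro x
      rw [tv_mulVec, om_eL]
      show _ = fromBlocks 1 (Matrix.diagonal (Pi.single i c)) 0 1 *ᵥ x
      rw [fromBlocks_mulVec]
      funext k
      rcases k with k | k
      · simp only [Pi.add_apply, Pi.smul_apply, eL, smul_eq_mul, Sum.elim_inl, one_mulVec,
          Function.comp_apply, mulVec_diagonal]
        by_cases hk : k = i
        · subst hk; simp
        · simp [hk]
      · simp [eL]
    rw [e, h]
  have h3 : ∀ (u : n ⊕ n → F) (c : F), R (tv u c) = 1 := by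
    intro u c
    by_cases hu : u = 0
    · have : tv u c = 1 := by
        apply sp_ext
        intro x
        rw [tv_mulVec, hu, smul_zero, add_zero, sp_one_mulVec]
      rw [this, map_one]
    · have he : eL F i ≠ 0 := by
        intro h0
        have := congrFun h0 (Sum.inl i)
        simp [eL] at this
      obtain ⟨k, hk⟩ := sp_transitive he hu
      rw [← hk, ← tv_conj, map_mul, map_mul, h1, mul_one, ← map_mul, mul_inv_cancel, map_one]
  have h4 : TW (⊤ : Submodule F (n ⊕ n → F)) ≤ R.ker := by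
    unfold TW
    rw [Subgroup.closure_le]
    rintro t ⟨u, -, c, rfl⟩
    exact h3 u c
  rw [TW_top] at h4
  exact h4 (Subgroup.mem_top g)

end Cfsg.Agent.Lib.Helper44
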