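import Cfsg.Agent.Lib.Helper44.SUa
import Cfsg.Agent.Lib.Helper44.WeilBound1
import Cfsg.Agent.Lib.Helper17.UnitHyp

/-!
# The Siegel radical of the unitary group of a hyperbolic form and its weights
-/

set_option autoImplicit false
set_option linter.unusedSectionVars false

namespace Cfsg.Agent.Lib.Helper44

open Matrix Cfsg.Agent.Lib.Helper17

section

variable {F : Type*} [Field F] [Fintype F] {q : ℕ} (hF : Fintype.card F = q ^ 2)
  {l : Type} [Fintype l] [DecidableEq l]

/-- conjugate transpose -/
def dag (Y : Matrix l l F) : Matrix l l F := (Y.map (frobQ hF))ᵀ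

theorem map_map_frob (Y : Matrix l l F) : (Y.map (frobQ hF)).map (frobQ hF) = Y := by
  ext i j
  exact pow_q_pow_q hF _

theorem dag_dag (Y : Matrix l l F) : dag hF (dag hF Y) = Y := by
  unfold dag
  rw [← transpose_map, transpose_transpose, map_map_frob]

theorem dag_add (A B : Matrix l l F) : dag hF (A + B) = dag hF A + dag hF B := by
  unfold dag
  rw [Matrix.map_add _ (map_add _), transpose_add]

theorem dag_sub (A B : Matrix l l F) : dag hF (A - B) = dag hF A - dag hF B := by
  unfold dag
  rw [Matrix.map_sub _ (map_sub _), transpose_sub]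

theorem dag_mul (A B : Matrix l l F) : dag hF (A * B) = dag hF B * dag hF A := by
  unfold dag
  rw [Matrix.map_mul, transpose_mul]

theorem dag_smul (c : F) (A : Matrix l l F) : dag hF (c • A) = c ^ q • dag hF A := by
  ext i j
  exact mul_pow _ _ _

theorem dag_one : dag hF (1 : Matrix l l F) = 1 := by
  unfold dag
  rw [Matrix.map_one _ (map_zero _) (map_one _), transpose_one]

/-- the hyperbolic Gram matrix -/
def Jh (l : Type) [Fintype l] [DecidableEq l] (F : Type*) [Field F] : Matrix (l ⊕ l) (l ⊕ l) F :=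
  fromBlocks 0 1 1 0

omit [Fintype F] in
theorem Jh_mul_self : Jh l F * Jh l F = 1 := by
  unfold Jh
  rw [fromBlocks_multiply]
  simp

theorem Jh_herm : ((Jh l F).map (frobQ hF))ᵀ = Jh l F := by
  unfold Jh
  rw [fromBlocks_map, fromBlocks_transpose]
  simp

/-- unipotent elements of the Siegel radical -/
def aU (S : Matrix l l F) (hS : dag hF S = -S) : UJ q (Jh l F) :=
  mkUJ hF (Jh l F) (fromBlocks 1 S 0 1) (by rw [det_fromBlocks_zero₂₁]; simp) (by
    unfold Jh
    rw [fromBlocks_transpose, fromBlocks_map, fromBlocks_multiply, fromBlocks_multiply]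
    have : S.map (frobQ hF) + Sᵀ = 0 := by
      have h1 := congrArg transpose hS
      unfold dag at h1
      rw [transpose_transpose, transpose_neg] at h1
      rw [h1, neg_add_cancel]
    simp [this])

/-- Levi elements -/
def lU (M M' : Matrix l l F) (h : M' * M = 1) (hd : M.det = 1) : UJ q (Jh l F) :=
  mkUJ hF (Jh l F) (fromBlocks M 0 0 (dag hF M')) (by
    have hd' : M'.det = 1 := by
      have := congrArg det h
      rwa [det_mul, hd, mul_one, det_one] at this
    rw [det_fromBlocks_zero₂₁, hd, one_mul]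
    unfold dag
    rw [det_transpose]
    have : (M'.map (frobQ hF)).det = frobQ hF M'.det := by
      rw [RingHom.map_det]; rfl
    rw [this, hd', map_one]) (by
    unfold Jh
    rw [fromBlocks_transpose, fromBlocks_map, fromBlocks_multiply, fromBlocks_multiply]
    have e1 : Mᵀ * (dag hF M').map (frobQ hF) = 1 := by
      unfold dag
      rw [← transpose_map, map_map_frob, ← transpose_mul, h, transpose_one]
    have e2 : (dag hF M')ᵀ * M.map (frobQ hF) = 1 := by
      unfold dag
      rw [transpose_transpose, ← Matrix.map_mul, h, Matrix.map_one _ (map_zero _) (map_one _)]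
    simp [e1, e2])

theorem aU_congr {S S' : Matrix l l F} (hS : dag hF S = -S) (h : S = S') :
    aU hF S hS = aU hF S' (h ▸ hS) := by
  subst h; rfl

theorem aU_mul (S S' : Matrix l l F) (hS : dag hF S = -S) (hS' : dag hF S' = -S')
    (h : dag hF (S + S') = -(S + S')) : aU hF (S + S') h = aU hF S hS * aU hF S' hS' := by
  apply UJ_ext
  show fromBlocks 1 (S + S') 0 1 = fromBlocks 1 S 0 1 * fromBlocks 1 S' 0 1
  rw [fromBlocks_multiply]
  simp [add_comm]

theorem aU_zero : aU hF (0 : Matrix l l F) (by unfold dag; simp) = 1 := by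
  apply UJ_ext
  show fromBlocks 1 0 0 1 = (1 : Matrix (l ⊕ l) (l ⊕ l) F)
  exact fromBlocks_one

theorem lU_mul_aU (M M' : Matrix l l F) (h : M' * M = 1) (hd : M.det = 1) (S : Matrix l l F)
    (hS : dag hF S = -S) :
    lU hF M M' h hd * aU hF S hS = aU hF (M * S * dag hF M) (by
      rw [dag_mul, dag_mul, dag_dag, hS]; simp [mul_assoc]) * lU hF M M' h hd := by
  apply UJ_ext
  show fromBlocks M 0 0 (dag hF M') * fromBlocks 1 S 0 1
    = fromBlocks 1 (M * S * dag hF M) 0 1 * fromBlocks M 0 0 (dag hF M')
  rw [fromBlocks_multiply, fromBlocks_multiply]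
  have : M * S * dag hF M * dag hF M' = M * S := by
    rw [mul_assoc, ← dag_mul, h, dag_one, mul_one]
  simp [this]

include hF in
/-- a nonzero element of trace zero -/
theorem exists_skew : ∃ k : F, k ≠ 0 ∧ k ^ q = -k := by
  have hne := frobQ_ne_id hF
  obtain ⟨e, he⟩ : ∃ e : F, e ^ q ≠ e := by
    by_contra hcon
    push Not at hcon
    exact hne (RingHom.ext hcon)
  refine ⟨e - e ^ q, sub_ne_zero.mpr he.symm, ?_⟩
  rw [sub_pow_q hF, pow_q_pow_q hF]
  ring

variable (k : F) (hk : k ^ q = -k)

include hk in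
theorem dag_skew (Y : Matrix l l F) : dag hF (k • (Y + dag hF Y)) = -(k • (Y + dag hF Y)) := by
  rw [dag_smul, dag_add, dag_dag, hk, neg_smul, add_comm]

/-- the parametrisation of the Siegel radical by all matrices -/
def aY (y : l × l → F) : UJ q (Jh l F) :=
  aU hF (k • (matOf y + dag hF (matOf y))) (dag_skew hF k hk _)

theorem aY_add (x y : l × l → F) : aY hF k hk (x + y) = aY hF k hk x * aY hF k hk y := by
  unfold aY
  rw [← aU_mul]
  · apply aU_congr
    rw [matOf_add, dag_add, ← smul_add]
    congr 1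
    abel
  · rw [← smul_add, dag_smul, dag_add, dag_add, dag_add, dag_dag, dag_dag, hk, neg_smul]
    congr 2
    abel

theorem lU_mul_aY (M M' : Matrix l l F) (h : M' * M = 1) (hd : M.det = 1) (y : l × l → F) :
    lU hF M M' h hd * aY hF k hk y
      = aY hF k hk (vecOf (M * matOf y * dag hF M)) * lU hF M M' h hd := by
  unfold aY
  rw [lU_mul_aU]
  congr 1
  apply aU_congr
  rw [matOf_vecOf, dag_mul, dag_mul, dag_dag, Matrix.mul_smul, Matrix.smul_mul, mul_add, add_mul,
    mul_assoc M (dag hF (matOf y))]

end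

end Cfsg.Agent.Lib.Helper44
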