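import Cfsg.Agent.Lib.Helper44.SUb

/-!
# Weights of the Siegel radical of a hyperbolic unitary group: Hermitian matrices
-/

set_option autoImplicit false
set_option linter.unusedSectionVars false

namespace Cfsg.Agent.Lib.Helper44

open Matrix Cfsg.Agent.Lib.Helper17

section

variable {F : Type*} [Field F] [Fintype F] {q : ℕ} (hF : Fintype.card F = q ^ 2)

include hF in
/-- a primitive additive character invariant under `x ↦ x ^ q` -/
theorem exists_inv_addChar : ∃ ψ : AddChar F ℂ, ψ.IsPrimitive ∧ ∀ x, ψ (x ^ q) = ψ x := by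
  obtain ⟨ψ₁, hψ₁⟩ := exists_prim_addChar'' F
  obtain ⟨e, he⟩ := exists_trace_ne_zero hF
  obtain ⟨t, ht⟩ := AddChar.ne_one_iff.1 (hψ₁ one_ne_zero)
  have ht' : ψ₁ (1 * t) ≠ 1 := ht
  rw [one_mul] at ht'
  let f : F →+ F :=
    { toFun := fun x => t / (e + e ^ q) * (x + x ^ q)
      map_zero' := by
        have : (0 : F) ^ q = 0 := zero_pow (by have := two_le_of_card_sq hF; omega)
        rw [this]; ring
      map_add' := fun x y => by rw [add_pow_q hF]; ring }
  refine ⟨ψ₁.compAddMonoidHom f, AddChar.IsPrimitive.of_ne_one ?_, ?_⟩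
  · rw [AddChar.ne_one_iff]
    refine ⟨e, ?_⟩
    show ψ₁ (t / (e + e ^ q) * (e + e ^ q)) ≠ 1
    rwa [div_mul_cancel₀ _ he]
  · intro x
    show ψ₁ (t / (e + e ^ q) * (x ^ q + (x ^ q) ^ q)) = ψ₁ (t / (e + e ^ q) * (x + x ^ q))
    rw [pow_q_pow_q hF, add_comm (x ^ q) x]

variable {l : Type} [Fintype l] [DecidableEq l]

theorem trace_map_frob (A : Matrix l l F) : (A.map (frobQ hF)).trace = A.trace ^ q := by
  unfold Matrix.trace
  rw [sum_pow_q hF]
  rfl

/-- the weights of the Siegel radical: Hermitian matrices, closed under `SL`-congruence -/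
theorem exists_herm_weights [DecidableEq F] (k : F) (hk : k ^ q = -k) {d : ℕ}
    (R : UJ q (Jh l F) →* Matrix (Fin d) (Fin d) ℂ) :
    ∃ W : Finset (Matrix l l F), W.card ≤ d ∧ (∀ C ∈ W, Cᵀ = C.map (frobQ hF)) ∧
      (∀ C ∈ W, ∀ N N' : Matrix l l F, N' * N = 1 → N.det = 1 →
        Nᵀ * C * N.map (frobQ hF) ∈ W) ∧
      ((∀ C ∈ W, C = 0) → ∀ y, R (aY hF k hk y) = 1) := by
  classical
  obtain ⟨ψ, hψ, hinv⟩ := exists_inv_addChar hF
  have hq : (Fintype.card (l × l → F) : ℂ) ≠ 0 := by
    have : 0 < Fintype.card (l × l → F) := Fintype.card_pos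
    exact_mod_cast this.ne'
  have hadd := aY_add (l := l) hF k hk
  refine ⟨(Finset.univ.filter fun c => wOp ψ (aY hF k hk) R c ≠ 0).image matOf, ?_, ?_, ?_, ?_⟩
  · exact Finset.card_image_le.trans
      (card_weights_le _ R hψ hq hadd _ fun c hc => (Finset.mem_filter.mp hc).2)
  · intro C hC
    obtain ⟨c, hc, rfl⟩ := Finset.mem_image.mp hC
    have hc' := (Finset.mem_filter.mp hc).2
    rw [Matrix.ext_iff_trace_mul_right]
    intro A
    -- the character is trivial on `Z - Z*`
    have key : ∀ Z : Matrix l l F,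
        ψ (((matOf c)ᵀ * Z).trace - ((matOf c).map (frobQ hF) * Z).trace) = 1 := by
      intro Z
      have h1 := map_mul_wOp ψ (aY hF k hk) R hadd c (vecOf (Z - dag hF Z))
      have h0 : aY hF k hk (vecOf (Z - dag hF Z)) = 1 := by
        unfold aY
        rw [← aU_zero hF]
        apply aU_congr
        rw [matOf_vecOf, dag_sub, dag_dag]
        have : Z - dag hF Z + (dag hF Z - Z) = 0 := by abel
        rw [this, smul_zero]
      rw [h0, map_one, one_mul] at h1
      have h2 : (ψ (c ⬝ᵥ vecOf (Z - dag hF Z)) - 1) • wOp ψ (aY hF k hk) R c = 0 := by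
        rw [sub_smul, one_smul, ← h1, sub_self]
      have h3 : ψ (c ⬝ᵥ vecOf (Z - dag hF Z)) = 1 := by
        rcases smul_eq_zero.mp h2 with h3 | h3
        · exact sub_eq_zero.mp h3
        · exact absurd h3 hc'
      rw [dot_eq_trace, matOf_vecOf, mul_sub, trace_sub] at h3
      have e : ((matOf c)ᵀ * dag hF Z).trace = (((matOf c).map (frobQ hF) * Z).trace) ^ q := by
        rw [← trace_map_frob, Matrix.map_mul, map_map_frob]
        unfold dag
        rw [← transpose_mul, trace_transpose, trace_mul_comm]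
      rw [e, sub_eq_add_neg, AddChar.map_add_eq_mul, AddChar.map_neg_eq_inv, hinv,
        ← AddChar.map_neg_eq_inv, ← AddChar.map_add_eq_mul, ← sub_eq_add_neg] at h3
      exact h3
    by_contra hne
    have hne' : ((matOf c)ᵀ * A).trace - ((matOf c).map (frobQ hF) * A).trace ≠ 0 :=
      sub_ne_zero.mpr hne
    obtain ⟨t, ht⟩ := AddChar.ne_one_iff.1 (hψ hne')
    apply ht
    show ψ ((((matOf c)ᵀ * A).trace - ((matOf c).map (frobQ hF) * A).trace) * t) = 1
    have := key (t • A)
    rw [Matrix.mul_smul, Matrix.mul_smul, trace_smul, trace_smul, smul_eq_mul, smul_eq_mul,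
      ← mul_sub, mul_comm] at this
    exact this
  · intro C hC N N' hN hNd
    obtain ⟨c, hc, rfl⟩ := Finset.mem_image.mp hC
    have hc' := (Finset.mem_filter.mp hc).2
    have hN' : N * N' = 1 := mul_eq_one_comm.mp hN
    have hNd' : N'.det = 1 := by
      have := congrArg det hN
      rwa [det_mul, hNd, mul_one, det_one] at this
    refine Finset.mem_image.mpr ⟨vecOf (Nᵀ * matOf c * N.map (frobQ hF)), ?_, rfl⟩
    rw [Finset.mem_filter]
    refine ⟨Finset.mem_univ _, ?_⟩
    refine wOp_ne_zero_of_conj' ψ (aY hF k hk) R (lU hF N' N hN' hNd')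
      (fun y => vecOf (N' * matOf y * dag hF N')) ?_ (lU_mul_aY hF k hk N' N hN' hNd') c _ ?_ hc'
    · apply Function.Injective.bijective_of_finite
      intro y y' hy
      have h1 : N' * matOf y * dag hF N' = N' * matOf y' * dag hF N' := congrArg matOf hy
      have h3 : N * (N' * matOf y * dag hF N') * dag hF N
          = N * (N' * matOf y' * dag hF N') * dag hF N := by rw [h1]
      have e : ∀ Y : Matrix l l F, N * (N' * Y * dag hF N') * dag hF N = Y := by
        intro Y
        rw [mul_assoc N', ← mul_assoc N, hN', one_mul, mul_assoc, ← dag_mul, hN', dag_one, mul_one]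
      rw [e, e] at h3
      exact congrArg vecOf h3
    · intro y
      rw [dot_eq_trace, dot_eq_trace, matOf_vecOf, matOf_vecOf, transpose_mul, transpose_mul,
        transpose_transpose]
      have e : (N.map (frobQ hF))ᵀ * ((matOf c)ᵀ * N) * (N' * matOf y * dag hF N')
          = dag hF N * ((matOf c)ᵀ * matOf y) * dag hF N' := by
        have : (matOf c)ᵀ * N * (N' * matOf y) = (matOf c)ᵀ * matOf y := by
          rw [mul_assoc, ← mul_assoc N, hN', one_mul]
        calc (N.map (frobQ hF))ᵀ * ((matOf c)ᵀ * N) * (N' * matOf y * dag hF N')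
            = (N.map (frobQ hF))ᵀ * ((matOf c)ᵀ * N * (N' * matOf y)) * dag hF N' := by
              simp only [mul_assoc]
          _ = _ := by rw [this]; rfl
      rw [e, trace_mul_cycle, ← dag_mul, hN', dag_one, one_mul]
  · intro hW y
    apply map_eq_one_of_weights _ R hψ hq hadd
    intro c hc
    have h0 : matOf c = 0 :=
      hW _ (Finset.mem_image.mpr ⟨c, Finset.mem_filter.mpr ⟨Finset.mem_univ _, hc⟩, rfl⟩)
    have : c = 0 := congrArg vecOf h0
    rw [this, zero_dotProduct]

end

end Cfsg.Agent.Lib.Helper44
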