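import Cfsg.Agent.Lib.Helper44.WeightsSp

/-!
# Congruence-closed sets of symmetric matrices over a finite field of odd order
-/

set_option autoImplicit false
set_option linter.unusedSectionVars false

namespace Cfsg.Agent.Lib.Helper44

open Matrix Polynomial

section

variable {F : Type*} [Field F] {κ : Type*} [Fintype κ] [DecidableEq κ]

theorem one_add_vmv_inv (u φ : κ → F) (h : φ ⬝ᵥ u = 0) :
    (1 + vecMulVec u (-φ)) * (1 + vecMulVec u φ) = 1 := by
  rw [one_add_vmv_mul, neg_dotProduct, h, neg_zero, zero_smul, add_zero, add_assoc,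
    ← vecMulVec_add, neg_add_cancel, vecMulVec_zero, add_zero]

/-- `GL` is transitive on nonzero vectors. -/
theorem gl_transitive [Nontrivial κ] (e x : κ → F) (he : e ≠ 0) (hx : x ≠ 0) :
    ∃ N N' : Matrix κ κ F, N' * N = 1 ∧ N *ᵥ e = x := by
  refine elem_closure (fun x => ∃ N N' : Matrix κ κ F, N' * N = 1 ∧ N *ᵥ e = x) ?_ e x he hx
    ⟨1, 1, one_mul _, one_mulVec _⟩
  rintro c i j t hij ⟨N, N', hN, rfl⟩
  have h0 : (Pi.single j (1 : F) : κ → F) ⬝ᵥ Pi.single i t = 0 := by
    rw [dotProduct_single, Pi.single_eq_of_ne hij, zero_mul]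
  refine ⟨(1 + vecMulVec (Pi.single i t) (Pi.single j 1)) * N,
    N' * (1 + vecMulVec (Pi.single i t) (-Pi.single j 1)), ?_, ?_⟩
  · rw [mul_assoc, ← mul_assoc _ _ N, one_add_vmv_inv _ _ h0, one_mul, hN]
  · rw [← mulVec_mulVec, one_add_vmv_mulVec, single_dotProduct, one_mul]
    congr 1
    funext k
    by_cases hk : k = i
    · subst hk; simp [mul_comm]
    · simp [hk]

/-- the quadratic form of a matrix -/
def qf (C : Matrix κ κ F) (x : κ → F) : F := x ⬝ᵥ (C *ᵥ x)

theorem bil_symm {C : Matrix κ κ F} (hC : Cᵀ = C) (x y : κ → F) :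
    x ⬝ᵥ (C *ᵥ y) = y ⬝ᵥ (C *ᵥ x) := by
  rw [dotProduct_mulVec, ← hC, vecMul_transpose, hC, dotProduct_comm]

theorem qf_add {C : Matrix κ κ F} (hC : Cᵀ = C) (x y : κ → F) :
    qf C (x + y) = qf C x + qf C y + 2 * (x ⬝ᵥ (C *ᵥ y)) := by
  unfold qf
  rw [mulVec_add, add_dotProduct, dotProduct_add, dotProduct_add, bil_symm hC y x]
  ring

theorem qf_smul (C : Matrix κ κ F) (t : F) (x : κ → F) : qf C (t • x) = t ^ 2 * qf C x := by
  unfold qf
  rw [mulVec_smul, smul_dotProduct, dotProduct_smul, smul_eq_mul, smul_eq_mul]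
  ring

theorem exists_qf_ne_zero (h2 : (2 : F) ≠ 0) {C : Matrix κ κ F} (hC : Cᵀ = C) (h0 : C ≠ 0) :
    ∃ x, qf C x ≠ 0 := by
  by_contra hcon
  push Not at hcon
  apply h0
  ext i j
  have h1 := qf_add hC (Pi.single i 1) (Pi.single j 1)
  rw [hcon, hcon, hcon, zero_add, zero_add] at h1
  have h3 := (mul_eq_zero.mp h1.symm).resolve_left h2
  rw [single_dotProduct, one_mul, mulVec_single_one] at h3
  exact h3

theorem qf_congr (C N : Matrix κ κ F) (x : κ → F) : qf (Nᵀ * C * N) x = qf C (N *ᵥ x) := by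
  unfold qf
  rw [← mulVec_mulVec, ← mulVec_mulVec, dotProduct_mulVec, vecMul_transpose]

end

theorem exists_diag_quad_eq {F : Type*} [Field F] [Fintype F] (hodd : Odd (Fintype.card F))
    {a c : F} (ha : a ≠ 0) (hc : c ≠ 0) (δ : F) : ∃ x y : F, a * x ^ 2 + c * y ^ 2 = δ := by
  have hf : degree (C a * X ^ 2 : F[X]) = 2 := by
    rw [degree_C_mul_X_pow 2 ha]; rfl
  have hg : degree (C c * X ^ 2 - C δ : F[X]) = 2 := by
    rw [degree_sub_eq_left_of_degree_lt]
    · rw [degree_C_mul_X_pow 2 hc]; rfl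
    · rw [degree_C_mul_X_pow 2 hc]
      exact lt_of_le_of_lt degree_C_le (by norm_num)
  obtain ⟨x, y, h⟩ := FiniteField.exists_root_sum_quadratic hf hg (Nat.odd_iff.mp hodd)
  refine ⟨x, y, ?_⟩
  simp at h
  linear_combination h

section

variable {F : Type*} [Field F] [Fintype F] {κ : Type*} [Fintype κ] [DecidableEq κ]

/-- a symmetric matrix which is not of rank one represents every element -/
theorem qf_universal (hodd : Odd (Fintype.card F)) (h2 : (2 : F) ≠ 0) {C : Matrix κ κ F}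
    (hC : Cᵀ = C) (x₀ : κ → F) (hx₀ : qf C x₀ ≠ 0)
    (hne : C ≠ (qf C x₀)⁻¹ • vecMulVec (C *ᵥ x₀) (C *ᵥ x₀)) (δ : F) : ∃ x, qf C x = δ := by
  set γ := qf C x₀ with hγ
  set u := C *ᵥ x₀ with hu
  set C₁ := C - γ⁻¹ • vecMulVec u u with hC₁
  have hC₁s : C₁ᵀ = C₁ := by
    rw [hC₁, transpose_sub, transpose_smul, transpose_vecMulVec, hC]
  have hC₁0 : C₁ ≠ 0 := fun h => hne (sub_eq_zero.mp h)
  obtain ⟨y, hy⟩ := exists_qf_ne_zero h2 hC₁s hC₁0
  have hq1 : qf C₁ y = qf C y - γ⁻¹ * (u ⬝ᵥ y) ^ 2 := by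
    unfold qf
    rw [hC₁, sub_mulVec, smul_mulVec, vecMulVec_mulVec, dotProduct_sub, dotProduct_smul,
      op_smul_eq_smul, dotProduct_smul, smul_eq_mul, smul_eq_mul, dotProduct_comm y u]
    ring
  have hxy : x₀ ⬝ᵥ (C *ᵥ y) = u ⬝ᵥ y := by rw [bil_symm hC, dotProduct_comm]
  set y' := y + (-(γ⁻¹ * (u ⬝ᵥ y))) • x₀ with hy'
  have hb : x₀ ⬝ᵥ (C *ᵥ y') = 0 := by
    rw [hy', mulVec_add, mulVec_smul, dotProduct_add, dotProduct_smul, hxy, smul_eq_mul]
    have : x₀ ⬝ᵥ (C *ᵥ x₀) = γ := rfl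
    rw [this]
    field_simp
    ring
  have hqy' : qf C y' = qf C₁ y := by
    rw [hy', qf_add hC, qf_smul, mulVec_smul, dotProduct_smul, bil_symm hC y x₀, hxy, hq1, ← hγ,
      smul_eq_mul]
    field_simp
    ring
  obtain ⟨s, t, hst⟩ := exists_diag_quad_eq hodd hx₀ hy δ
  refine ⟨s • x₀ + t • y', ?_⟩
  rw [qf_add hC, qf_smul, qf_smul, mulVec_smul, smul_dotProduct, dotProduct_smul, hb, hqy', ← hγ,
    ← hst]
  simp only [smul_eq_mul]
  ring

end

section count

variable {F : Type*} [Field F] [Fintype F] [DecidableEq F]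

theorem vmv_self_eq {κ : Type*} {v w : κ → F} (hv : v ≠ 0) (h : vecMulVec w w = vecMulVec v v) :
    w = v ∨ w = -v := by
  obtain ⟨i, hi⟩ : ∃ i, v i ≠ 0 := by
    by_contra hcon
    push Not at hcon
    exact hv (funext hcon)
  have hii := congrFun (congrFun h i) i
  simp only [vecMulVec_apply] at hii
  rcases mul_self_eq_mul_self_iff.mp hii with h1 | h1
  · left
    funext j
    have hij := congrFun (congrFun h i) j
    simp only [vecMulVec_apply] at hij
    rw [h1] at hij
    exact mul_left_cancel₀ hi hij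
  · right
    funext j
    have hij := congrFun (congrFun h i) j
    simp only [vecMulVec_apply] at hij
    rw [h1] at hij
    rw [Pi.neg_apply]
    apply mul_left_cancel₀ hi
    linear_combination -hij

variable (m : ℕ) (W : Finset (Matrix (Fin (m + 1)) (Fin (m + 1)) F))
  (hcl : ∀ C ∈ W, ∀ N N' : Matrix (Fin (m + 1)) (Fin (m + 1)) F, N' * N = 1 → Nᵀ * C * N ∈ W)

include hcl in
theorem card_of_rank_one (hm : 1 ≤ m) (γ : F) (hγ : γ ≠ 0) (u : Fin (m + 1) → F) (hu : u ≠ 0)
    (hW : γ • vecMulVec u u ∈ W) : (Fintype.card F ^ (m + 1) - 1) / 2 ≤ W.card := by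
  have : Nontrivial (Fin (m + 1)) := Fin.nontrivial_iff_two_le.mpr (by omega)
  have hall : ∀ v : Fin (m + 1) → F, v ≠ 0 → γ • vecMulVec v v ∈ W := by
    intro v hv
    obtain ⟨N, N', hN, hNu⟩ := gl_transitive u v hu hv
    have h1 := hcl _ hW Nᵀ N'ᵀ (by rw [← transpose_mul, mul_eq_one_comm.mp hN, transpose_one])
    rw [transpose_transpose, Matrix.mul_smul, Matrix.smul_mul, mul_vecMulVec, vecMulVec_mul,
      vecMul_transpose, hNu] at h1
    exact h1
  have hsub : ((Finset.univ.filter fun v : Fin (m + 1) → F => v ≠ 0).image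
      fun v => γ • vecMulVec v v) ⊆ W := by
    intro C hC
    obtain ⟨v, hv, rfl⟩ := Finset.mem_image.mp hC
    exact hall v (Finset.mem_filter.mp hv).2
  have hcard : (Finset.univ.filter fun v : Fin (m + 1) → F => v ≠ 0).card
      = Fintype.card F ^ (m + 1) - 1 := by
    rw [Finset.filter_ne', Finset.card_erase_of_mem (Finset.mem_univ _), Finset.card_univ,
      Fintype.card_fun, Fintype.card_fin]
  have h2 : (Finset.univ.filter fun v : Fin (m + 1) → F => v ≠ 0).card
      ≤ 2 * ((Finset.univ.filter fun v : Fin (m + 1) → F => v ≠ 0).image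
        fun v => γ • vecMulVec v v).card := by
    apply Finset.card_le_mul_card_image
    intro b hb
    obtain ⟨v, hv, rfl⟩ := Finset.mem_image.mp hb
    have hv0 := (Finset.mem_filter.mp hv).2
    have : ((Finset.univ.filter fun v : Fin (m + 1) → F => v ≠ 0).filter
        fun a => γ • vecMulVec a a = γ • vecMulVec v v) ⊆ {v, -v} := by
      intro a ha
      have h1 := (Finset.mem_filter.mp ha).2
      have h3 : vecMulVec a a = vecMulVec v v := smul_right_injective _ hγ h1
      rcases vmv_self_eq hv0 h3 with h4 | h4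
      · rw [Finset.mem_insert]; left; exact h4
      · rw [Finset.mem_insert, Finset.mem_singleton]; right; exact h4
    exact (Finset.card_le_card this).trans Finset.card_le_two
  have h3 := Finset.card_le_card hsub
  rw [hcard] at h2
  omega

include hcl in
theorem exists_first_column (hm : 1 ≤ m) {C : Matrix (Fin (m + 1)) (Fin (m + 1)) F} (hC : C ∈ W)
    (w : Fin (m + 1) → F) (hw : w 0 ≠ 0) (x : Fin (m + 1) → F) (hx : qf C x = w 0) :
    ∃ C' ∈ W, C' *ᵥ Pi.single 0 1 = w := by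
  have : Nontrivial (Fin (m + 1)) := Fin.nontrivial_iff_two_le.mpr (by omega)
  set e : Fin (m + 1) → F := Pi.single 0 1 with he
  have he0 : e ≠ 0 := by
    intro h
    have := congrFun h 0
    simp [he] at this
  have hx0 : x ≠ 0 := by
    rintro rfl
    apply hw
    rw [← hx]
    simp [qf]
  obtain ⟨N, N', hN, hNe⟩ := gl_transitive e x he0 hx0
  set C₁ := Nᵀ * C * N with hC₁
  have hC₁W : C₁ ∈ W := hcl C hC N N' hN
  have hδ : e ⬝ᵥ (C₁ *ᵥ e) = w 0 := by
    have := qf_congr C N e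
    rw [hNe, hx] at this
    exact this
  set s : Fin (m + 1) → F := (w 0)⁻¹ • (w - C₁ *ᵥ e) with hs
  have hse : s ⬝ᵥ e = 0 := by
    rw [hs, smul_dotProduct, sub_dotProduct, dotProduct_comm (C₁ *ᵥ e), hδ, he, dotProduct_single,
      mul_one, sub_self, smul_zero]
  refine ⟨(1 + vecMulVec e s)ᵀ * C₁ * (1 + vecMulVec e s),
    hcl C₁ hC₁W _ _ (one_add_vmv_inv e s hse), ?_⟩
  rw [← mulVec_mulVec, ← mulVec_mulVec, one_add_vmv_mulVec, hse, zero_smul, add_zero, transpose_add,
    transpose_one, transpose_vecMulVec, one_add_vmv_mulVec, hδ, hs, smul_smul, mul_inv_cancel₀ hw,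
    one_smul]
  abel

include hcl in
/-- a congruence-closed set of symmetric matrices containing a nonzero matrix has at least
`(q^n-1)/2` elements -/
theorem card_congruence_closed (hodd : Odd (Fintype.card F)) (h2 : (2 : F) ≠ 0) (hm : 1 ≤ m)
    (hsym : ∀ C ∈ W, Cᵀ = C) {C : Matrix (Fin (m + 1)) (Fin (m + 1)) F} (hC : C ∈ W) (hC0 : C ≠ 0) :
    (Fintype.card F ^ (m + 1) - 1) / 2 ≤ W.card := by
  obtain ⟨x₀, hx₀⟩ := exists_qf_ne_zero h2 (hsym C hC) hC0
  by_cases hr : C = (qf C x₀)⁻¹ • vecMulVec (C *ᵥ x₀) (C *ᵥ x₀)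
  · refine card_of_rank_one m W hcl hm _ (inv_ne_zero hx₀) (C *ᵥ x₀) ?_ (hr ▸ hC)
    intro h0
    apply hx₀
    rw [qf, h0, dotProduct_zero]
  · have huniv := qf_universal hodd h2 (hsym C hC) x₀ hx₀ hr
    let g : Fˣ × (Fin m → F) → (Fin (m + 1) → F) := fun p => vecCons (p.1 : F) p.2
    have hg : Function.Injective g := by
      intro p p' h
      have h0 := congrFun h 0
      have h1 : p.2 = p'.2 := by
        funext i
        have := congrFun h i.succ
        simpa [g] using this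
      exact Prod.ext (Units.ext (by simpa [g] using h0)) h1
    have hsub : (Finset.univ.image g) ⊆ W.image fun C' => C' *ᵥ Pi.single 0 1 := by
      intro w hw
      obtain ⟨p, -, rfl⟩ := Finset.mem_image.mp hw
      have hw0 : g p 0 ≠ 0 := by simp [g]
      obtain ⟨x, hx⟩ := huniv (g p 0)
      obtain ⟨C', hC', hC'e⟩ := exists_first_column m W hcl hm hC (g p) hw0 x hx
      exact Finset.mem_image.mpr ⟨C', hC', hC'e⟩
    have h3 := (Finset.card_le_card hsub).trans Finset.card_image_le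
    rw [Finset.card_image_of_injective _ hg, Finset.card_univ, Fintype.card_prod,
      Fintype.card_units, Fintype.card_fun, Fintype.card_fin] at h3
    refine le_trans ?_ h3
    have hq : 2 ≤ Fintype.card F := Fintype.one_lt_card
    obtain ⟨r, hr⟩ : ∃ r, Fintype.card F = r + 2 := ⟨Fintype.card F - 2, by omega⟩
    rw [pow_succ]
    generalize Fintype.card F ^ m = Q
    rw [hr]
    apply Nat.div_le_of_le_mul
    have : r + 2 - 1 = r + 1 := by omega
    rw [this]
    have : Q * (r + 2) ≤ 2 * ((r + 1) * Q) := by nlinarith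
    omega

end count

end Cfsg.Agent.Lib.Helper44
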