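import Cfsg.Agent.Lib.Helper44.SUa
import Cfsg.Agent.Lib.Helper44.WeilBound2
import Cfsg.Agent.Lib.Helper17.UnitTransv

/-!
# `SL`-congruence-closed sets of Hermitian matrices
-/

set_option autoImplicit false
set_option linter.unusedSectionVars false

namespace Cfsg.Agent.Lib.Helper44

open Matrix Cfsg.Agent.Lib.Helper17

section

variable {F : Type*} [Field F] {κ : Type} [Fintype κ] [DecidableEq κ]

/-- `SL` is transitive on nonzero vectors. -/
theorem sl_transitive [Nontrivial κ] (e x : κ → F) (he : e ≠ 0) (hx : x ≠ 0) :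
    ∃ N N' : Matrix κ κ F, N' * N = 1 ∧ N.det = 1 ∧ N *ᵥ e = x := by
  refine elem_closure (fun x => ∃ N N' : Matrix κ κ F, N' * N = 1 ∧ N.det = 1 ∧ N *ᵥ e = x) ?_ e x
    he hx ⟨1, 1, one_mul _, det_one, one_mulVec _⟩
  rintro c i j t hij ⟨N, N', hN, hd, rfl⟩
  have h0 : (Pi.single j (1 : F) : κ → F) ⬝ᵥ Pi.single i t = 0 := by
    rw [dotProduct_single, Pi.single_eq_of_ne hij, zero_mul]
  refine ⟨(1 + vecMulVec (Pi.single i t) (Pi.single j 1)) * N,
    N' * (1 + vecMulVec (Pi.single i t) (-Pi.single j 1)), ?_, ?_, ?_⟩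
  · rw [mul_assoc, ← mul_assoc _ _ N, one_add_vmv_inv _ _ h0, one_mul, hN]
  · rw [det_mul, hd, mul_one, det_one_add_vmv _ _ h0]
  · rw [← mulVec_mulVec, one_add_vmv_mulVec, single_dotProduct, one_mul]
    congr 1
    funext k
    by_cases hk : k = i
    · subst hk; simp [mul_comm]
    · simp [hk]

end

section

variable {F : Type*} [Field F] [Fintype F] {q : ℕ} (hF : Fintype.card F = q ^ 2)
  {κ : Type} [Fintype κ] [DecidableEq κ]

omit [Fintype F] [DecidableEq κ] in
theorem fJ_add_left (C : Matrix κ κ F) (u u' v : κ → F) :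
    fJ q C (u + u') v = fJ q C u v + fJ q C u' v := by
  unfold fJ; rw [add_dotProduct]

include hF in
theorem fJ_add_right (C : Matrix κ κ F) (u v v' : κ → F) :
    fJ q C u (v + v') = fJ q C u v + fJ q C u v' := by
  unfold fJ; rw [fv_add hF, mulVec_add, dotProduct_add]

omit [Fintype F] [DecidableEq κ] in
theorem fJ_smul_left (C : Matrix κ κ F) (c : F) (u v : κ → F) :
    fJ q C (c • u) v = c * fJ q C u v := by
  unfold fJ; rw [smul_dotProduct, smul_eq_mul]

omit [Fintype F] [DecidableEq κ] in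
theorem fJ_smul_right (C : Matrix κ κ F) (c : F) (u v : κ → F) :
    fJ q C u (c • v) = c ^ q * fJ q C u v := by
  unfold fJ; rw [fv_smul, mulVec_smul, dotProduct_smul, smul_eq_mul]

theorem fJ_conj {C : Matrix κ κ F} (hC : Cᵀ = C.map (frobQ hF)) (u v : κ → F) :
    (fJ q C u v) ^ q = fJ q C v u := by
  unfold fJ
  rw [dot_pow_q hF, fv_mulVec hF, fv_fv hF, dotProduct_comm, mulVec_dot, ← hC, transpose_transpose]

theorem fJ_congr (C N : Matrix κ κ F) (u v : κ → F) :
    fJ q (Nᵀ * C * N.map (frobQ hF)) u v = fJ q C (N *ᵥ u) (N *ᵥ v) := by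
  unfold fJ
  rw [mulVec_dot, fv_mulVec hF, mulVec_mulVec, mulVec_mulVec]

include hF in
theorem fv_single (i : κ) : fv q (Pi.single i (1 : F) : κ → F) = Pi.single i 1 := by
  have hq : q ≠ 0 := by have := two_le_of_card_sq hF; omega
  funext j
  unfold fv
  by_cases h : j = i
  · subst h; simp
  · simp [h, hq]

include hF in
theorem fJ_single (C : Matrix κ κ F) (i j : κ) :
    fJ q C (Pi.single i 1) (Pi.single j 1) = C i j := by
  unfold fJ
  rw [fv_single hF, single_dotProduct, one_mul, mulVec_single_one]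
  rfl

/-- a nonzero Hermitian matrix has a non-isotropic vector -/
theorem exists_fJ_ne_zero {C : Matrix κ κ F} (hC : Cᵀ = C.map (frobQ hF)) (h0 : C ≠ 0) :
    ∃ x, fJ q C x x ≠ 0 := by
  by_contra hcon
  push Not at hcon
  obtain ⟨e, he⟩ := exists_trace_ne_zero hF
  have key : ∀ u v, fJ q C u v = 0 := by
    intro u v
    by_contra hg
    have h1 := hcon ((e / fJ q C u v) • u + v)
    rw [fJ_add_left, fJ_add_right hF, fJ_add_right hF, hcon, hcon, zero_add, add_zero,
      ← fJ_conj hF hC ((e / fJ q C u v) • u) v, fJ_smul_left, div_mul_cancel₀ _ hg] at h1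
    exact he h1
  apply h0
  ext i j
  rw [← fJ_single hF C i j, key]
  rfl

omit [Fintype F] [DecidableEq κ] in
theorem fJ_sub_mat (C D : Matrix κ κ F) (u v : κ → F) :
    fJ q (C - D) u v = fJ q C u v - fJ q D u v := by
  unfold fJ; rw [sub_mulVec, dotProduct_sub]

omit [Fintype F] [DecidableEq κ] in
theorem fJ_vmv (γ : F) (a b u v : κ → F) :
    fJ q (γ • vecMulVec a b) u v = γ * ((u ⬝ᵥ a) * (b ⬝ᵥ fv q v)) := by
  unfold fJ
  rw [smul_mulVec, vecMulVec_mulVec, dotProduct_smul, op_smul_eq_smul, dotProduct_smul, smul_eq_mul,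
    smul_eq_mul]
  ring

/-- a Hermitian matrix which is not of rank one has an isotropic vector outside its radical -/
theorem exists_isotropic {C : Matrix κ κ F} (hC : Cᵀ = C.map (frobQ hF)) (x₀ : κ → F)
    (hx₀ : fJ q C x₀ x₀ ≠ 0)
    (hne : C ≠ (fJ q C x₀ x₀)⁻¹ • vecMulVec (C *ᵥ fv q x₀) (fv q (C *ᵥ fv q x₀))) :
    ∃ z, fJ q C z z = 0 ∧ C *ᵥ fv q z ≠ 0 := by
  set γ := fJ q C x₀ x₀ with hγ
  set u := C *ᵥ fv q x₀ with hu
  have hγq : γ ^ q = γ := fJ_conj hF hC x₀ x₀
  set C₁ := C - γ⁻¹ • vecMulVec u (fv q u) with hC₁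
  have hC₁s : C₁ᵀ = C₁.map (frobQ hF) := by
    rw [hC₁, transpose_sub, transpose_smul, transpose_vecMulVec, hC,
      Matrix.map_sub _ (map_sub _)]
    congr 1
    ext i j
    simp only [Matrix.smul_apply, vecMulVec_apply, Matrix.map_apply, frobQ_apply, smul_eq_mul,
      mul_pow, inv_pow, hγq, fv, pow_q_pow_q hF]
  have hC₁0 : C₁ ≠ 0 := fun h => hne (sub_eq_zero.mp h)
  obtain ⟨y, hy⟩ := exists_fJ_ne_zero hF hC₁s hC₁0
  set β := fJ q C y x₀ with hβ
  have hβ' : y ⬝ᵥ u = β := rfl
  have hβq : fJ q C x₀ y = β ^ q := (fJ_conj hF hC y x₀).symm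
  have hq1 : fJ q C₁ y y = fJ q C y y - γ⁻¹ * (β * β ^ q) := by
    rw [hC₁, fJ_sub_mat, fJ_vmv, hβ', ← dot_pow_q hF, dotProduct_comm u y, hβ']
  set γ₂ := fJ q C₁ y y with hγ₂
  have hγ₂q : γ₂ ^ q = γ₂ := fJ_conj hF hC₁s y y
  set y' := y + (-(β / γ)) • x₀ with hy'
  have hb : fJ q C y' x₀ = 0 := by
    rw [hy', fJ_add_left, fJ_smul_left, ← hβ, ← hγ]
    field_simp
    ring
  have hb' : fJ q C x₀ y' = 0 := by
    rw [← fJ_conj hF hC y' x₀, hb, zero_pow (by have := two_le_of_card_sq hF; omega)]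
  have hqy' : fJ q C y' y' = γ₂ := by
    have e1 : fJ q C y' y' = fJ q C y' y := by
      conv_lhs => rw [hy']
      rw [← hy', fJ_add_right hF, fJ_smul_right, hb, mul_zero, add_zero]
    rw [e1, hy', fJ_add_left, fJ_smul_left, hβq, hq1]
    field_simp
    ring
  obtain ⟨s, hs⟩ := exists_norm_eq hF (-γ₂ / γ) (div_ne_zero (neg_ne_zero.mpr hy) hx₀) (by
    rw [div_pow, neg_pow_q hF, hγ₂q, hγq])
  have hs0 : s ≠ 0 := by
    rintro rfl
    rw [zero_pow (by omega)] at hs
    exact div_ne_zero (neg_ne_zero.mpr hy) hx₀ hs.symm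
  clear_value y'
  refine ⟨s • x₀ + y', ?_, ?_⟩
  · rw [fJ_add_left, fJ_add_right hF, fJ_add_right hF, fJ_smul_left, fJ_smul_right, fJ_smul_left,
      fJ_smul_right, hb, hb', hqy', ← hγ]
    have : s * (s ^ q * γ) = s ^ (q + 1) * γ := by ring
    rw [this, hs]
    field_simp
    ring
  · intro h0
    have h1 : fJ q C x₀ (s • x₀ + y') = 0 := by
      unfold fJ
      rw [h0, dotProduct_zero]
    rw [fJ_add_right hF, fJ_smul_right, hb', add_zero, ← hγ] at h1
    exact mul_ne_zero (pow_ne_zero _ hs0) hx₀ h1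

end

section count

variable {F : Type*} [Field F] [Fintype F] [DecidableEq F] {q : ℕ} (hF : Fintype.card F = q ^ 2)

theorem card_pow_eq_le (n : ℕ) (hn : 0 < n) (a : F) :
    (Finset.univ.filter fun x : F => x ^ n = a).card ≤ n := by
  have : (Finset.univ.filter fun x : F => x ^ n = a) ⊆ (Polynomial.nthRoots n a).toFinset := by
    intro x hx
    rw [Multiset.mem_toFinset, Polynomial.mem_nthRoots hn]
    exact (Finset.mem_filter.mp hx).2
  exact (Finset.card_le_card this).trans
    ((Multiset.toFinset_card_le _).trans (Polynomial.card_nthRoots n a))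

include hF in
theorem card_skew_le : (Finset.univ.filter fun x : F => x ^ q = -x).card ≤ q := by
  have hq := two_le_of_card_sq hF
  have : (Finset.univ.filter fun x : F => x ^ q = -x)
      ⊆ insert 0 (Finset.univ.filter fun x : F => x ^ (q - 1) = -1) := by
    intro x hx
    have h := (Finset.mem_filter.mp hx).2
    by_cases h0 : x = 0
    · simp [h0]
    · rw [Finset.mem_insert]; right
      rw [Finset.mem_filter]
      refine ⟨Finset.mem_univ _, ?_⟩
      have : x ^ (q - 1) * x = -1 * x := by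
        rw [← pow_succ, Nat.sub_add_cancel (by omega), h]; ring
      exact mul_right_cancel₀ h0 this
  have h1 := Finset.card_le_card this
  have h2 := Finset.card_insert_le (0 : F) (Finset.univ.filter fun x : F => x ^ (q - 1) = -1)
  have h3 := card_pow_eq_le (q - 1) (by omega) (-1 : F)
  omega

variable (m : ℕ) (W : Finset (Matrix (Fin (m + 1)) (Fin (m + 1)) F))
  (hcl : ∀ C ∈ W, ∀ N N' : Matrix (Fin (m + 1)) (Fin (m + 1)) F, N' * N = 1 → N.det = 1 →
    Nᵀ * C * N.map (frobQ hF) ∈ W)

include hF in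
theorem card_vec : Fintype.card (Fin m → F) = q ^ (2 * m) := by
  rw [Fintype.card_fun, Fintype.card_fin, hF, pow_mul]

include hcl in
theorem herm_card_rank_one (hm : 1 ≤ m) (γ : F) (hγ : γ ≠ 0) (u : Fin (m + 1) → F) (hu : u ≠ 0)
    (hW : γ • vecMulVec u (fv q u) ∈ W) : q ^ (2 * (m + 1)) - 1 ≤ (q + 1) * W.card := by
  have : Nontrivial (Fin (m + 1)) := Fin.nontrivial_iff_two_le.mpr (by omega)
  have hall : ∀ v : Fin (m + 1) → F, v ≠ 0 → γ • vecMulVec v (fv q v) ∈ W := by
    intro v hv
    obtain ⟨N, N', hN, hd, hNu⟩ := sl_transitive u v hu hv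
    have h1 := hcl _ hW Nᵀ N'ᵀ (by rw [← transpose_mul, mul_eq_one_comm.mp hN, transpose_one])
      (by rw [det_transpose, hd])
    have e : fv q u ᵥ* (Nᵀ.map (frobQ hF)) = fv q v := by
      rw [transpose_map, vecMul_transpose, ← fv_mulVec hF, hNu]
    rw [transpose_transpose, Matrix.mul_smul, Matrix.smul_mul, mul_vecMulVec, vecMulVec_mul,
      hNu, e] at h1
    exact h1
  have hsub : ((Finset.univ.filter fun v : Fin (m + 1) → F => v ≠ 0).image
      fun v => γ • vecMulVec v (fv q v)) ⊆ W := by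
    intro C hC
    obtain ⟨v, hv, rfl⟩ := Finset.mem_image.mp hC
    exact hall v (Finset.mem_filter.mp hv).2
  have hcard : (Finset.univ.filter fun v : Fin (m + 1) → F => v ≠ 0).card
      = q ^ (2 * (m + 1)) - 1 := by
    rw [Finset.filter_ne', Finset.card_erase_of_mem (Finset.mem_univ _), Finset.card_univ,
      card_vec hF]
  have h2 : (Finset.univ.filter fun v : Fin (m + 1) → F => v ≠ 0).card
      ≤ (q + 1) * ((Finset.univ.filter fun v : Fin (m + 1) → F => v ≠ 0).image
        fun v => γ • vecMulVec v (fv q v)).card := by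
    apply Finset.card_le_mul_card_image
    intro b hb
    obtain ⟨v, hv, rfl⟩ := Finset.mem_image.mp hb
    have hv0 := (Finset.mem_filter.mp hv).2
    obtain ⟨i, hi⟩ : ∃ i, v i ≠ 0 := by
      by_contra hcon
      push Not at hcon
      exact hv0 (funext hcon)
    have : ((Finset.univ.filter fun v : Fin (m + 1) → F => v ≠ 0).filter
        fun a => γ • vecMulVec a (fv q a) = γ • vecMulVec v (fv q v))
        ⊆ (Finset.univ.filter fun x : F => x ^ (q + 1) = 1).image fun lam => lam • v := by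
      intro a ha
      have h1 := (Finset.mem_filter.mp ha).2
      have h3 : vecMulVec a (fv q a) = vecMulVec v (fv q v) := smul_right_injective _ hγ h1
      have hent : ∀ j k, a j * a k ^ q = v j * v k ^ q := fun j k => congrFun (congrFun h3 j) k
      have hai : a i ≠ 0 := by
        intro h0
        have := hent i i
        rw [h0, zero_mul] at this
        exact mul_ne_zero hi (pow_ne_zero _ hi) this.symm
      have hlam : (a i / v i) ^ (q + 1) = 1 := by
        rw [div_pow, pow_succ', pow_succ', hent i i, div_self (mul_ne_zero hi (pow_ne_zero _ hi))]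
      refine Finset.mem_image.mpr ⟨a i / v i, Finset.mem_filter.mpr ⟨Finset.mem_univ _, hlam⟩, ?_⟩
      funext j
      rw [Pi.smul_apply, smul_eq_mul]
      have h4 := hent j i
      have h5 := hent i i
      have hq1 : a i ^ q ≠ 0 := pow_ne_zero _ hai
      apply mul_right_cancel₀ hq1
      rw [h4]
      field_simp
      linear_combination (v j) * h5
    exact (Finset.card_le_card this).trans
      (Finset.card_image_le.trans (card_pow_eq_le (q + 1) (by omega) 1))
  have h3 := Finset.card_le_card hsub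
  rw [hcard] at h2
  exact h2.trans (Nat.mul_le_mul_left _ h3)

include hF in
theorem map_mulVec_single (N : Matrix (Fin (m + 1)) (Fin (m + 1)) F) (i : Fin (m + 1)) :
    N.map (frobQ hF) *ᵥ Pi.single i 1 = fv q (N *ᵥ Pi.single i 1) := by
  rw [fv_mulVec hF, fv_single hF]

include hcl in
theorem herm_first_column (hm : 1 ≤ m) {C : Matrix (Fin (m + 1)) (Fin (m + 1)) F} (hC : C ∈ W)
    (w : Fin (m + 1) → F) (hw : w 0 ≠ 0) (x : Fin (m + 1) → F) (hx : fJ q C x x = w 0) :
    ∃ C' ∈ W, C' *ᵥ Pi.single 0 1 = w := by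
  have : Nontrivial (Fin (m + 1)) := Fin.nontrivial_iff_two_le.mpr (by omega)
  have hq0 : q ≠ 0 := by have := two_le_of_card_sq hF; omega
  set e : Fin (m + 1) → F := Pi.single 0 1 with he
  have he0 : e ≠ 0 := by
    intro h
    have := congrFun h 0
    simp [he] at this
  have hx0 : x ≠ 0 := by
    rintro rfl
    apply hw
    rw [← hx]
    simp [fJ]
  obtain ⟨N, N', hN, hd, hNe⟩ := sl_transitive e x he0 hx0
  set C₁ := Nᵀ * C * N.map (frobQ hF) with hC₁
  have hC₁W : C₁ ∈ W := hcl C hC N N' hN hd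
  have hδ : e ⬝ᵥ (C₁ *ᵥ e) = w 0 := by
    have := fJ_congr hF C N e e
    rw [hNe, hx] at this
    unfold fJ at this
    rwa [he, fv_single hF] at this
  set s : Fin (m + 1) → F := (w 0)⁻¹ • (w - C₁ *ᵥ e) with hs
  have hse : s ⬝ᵥ e = 0 := by
    rw [hs, smul_dotProduct, sub_dotProduct, dotProduct_comm (C₁ *ᵥ e), hδ, he, dotProduct_single,
      mul_one, sub_self, smul_zero]
  refine ⟨(1 + vecMulVec e s)ᵀ * C₁ * (1 + vecMulVec e s).map (frobQ hF),
    hcl C₁ hC₁W _ _ (one_add_vmv_inv e s hse) (det_one_add_vmv e s hse), ?_⟩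
  rw [← mulVec_mulVec, ← mulVec_mulVec, map_mulVec_single hF, ← he, one_add_vmv_mulVec, hse,
    zero_smul, add_zero, he, fv_single hF, ← he, transpose_add, transpose_one, transpose_vecMulVec,
    one_add_vmv_mulVec, hδ, hs, smul_smul, mul_inv_cancel₀ hw, one_smul]
  abel

include hcl in
/-- the stratum of matrices with vanishing `(0,0)` entry -/
theorem herm_second_stratum (hm : 1 ≤ m) (hsym : ∀ C ∈ W, Cᵀ = C.map (frobQ hF))
    {C : Matrix (Fin (m + 1)) (Fin (m + 1)) F} (hC : C ∈ W)
    (z : Fin (m + 1) → F) (hz : fJ q C z z = 0) (hz' : C *ᵥ fv q z ≠ 0) :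
    q ^ (2 * m) ≤ q * (W.filter fun C' => C' 0 0 = 0).card := by
  have : Nontrivial (Fin (m + 1)) := Fin.nontrivial_iff_two_le.mpr (by omega)
  have hq0 : q ≠ 0 := by have := two_le_of_card_sq hF; omega
  set e : Fin (m + 1) → F := Pi.single 0 1 with he
  have he0 : e ≠ 0 := by
    intro h
    have := congrFun h 0
    simp [he] at this
  have hz0 : z ≠ 0 := by
    rintro rfl
    apply hz'
    rw [fv_zero hF, mulVec_zero]
  obtain ⟨N, N', hN, hd, hNe⟩ := sl_transitive e z he0 hz0
  set C₁ := Nᵀ * C * N.map (frobQ hF) with hC₁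
  have hC₁W : C₁ ∈ W := hcl C hC N N' hN hd
  have hC₁s := hsym C₁ hC₁W
  set t := C₁ *ᵥ e with ht
  have ht_eq : t = Nᵀ *ᵥ (C *ᵥ fv q z) := by
    rw [ht, hC₁, ← mulVec_mulVec, ← mulVec_mulVec, he, map_mulVec_single hF, ← he, hNe]
  have ht0 : t ≠ 0 := by
    intro h0
    apply hz'
    have h1 : N'ᵀ *ᵥ (Nᵀ *ᵥ (C *ᵥ fv q z)) = 0 := by rw [← ht_eq, h0, mulVec_zero]
    rwa [mulVec_mulVec, ← transpose_mul, mul_eq_one_comm.mp hN, transpose_one, one_mulVec] at h1
  have ht00 : t 0 = 0 := by
    have := fJ_congr hF C N e e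
    rw [hNe, hz] at this
    unfold fJ at this
    rw [he, fv_single hF, single_dotProduct, one_mul] at this
    exact this
  have hrow : e ᵥ* C₁ = fv q t := by
    rw [← mulVec_transpose, hC₁s, ht, fv_mulVec hF, he, fv_single hF]
  -- the family
  let Ψ : (Fin m → F) → Matrix (Fin (m + 1)) (Fin (m + 1)) F := fun s' =>
    C₁ + vecMulVec (vecCons 0 s') (fv q t) + vecMulVec t (fv q (vecCons 0 s'))
  have hΨ : ∀ s', Ψ s' ∈ W.filter fun C' => C' 0 0 = 0 := by
    intro s'
    set s : Fin (m + 1) → F := vecCons 0 s' with hs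
    have hse : s ⬝ᵥ e = 0 := by rw [he, dotProduct_single, hs]; simp
    have h1 := hcl C₁ hC₁W _ _ (one_add_vmv_inv e s hse) (det_one_add_vmv e s hse)
    have e1 : (1 + vecMulVec e s)ᵀ * C₁ * (1 + vecMulVec e s).map (frobQ hF) = Ψ s' := by
      have e2 : (1 + vecMulVec e s).map (frobQ hF) = 1 + vecMulVec e (fv q s) := by
        rw [Matrix.map_add _ (map_add _), Matrix.map_one _ (map_zero _) (map_one _)]
        congr 1
        ext i j
        simp only [Matrix.map_apply, vecMulVec_apply, frobQ_apply, mul_pow, fv]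
        congr 1
        exact congrFun (fv_single hF (0 : Fin (m + 1))) i
      rw [e2, transpose_add, transpose_one, transpose_vecMulVec, add_mul, one_mul, mul_add, mul_one,
        vecMulVec_mul, hrow, add_mul, mul_vecMulVec, ← ht, vecMulVec_mul_vecMulVec]
      have e3 : fv q t ⬝ᵥ e = 0 := by
        rw [he, dotProduct_single, mul_one]
        show t 0 ^ q = 0
        rw [ht00, zero_pow hq0]
      rw [e3, zero_smul, vecMulVec_zero, add_zero]
    rw [e1] at h1
    rw [Finset.mem_filter]
    refine ⟨h1, ?_⟩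
    have hC00 : C₁ 0 0 = 0 := by
      have : t 0 = C₁ 0 0 := by
        rw [ht, he, mulVec_single_one]; rfl
      rw [← this, ht00]
    show C₁ 0 0 + (vecCons 0 s' : Fin (m + 1) → F) 0 * _ + t 0 * _ = 0
    rw [hC00, ht00]
    simp
  have hsub : (Finset.univ.image Ψ) ⊆ W.filter fun C' => C' 0 0 = 0 := by
    intro D hD
    obtain ⟨s', -, rfl⟩ := Finset.mem_image.mp hD
    exact hΨ s'
  have hfib : (Finset.univ : Finset (Fin m → F)).card ≤ q * (Finset.univ.image Ψ).card := by
    apply Finset.card_le_mul_card_image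
    intro b hb
    obtain ⟨s₂, -, rfl⟩ := Finset.mem_image.mp hb
    obtain ⟨j, hj⟩ : ∃ j, t j ≠ 0 := by
      by_contra hcon
      push Not at hcon
      exact ht0 (funext hcon)
    have : ((Finset.univ : Finset (Fin m → F)).filter fun a => Ψ a = Ψ s₂)
        ⊆ (Finset.univ.filter fun x : F => x ^ q = -x).image
          fun ρ => fun i : Fin m => s₂ i + ρ * t i.succ := by
      intro a ha
      have h1 : Ψ a = Ψ s₂ := (Finset.mem_filter.mp ha).2
      set r : Fin (m + 1) → F := vecCons 0 a - vecCons 0 s₂ with hr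
      have hent : ∀ i k, r i * t k ^ q + t i * r k ^ q = 0 := by
        intro i k
        have h2 := congrFun (congrFun h1 i) k
        simp only [Ψ, Matrix.add_apply, vecMulVec_apply, fv] at h2
        rw [hr, Pi.sub_apply, Pi.sub_apply, sub_pow_q hF]
        linear_combination h2
      have htq : t j ^ q ≠ 0 := pow_ne_zero _ hj
      have hρ : (r j / t j) ^ q = -(r j / t j) := by
        have := hent j j
        rw [div_pow]
        field_simp
        linear_combination this
      refine Finset.mem_image.mpr ⟨r j / t j, Finset.mem_filter.mpr ⟨Finset.mem_univ _, hρ⟩, ?_⟩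
      funext i
      have h3 := hent i.succ j
      have h4 : r i.succ = a i - s₂ i := by rw [hr]; simp
      have h5 : r i.succ = r j / t j * t i.succ := by
        apply mul_right_cancel₀ htq
        have h6 : r j ^ q = -(r j / t j) * t j ^ q := by
          rw [← hρ, div_pow, div_mul_cancel₀ _ htq]
        rw [h6] at h3
        linear_combination h3
      rw [← h5, h4]
      ring
    exact (Finset.card_le_card this).trans (Finset.card_image_le.trans (card_skew_le hF))
  rw [Finset.card_univ, card_vec hF] at hfib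
  exact hfib.trans (Nat.mul_le_mul_left _ (Finset.card_le_card hsub))

end count

end Cfsg.Agent.Lib.Helper44
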