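import Cfsg.Agent.Lib.Helper44.SUd

/-!
# The size of an `SL`-congruence-closed set of Hermitian matrices
-/

set_option autoImplicit false
set_option linter.unusedSectionVars false

namespace Cfsg.Agent.Lib.Helper44

open Matrix Cfsg.Agent.Lib.Helper17

section count

variable {F : Type*} [Field F] [Fintype F] [DecidableEq F] {q : ℕ} (hF : Fintype.card F = q ^ 2)

variable (m : ℕ) (W : Finset (Matrix (Fin (m + 1)) (Fin (m + 1)) F))
  (hcl : ∀ C ∈ W, ∀ N N' : Matrix (Fin (m + 1)) (Fin (m + 1)) F, N' * N = 1 → N.det = 1 →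
    Nᵀ * C * N.map (frobQ hF) ∈ W)

include hF in
theorem card_norm_image (γ : F) (hγ : γ ≠ 0) :
    q ^ 2 - 1 ≤ (q + 1) * (Finset.univ.image fun s : Fˣ => γ * (s : F) ^ (q + 1)).card := by
  have h := Finset.card_le_mul_card_image (f := fun s : Fˣ => γ * (s : F) ^ (q + 1))
    (Finset.univ : Finset Fˣ) (q + 1) ?_
  · rwa [Finset.card_univ, Fintype.card_units, hF] at h
  · intro b _
    refine le_trans ?_ (card_pow_eq_le (q + 1) (Nat.succ_pos q) (γ⁻¹ * b))
    refine Finset.card_le_card_of_injOn (fun s : Fˣ => (s : F)) ?_ ?_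
    · intro s hs
      have hs' := (Finset.mem_filter.mp (Finset.mem_coe.mp hs)).2
      rw [Finset.mem_coe, Finset.mem_filter]
      refine ⟨Finset.mem_univ _, ?_⟩
      rw [← hs', ← mul_assoc, inv_mul_cancel₀ hγ, one_mul]
    · intro a _ b _ hab
      exact Units.ext hab

include hcl in
theorem herm_card_bound (hm : 1 ≤ m) (hsym : ∀ C ∈ W, Cᵀ = C.map (frobQ hF))
    {C : Matrix (Fin (m + 1)) (Fin (m + 1)) F} (hC : C ∈ W) (h0 : C ≠ 0) :
    q ^ (2 * (m + 1)) - 1 ≤ (q + 1) * W.card := by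
  obtain ⟨x₀, hx₀⟩ := exists_fJ_ne_zero hF (hsym C hC) h0
  by_cases hr : C = (fJ q C x₀ x₀)⁻¹ • vecMulVec (C *ᵥ fv q x₀) (fv q (C *ᵥ fv q x₀))
  · have hu : C *ᵥ fv q x₀ ≠ 0 := by
      intro hu
      apply h0
      rw [hr, hu, zero_vecMulVec, smul_zero]
    refine herm_card_rank_one hF m W hcl hm _ (inv_ne_zero hx₀) _ hu ?_
    rw [← hr]; exact hC
  · obtain ⟨z, hz, hz'⟩ := exists_isotropic hF (hsym C hC) x₀ hx₀ hr
    have h2 := herm_second_stratum hF m W hcl hm hsym hC z hz hz'
    set γ := fJ q C x₀ x₀ with hγ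
    have hΔ := card_norm_image hF γ hx₀
    set Δ := (Finset.univ.image fun s : Fˣ => γ * (s : F) ^ (q + 1)) with hΔdef
    have h1 : Δ.card * q ^ (2 * m) ≤ (W.filter fun C' => ¬ C' 0 0 = 0).card := by
      have e1 : ((Δ ×ˢ (Finset.univ : Finset (Fin m → F))).image
          (fun p => (vecCons p.1 p.2 : Fin (m + 1) → F))).card = Δ.card * q ^ (2 * m) := by
        rw [Finset.card_image_of_injective, Finset.card_product, Finset.card_univ, card_vec hF]
        rintro ⟨a, b⟩ ⟨a', b'⟩ h
        have h' : (vecCons a b : Fin (m + 1) → F) = vecCons a' b' := h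
        have ha : a = a' := by simpa using congrFun h' 0
        have hb : b = b' := by
          funext i
          simpa using congrFun h' i.succ
        rw [ha, hb]
      rw [← e1]
      refine le_trans (Finset.card_le_card ?_)
        (Finset.card_image_le (s := W.filter fun C' => ¬ C' 0 0 = 0)
          (f := fun C' => C' *ᵥ (Pi.single 0 1 : Fin (m + 1) → F)))
      intro w hw
      obtain ⟨⟨δ, t⟩, hp, rfl⟩ := Finset.mem_image.mp hw
      have hδ : δ ∈ Δ := (Finset.mem_product.mp hp).1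
      obtain ⟨s, -, hs⟩ := Finset.mem_image.mp hδ
      have hδ0 : δ ≠ 0 := by
        rw [← hs]
        exact mul_ne_zero hx₀ (pow_ne_zero _ s.ne_zero)
      obtain ⟨C', hC', hcol⟩ := herm_first_column hF m W hcl hm hC (vecCons δ t) (by simpa using hδ0)
        ((s : F) • x₀) (by
          rw [fJ_smul_left, fJ_smul_right, ← hγ]
          simp only [cons_val_zero]
          rw [← hs]; ring)
      rw [Finset.mem_image]
      refine ⟨C', ?_, hcol⟩
      rw [Finset.mem_filter]
      refine ⟨hC', ?_⟩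
      have : C' 0 0 = δ := by
        have := congrFun hcol 0
        rw [mulVec_single_one] at this
        simpa using this
      rw [this]; exact hδ0
    have h3 := Finset.card_filter_add_card_filter_not (s := W) (fun C' => C' 0 0 = 0)
    have hq := two_le_of_card_sq hF
    rw [← h3]
    set A := q ^ (2 * m) with hA
    have e2 : q ^ (2 * (m + 1)) = q ^ 2 * A := by rw [hA, ← pow_add]; congr 1; ring
    rw [e2]
    set w₂ := (W.filter fun C' => C' 0 0 = 0).card
    set w₁ := (W.filter fun C' => ¬ C' 0 0 = 0).card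
    have hq2 : 1 ≤ q ^ 2 := Nat.one_le_pow _ _ (by omega)
    obtain ⟨Q, hQ⟩ : ∃ Q, q ^ 2 = Q + 1 := ⟨q ^ 2 - 1, by omega⟩
    rw [hQ] at hΔ ⊢
    have hΔ' : Q ≤ (q + 1) * Δ.card := by simpa using hΔ
    have e3 : Q * A ≤ (q + 1) * w₁ := by
      calc Q * A ≤ (q + 1) * Δ.card * A := Nat.mul_le_mul_right _ hΔ'
        _ = (q + 1) * (Δ.card * A) := by ring
        _ ≤ (q + 1) * w₁ := Nat.mul_le_mul_left _ h1
    have e4 : (Q + 1) * A ≤ (q + 1) * (w₂ + w₁) := by nlinarith
    omega

end count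

end Cfsg.Agent.Lib.Helper44
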