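import Cfsg.Agent.Lib.Helper44.SUc
import Cfsg.Agent.Lib.Helper44.SUe
import Cfsg.Agent.Lib.Helper20.CharOrth
import Cfsg.Agent.S0780
import Cfsg.Agent.S2644

/-!
# Lower bound `(q^n-1)/(q+1)` for the nonlinear irreducible complex representations of `SU_n(q)`,
`n` even
-/

set_option autoImplicit false
set_option linter.unusedSectionVars false

namespace Cfsg.Agent.Lib.Helper44

open Matrix Cfsg Cfsg.Agent.Lib.Helper17
open scoped ComplexConjugate

section

variable {F : Type*} [Field F] [Fintype F] {q : ℕ}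

omit [Fintype F] in
theorem eq_zero_of_rank_eq_zero {κ : Type} [Fintype κ] (M : Matrix κ κ F) (h : M.rank = 0) :
    M = 0 := by
  rw [Matrix.rank, Submodule.finrank_eq_zero, LinearMap.range_eq_bot] at h
  rw [Matrix.ext_iff_mulVec]
  intro x
  have := LinearMap.congr_fun h x
  simpa using this

omit [Fintype F] in
theorem isTransvection_unitary {n : ℕ} (v : Fin n → F) (c : F)
    (hne : Cfsg.unitaryTransvection n q v c ≠ 1) (h0 : Cfsg.hermForm n F q v v = 0) :
    Cfsg.IsTransvection (Cfsg.unitaryTransvection n q v c) := by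
  have e : Cfsg.unitaryTransvection n q v c - 1 = vecMulVec (c • v) (fun j => v j ^ q) := by
    unfold Cfsg.unitaryTransvection
    rw [add_sub_cancel_left, smul_vecMulVec]
  constructor
  · have h1 := rank_vecMulVec_le (c • v) (fun j => v j ^ q)
    rw [← e] at h1
    have h2 : (Cfsg.unitaryTransvection n q v c - 1).rank ≠ 0 := by
      intro h
      exact hne (sub_eq_zero.mp (eq_zero_of_rank_eq_zero _ h))
    omega
  · rw [e, vecMulVec_mul_vecMulVec]
    have : (fun j => v j ^ q) ⬝ᵥ (c • v) = 0 := by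
      rw [dotProduct_smul, dotProduct_comm]
      have : v ⬝ᵥ (fun j => v j ^ q) = Cfsg.hermForm n F q v v := rfl
      rw [this, h0, smul_zero]
    rw [this, zero_smul, vecMulVec_zero]

/-- a homomorphism from `SU_n(q)` killing one transvection is trivial -/
theorem su_hom_trivial (hF : Fintype.card F = q ^ 2) (n : ℕ) (hn : 3 ≤ n) (h32 : ¬ (n = 3 ∧ q = 2))
    {M : Type*} [Monoid M] (R : Cfsg.SU n F q →* M) (A₀ : Cfsg.SU n F q) (v₀ : Fin n → F) (c₀ : F)
    (hA₀ : A₀.1.1 = Cfsg.unitaryTransvection n q v₀ c₀) (hv₀ : Cfsg.hermForm n F q v₀ v₀ = 0)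
    (hne : A₀ ≠ 1) (hR : R A₀ = 1) (g : Cfsg.SU n F q) : R g = 1 := by
  have hgen := Cfsg.Agent.S0780.result hF n hn h32
  have ht₀ : Cfsg.IsTransvection (((A₀ : GL (Fin n) F) : Matrix (Fin n) (Fin n) F)) := by
    show Cfsg.IsTransvection A₀.1.1
    rw [hA₀]
    refine isTransvection_unitary v₀ c₀ ?_ hv₀
    rw [← hA₀]
    intro h
    exact hne (Subtype.ext (Subtype.ext h))
  have hle : (⊤ : Subgroup (Cfsg.SU n F q)) ≤ R.ker := by
    rw [← hgen, Subgroup.closure_le]
    rintro A ⟨v, c, hv, hA⟩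
    show A ∈ R.ker
    rw [MonoidHom.mem_ker]
    by_cases h1 : A = 1
    · rw [h1, map_one]
    · have ht : Cfsg.IsTransvection (((A : GL (Fin n) F) : Matrix (Fin n) (Fin n) F)) := by
        show Cfsg.IsTransvection A.1.1
        have hA' : A.1.1 = Cfsg.unitaryTransvection n q v c := hA
        rw [hA']
        refine isTransvection_unitary v c ?_ hv
        rw [← hA']
        intro h
        exact h1 (Subtype.ext (Subtype.ext h))
      obtain ⟨x, hx⟩ := isConj_iff.mp (Cfsg.Agent.S2644.result hF hn A₀ A ht₀ ht)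
      rw [← hx, map_mul, map_mul, hR, mul_one, ← map_mul, mul_inv_cancel, map_one]
  exact MonoidHom.mem_ker.mp (hle (Subgroup.mem_top g))

variable {l : Type} [Fintype l] [DecidableEq l]

theorem aY_single_mulVec (hF : Fintype.card F = q ^ 2) (k : F) (hk : k ^ q = -k) (i₀ : l) (a : F)
    (w : l ⊕ l → F) :
    (aY hF k hk (vecOf (Matrix.single i₀ i₀ a))).1.1 *ᵥ w
      = w + ((k * (a + a ^ q)) * fJ q (Jh l F) w (Pi.single (Sum.inl i₀) 1)) •
        (Pi.single (Sum.inl i₀) 1 : l ⊕ l → F) := by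
  have e1 : fJ q (Jh l F) w (Pi.single (Sum.inl i₀) 1) = w (Sum.inr i₀) := by
    unfold fJ
    rw [fv_single hF, mulVec_single_one]
    have : (Jh l F).col (Sum.inl i₀) = Pi.single (Sum.inr i₀) 1 := by
      funext j
      rcases j with j | j
      · simp [Jh, Matrix.col]
      · simp [Jh, Matrix.col, Matrix.one_apply, Pi.single_apply]
    rw [this, dotProduct_single, mul_one]
  rw [e1]
  have e2 : (aY hF k hk (vecOf (Matrix.single i₀ i₀ a))).1.1
      = fromBlocks 1 (k • (Matrix.single i₀ i₀ a + dag hF (Matrix.single i₀ i₀ a))) 0 1 := rfl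
  have e3 : dag hF (Matrix.single i₀ i₀ a) = Matrix.single i₀ i₀ (a ^ q) := by
    unfold dag
    rw [Matrix.map_single, transpose_single]
    rfl
  rw [e2, e3, ← Matrix.single_add, Matrix.smul_single, fromBlocks_mulVec]
  funext j
  rcases j with j | j
  · simp only [Sum.elim_inl, Pi.add_apply, one_mulVec, Function.comp, Pi.smul_apply, smul_eq_mul]
    congr 1
    by_cases hj : j = i₀
    · subst hj
      simp [Matrix.single_mulVec]
    · simp [Matrix.single_mulVec, hj]
  · simp

theorem fJ_Jh_single (hF : Fintype.card F = q ^ 2) (i₀ : l) (w : l ⊕ l → F) :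
    fJ q (Jh l F) w (Pi.single (Sum.inl i₀) 1) = w (Sum.inr i₀) := by
  unfold fJ
  rw [fv_single hF, mulVec_single_one]
  have : (Jh l F).col (Sum.inl i₀) = Pi.single (Sum.inr i₀) 1 := by
    funext j
    rcases j with j | j
    · simp [Jh, Matrix.col]
    · simp [Jh, Matrix.col, Matrix.one_apply, Pi.single_apply]
  rw [this, dotProduct_single, mul_one]

end

/-- an irreducible complex matrix representation which is trivial has degree one -/
theorem degree_of_trivial_irr {G : Type*} [Group G] [Finite G] {k : ℕ}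
    (ρ : Representation ℂ G (Fin k → ℂ)) (hρ : ρ.IsIrreducible) (hρ1 : ∀ g, ρ g = 1) : k * k = 1 := by
  classical
  have : Fintype G := Fintype.ofFinite _
  have hirr : IsIrrCharacter G ρ.character := ⟨k, ρ, hρ, rfl⟩
  have hnorm := Cfsg.Agent.Lib.Helper20.classInner_irr_self hirr
  have hch : ∀ g, ρ.character g = k := by
    intro g
    show LinearMap.trace ℂ _ (ρ g) = k
    rw [hρ1, LinearMap.trace_one, Module.finrank_fintype_fun_eq_card, Fintype.card_fin]
  unfold classInner at hnorm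
  simp only [hch, Complex.conj_natCast, Finset.sum_const, Finset.card_univ, nsmul_eq_mul] at hnorm
  rw [Nat.card_eq_fintype_card] at hnorm
  have hG : (Fintype.card G : ℂ) ≠ 0 := by
    exact_mod_cast Fintype.card_ne_zero
  rw [inv_mul_cancel_left₀ hG] at hnorm
  exact_mod_cast hnorm

theorem su_even_degree_bound {F : Type*} [Field F] [Fintype F] [DecidableEq F] (q : ℕ)
    (hF : Fintype.card F = q ^ 2) (m : ℕ) (hm : 1 ≤ m) (k : ℕ)
    (ρ : Representation ℂ (Cfsg.SU ((m + 1) + (m + 1)) F q) (Fin k → ℂ)) (hρ : ρ.IsIrreducible)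
    (hk : 2 ≤ k) : (q ^ ((m + 1) + (m + 1)) - 1) / (q + 1) ≤ k := by
  classical
  obtain ⟨Θ, Φ, hΦ, hΘ⟩ := exists_transport hF (Jh (Fin (m + 1)) F) (Jh (Fin (m + 1)) F)
    (Jh_herm hF) Jh_mul_self (k := (m + 1) + (m + 1)) (by simp [Fintype.card_sum])
  obtain ⟨κ, hκ0, hκ⟩ := exists_skew hF
  let R₀ : Cfsg.SU ((m + 1) + (m + 1)) F q →* Matrix (Fin k) (Fin k) ℂ :=
    ((LinearMap.toMatrixAlgEquiv' (R := ℂ) (n := Fin k)).toAlgHom.toRingHom.toMonoidHom).comp ρ
  obtain ⟨W, hWk, hsym, hcl, htriv⟩ := exists_herm_weights hF κ hκ (R₀.comp Θ)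
  by_cases h0 : ∀ C ∈ W, C = 0
  · exfalso
    obtain ⟨a, ha⟩ := exists_trace_ne_zero hF
    have hB : R₀ (Θ (aY hF κ hκ (vecOf (Matrix.single 0 0 a)))) = 1 := htriv h0 _
    set B := aY hF κ hκ (vecOf (Matrix.single (0 : Fin (m + 1)) 0 a)) with hBdef
    set e : Fin (m + 1) ⊕ Fin (m + 1) → F := Pi.single (Sum.inl 0) 1 with he
    have hmat : (Θ B).1.1
        = Cfsg.unitaryTransvection ((m + 1) + (m + 1)) q (Φ.symm e) (κ * (a + a ^ q)) := by
      rw [Matrix.ext_iff_mulVec]
      intro x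
      rw [hΘ, hBdef, aY_single_mulVec, unitaryTransvection_mulVec, map_add, map_smul,
        Φ.symm_apply_apply, ← hΦ x (Φ.symm e), Φ.apply_symm_apply]
    have hv0 : Cfsg.hermForm ((m + 1) + (m + 1)) F q (Φ.symm e) (Φ.symm e) = 0 := by
      rw [← hΦ, Φ.apply_symm_apply, he, fJ_Jh_single hF]
      simp
    have hne : Θ B ≠ 1 := by
      intro h
      have h1 : (Θ B).1.1 *ᵥ (Φ.symm (Pi.single (Sum.inr 0) 1)) = Φ.symm (Pi.single (Sum.inr 0) 1) := by
        rw [h]
        exact one_mulVec _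
      rw [hmat, unitaryTransvection_mulVec, ← hΦ, Φ.apply_symm_apply, Φ.apply_symm_apply, he,
        fJ_Jh_single hF, Pi.single_eq_same, mul_one, add_eq_left, smul_eq_zero] at h1
      rcases h1 with h1 | h1
      · exact (mul_ne_zero hκ0 ha) h1
      · have h2 : (Pi.single (Sum.inl 0) 1 : Fin (m + 1) ⊕ Fin (m + 1) → F) = 0 := by
          simpa using h1
        have := congrFun h2 (Sum.inl 0)
        simp at this
    have hR : ∀ g, R₀ g = 1 := su_hom_trivial hF _ (by omega) (by omega) R₀ (Θ B) _ _ hmat hv0 hne hB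
    have hρ1 : ∀ g, ρ g = 1 := fun g =>
      (LinearMap.toMatrixAlgEquiv' (R := ℂ) (n := Fin k)).injective (by rw [map_one]; exact hR g)
    have := degree_of_trivial_irr ρ hρ hρ1
    nlinarith
  · push Not at h0
    obtain ⟨C, hC, hC0⟩ := h0
    refine le_trans ?_ hWk
    apply Nat.div_le_of_le_mul
    rw [← two_mul]
    exact herm_card_bound hF m W hcl hm hsym hC hC0

end Cfsg.Agent.Lib.Helper44
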