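import Cfsg.Agent.Lib.Helper44.UTypes
import Cfsg.Agent.Lib.Helper79.Central

set_option autoImplicit false

namespace Cfsg.Agent.Lib.Helper44

open Cfsg
open scoped ComplexConjugate

section central

variable {F : Type*} [Field F] [Fintype F] {Q : Type*} [Group Q]

theorem addChar_mul_conj (ψ : AddChar F ℂ) (b : F) : ψ b * conj (ψ b) = 1 := by
  rw [← AddChar.map_neg_eq_conj, ← AddChar.map_add_eq_mul, add_neg_cancel, AddChar.map_zero_eq_one]

/-- The central character of an irreducible character whose restriction to a central subgroup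
contains `ψ`. -/
theorem central_eq_of_mS_ne_zero (ψ : AddChar F ℂ) (z : AddChar F Q) (hz : ∀ b, z b ∈ Subgroup.center Q)
    {θ : Q → ℂ} (hθ : IsIrrCharacter Q θ) (h : mS ψ z θ 1 ≠ 0) (x : Q) (b₀ : F) :
    θ (x * z b₀) = ψ b₀ * θ x := by
  have hS : ∑ b : F, θ (z b) * conj (ψ b) ≠ 0 := by
    intro h0
    apply h
    unfold mS
    simp only [one_mul]
    rw [h0, mul_zero]
  have key : θ (z b₀) / θ 1 * ∑ b : F, θ (z b) * conj (ψ b) = ψ b₀ * ∑ b : F, θ (z b) * conj (ψ b) := by
    rw [Finset.mul_sum, Finset.mul_sum, ← Equiv.sum_comp (Equiv.addRight b₀) (fun b => ψ b₀ * (θ (z b) * conj (ψ b)))]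
    apply Finset.sum_congr rfl
    intro b _
    simp only [Equiv.coe_addRight]
    rw [← mul_assoc, ← Cfsg.Agent.Lib.Helper79.IsIrrCharacter.mul_central hθ (z b₀) (hz b₀) (z b),
      ← AddChar.map_add_eq_mul, AddChar.map_add_eq_mul ψ, map_mul]
    have := addChar_mul_conj ψ b₀
    linear_combination (-θ (z (b + b₀)) * conj (ψ b)) * this
  have h2 : θ (z b₀) / θ 1 = ψ b₀ := mul_right_cancel₀ hS key
  rw [Cfsg.Agent.Lib.Helper79.IsIrrCharacter.mul_central hθ (z b₀) (hz b₀) x, h2]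

theorem mS_eq_degree_of_central (ψ : AddChar F ℂ) (z : AddChar F Q) {θ : Q → ℂ}
    (h : ∀ (x : Q) (b : F), θ (x * z b) = ψ b * θ x) : mS ψ z θ 1 = θ 1 := by
  unfold mS
  have : ∀ b : F, θ (z b) * conj (ψ (1 * b)) = θ 1 := by
    intro b
    have h1 := h 1 b
    rw [one_mul] at h1
    rw [h1, one_mul]
    have := addChar_mul_conj ψ b
    linear_combination θ 1 * this
  rw [Finset.sum_congr rfl (fun b _ => this b)]
  simp only [Finset.sum_const, Finset.card_univ, nsmul_eq_mul]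
  rw [← mul_assoc, inv_mul_cancel₀ card_ne_zero', one_mul]

/-- A character whose restriction along `z` contains `ψ` has an irreducible constituent with the same
property. -/
theorem exists_irr_constituent_mS [Finite Q] (ψ : AddChar F ℂ) (z : AddChar F Q) {φ : Q → ℂ} (hφ : IsCharacter Q φ)
    (s : F) (h : mS ψ z φ s ≠ 0) :
    ∃ θ φ' : Q → ℂ, IsIrrCharacter Q θ ∧ IsCharacter Q φ' ∧ φ = θ + φ' ∧ mS ψ z θ s ≠ 0 := by
  classical
  have := Fintype.ofFinite Q
  obtain ⟨l, rfl⟩ := Cfsg.Agent.Lib.Helper20.exists_multiset_of_isCharacter hφ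
  have h1 : ∃ θ ∈ l, mS ψ z (θ : Q → ℂ) s ≠ 0 := by
    by_contra hcon
    push Not at hcon
    apply h
    clear h hφ
    induction l using Multiset.induction_on with
    | empty => simp [mS]
    | cons a l ih =>
      rw [Multiset.map_cons, Multiset.sum_cons, mS_add, hcon a (Multiset.mem_cons_self a l), zero_add]
      exact ih (fun θ hθ => hcon θ (Multiset.mem_cons_of_mem hθ))
  obtain ⟨θ, hθl, hθ⟩ := h1
  obtain ⟨l', rfl⟩ := Multiset.exists_cons_of_mem hθl
  refine ⟨θ, (l'.map Subtype.val).sum, θ.2, Cfsg.Agent.Lib.Helper20.isCharacter_multiset_sum l', ?_, hθ⟩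
  rw [Multiset.map_cons, Multiset.sum_cons]

end central

section suz

variable {F : Type*} [Field F] [Fintype F] [CharP F 2]

omit [Fintype F] in
theorem addChar_eq_of_add_eq_one (ψ : AddChar F ℂ) {x y : F} (h : ψ (x + y) = 1) : ψ x = ψ y := by
  have h2 : x = (x + y) + y := by
    have : y + y = 0 := CharTwo.add_self_eq_zero y
    rw [add_assoc, this, add_zero]
  conv_lhs => rw [h2]
  rw [AddChar.map_add_eq_mul, h, one_mul]

omit [Fintype F] [CharP F 2] in
theorem eq_of_primitive {ψ : AddChar F ℂ} (hψ : ψ.IsPrimitive) {s s' : F} (h : ∀ c, ψ (s * c) = ψ (s' * c)) :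
    s = s' := by
  by_contra hne
  have h1 := hψ (sub_ne_zero.mpr hne)
  apply h1
  ext c
  rw [AddChar.mulShift_apply, AddChar.one_apply, sub_mul, sub_eq_add_neg, AddChar.map_add_eq_mul, h c,
    ← AddChar.map_add_eq_mul, add_neg_cancel, AddChar.map_zero_eq_one]

theorem suz_radical_unique (σ : F →+* F) (hσ : ∀ x, σ (σ x) = x ^ 2) {ψ : AddChar F ℂ} (hψ : ψ.IsPrimitive)
    {a a' : F} (ha : a ≠ 0) (ha' : a' ≠ 0)
    (h : ∀ c, ψ (σ c * a + σ a * c) = 1) (h' : ∀ c, ψ (σ c * a' + σ a' * c) = 1) : a = a' := by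
  have hsurj : Function.Surjective σ := Finite.surjective_of_injective σ.injective
  obtain ⟨r, hr⟩ := hsurj (a / a')
  have h1 : σ a = σ a' * r := by
    apply eq_of_primitive hψ
    intro c
    rw [← addChar_eq_of_add_eq_one ψ (h c)]
    have h2 := addChar_eq_of_add_eq_one ψ (h' (c * r))
    rw [map_mul σ, hr] at h2
    have e1 : σ c * (a / a') * a' = σ c * a := by field_simp
    have e2 : σ a' * (c * r) = σ a' * r * c := by ring
    rw [e1, e2] at h2
    exact h2
  have hσa' : σ a' ≠ 0 := by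
    intro h0
    exact ha' ((map_eq_zero σ).mp h0)
  have h3 : r = σ (a / a') := by
    rw [map_div₀, h1]
    field_simp
  have h4 : a / a' = (a / a') ^ 2 := by
    rw [← hσ, ← h3, hr]
  have h5 : a / a' ≠ 0 := div_ne_zero ha ha'
  have h6 : a / a' = 1 := by
    have : (a / a') * (a / a' - 1) = 0 := by linear_combination -h4
    rcases mul_eq_zero.mp this with h7 | h7
    · exact absurd h7 h5
    · linear_combination h7
  rw [div_eq_one_iff_eq ha'] at h6
  exact h6

variable {Q : Type*} [Group Q]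

omit [Fintype F] in
theorem suz_conj_eq (t : F → F → Q) (σ : F →+* F)
    (hmul : ∀ a b c d, t a b * t c d = t (a + c) (b + d + σ a * c)) (a b c : F) :
    t c 0 * t a b * (t c 0)⁻¹ = t a b * t 0 (σ c * a + σ a * c) := by
  rw [mul_inv_eq_iff_eq_mul, hmul, hmul, hmul]
  have h2 : σ a * c + σ a * c = 0 := CharTwo.add_self_eq_zero _
  congr 1
  · rw [add_zero, add_comm]
  · simp only [add_zero, zero_add, mul_zero]
    linear_combination -h2

omit [Fintype F] in
theorem suz_vanish (t : F → F → Q) (σ : F →+* F)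
    (hmul : ∀ a b c d, t a b * t c d = t (a + c) (b + d + σ a * c)) (ψ : AddChar F ℂ) {θ : Q → ℂ}
    (hθ : IsClassFunction Q θ) (hcen : ∀ (x : Q) (b : F), θ (x * t 0 b) = ψ b * θ x) {a : F} (b : F)
    (h : ¬ ∀ c, ψ (σ c * a + σ a * c) = 1) : θ (t a b) = 0 := by
  push Not at h
  obtain ⟨c, hc⟩ := h
  have h1 := hθ (t a b) (t c 0)
  rw [suz_conj_eq t σ hmul, hcen] at h1
  have h2 : (ψ (σ c * a + σ a * c) - 1) * θ (t a b) = 0 := by linear_combination h1
  exact (mul_eq_zero.mp h2).resolve_left (sub_ne_zero.mpr hc)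

/-- Irreducible characters of a Suzuki 2-group which are faithful on the centre have large degree. -/
theorem suz_two_group_bound [Fintype Q] (t : F → F → Q) (ht : Function.Bijective (fun p : F × F => t p.1 p.2))
    (σ : F →+* F) (hσ : ∀ x, σ (σ x) = x ^ 2)
    (hmul : ∀ a b c d, t a b * t c d = t (a + c) (b + d + σ a * c)) {ψ : AddChar F ℂ} (hψ : ψ.IsPrimitive)
    {θ : Q → ℂ} (hθ : IsIrrCharacter Q θ) (hcen : ∀ (x : Q) (b : F), θ (x * t 0 b) = ψ b * θ x) {n : ℕ}
    (hn : θ 1 = n) : Fintype.card F ≤ 2 * n ^ 2 := by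
  classical
  have hch := Cfsg.Agent.Lib.Helper20.isCharacter_of_isIrrCharacter hθ
  have hcl := Cfsg.Agent.Lib.Helper20.isClassFunction_of_isCharacter hch
  have hnorm := Cfsg.Agent.Lib.Helper20.classInner_irr_self hθ
  unfold classInner at hnorm
  have hcard : Nat.card Q = Fintype.card F * Fintype.card F := by
    rw [← Nat.card_congr (Equiv.ofBijective _ ht), Nat.card_prod, Nat.card_eq_fintype_card]
  rw [hcard, ← Equiv.sum_comp (Equiv.ofBijective _ ht), Fintype.sum_prod_type] at hnorm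
  have h1 : ∀ a b : F, θ (t a b) * conj (θ (t a b)) = ((‖θ (t a 0)‖ ^ 2 : ℝ) : ℂ) := by
    intro a b
    have e : t a b = t a 0 * t 0 b := by rw [hmul]; simp
    rw [e, hcen, map_mul]
    have := addChar_mul_conj ψ b
    rw [← Complex.normSq_eq_norm_sq, ← Complex.mul_conj]
    linear_combination (θ (t a 0) * conj (θ (t a 0))) * this
  have h2 : ∑ a : F, ∑ b : F, θ ((Equiv.ofBijective _ ht) (a, b)) * conj (θ ((Equiv.ofBijective _ ht) (a, b))) =
      (Fintype.card F : ℂ) * ((∑ a : F, ‖θ (t a 0)‖ ^ 2 : ℝ) : ℂ) := by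
    push_cast
    rw [Finset.mul_sum]
    apply Finset.sum_congr rfl
    intro a _
    have : ∀ b : F, θ ((Equiv.ofBijective _ ht) (a, b)) * conj (θ ((Equiv.ofBijective _ ht) (a, b))) =
        ((‖θ (t a 0)‖ ^ 2 : ℝ) : ℂ) := fun b => h1 a b
    rw [Finset.sum_congr rfl (fun b _ => this b)]
    simp
  rw [h2] at hnorm
  have hq : (Fintype.card F : ℂ) ≠ 0 := card_ne_zero'
  have h3 : ((∑ a : F, ‖θ (t a 0)‖ ^ 2 : ℝ) : ℂ) = ((Fintype.card F : ℝ) : ℂ) := by
    push_cast at hnorm ⊢
    field_simp at hnorm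
    linear_combination hnorm
  have h4 : ∑ a : F, ‖θ (t a 0)‖ ^ 2 = (Fintype.card F : ℝ) := by exact_mod_cast h3
  have hle : ∀ a : F, ‖θ (t a 0)‖ ^ 2 ≤ (n : ℝ) ^ 2 := by
    intro a
    have := Cfsg.Agent.Lib.Helper20.isCharacter_norm_le hch (t a 0)
    rw [hn] at this
    simp only [Complex.natCast_re] at this
    exact pow_le_pow_left₀ (norm_nonneg _) this 2
  have hvan : ∀ a : F, (¬ ∀ c, ψ (σ c * a + σ a * c) = 1) → ‖θ (t a 0)‖ ^ 2 = 0 := by
    intro a ha
    rw [suz_vanish t σ hmul ψ hcl hcen 0 ha]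
    simp
  have h5 : ∑ a : F, ‖θ (t a 0)‖ ^ 2 ≤ 2 * (n : ℝ) ^ 2 := by
    by_cases hex : ∃ a₀ : F, a₀ ≠ 0 ∧ ∀ c, ψ (σ c * a₀ + σ a₀ * c) = 1
    · obtain ⟨a₀, ha₀, hA⟩ := hex
      have : ∑ a : F, ‖θ (t a 0)‖ ^ 2 = ∑ a ∈ ({0, a₀} : Finset F), ‖θ (t a 0)‖ ^ 2 := by
        symm
        apply Finset.sum_subset (Finset.subset_univ _)
        intro a _ ha
        simp only [Finset.mem_insert, Finset.mem_singleton, not_or] at ha
        apply hvan
        intro hc
        exact ha.2 (suz_radical_unique σ hσ hψ ha.1 ha₀ hc hA)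
      rw [this, Finset.sum_pair ha₀.symm]
      have e1 := hle 0
      have e2 := hle a₀
      linarith
    · push Not at hex
      have : ∑ a : F, ‖θ (t a 0)‖ ^ 2 = ∑ a ∈ ({0} : Finset F), ‖θ (t a 0)‖ ^ 2 := by
        symm
        apply Finset.sum_subset (Finset.subset_univ _)
        intro a _ ha
        simp only [Finset.mem_singleton] at ha
        apply hvan
        obtain ⟨c, hc⟩ := hex a ha
        intro hall
        exact hc (hall c)
      rw [this, Finset.sum_singleton]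
      have e1 := hle 0
      have e2 : (0 : ℝ) ≤ (n : ℝ) ^ 2 := by positivity
      linarith
  rw [h4] at h5
  exact_mod_cast h5

end suz

end Cfsg.Agent.Lib.Helper44
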