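import Cfsg.Agent.Lib.Helper44.UTypes
import Cfsg.Agent.Lib.Helper44.Jacquet
import Cfsg.Agent.Lib.Helper44.Unip

set_option autoImplicit false

namespace Cfsg.Agent.Lib.Helper44

open Matrix Cfsg
open scoped ComplexConjugate

variable {F : Type*} [Field F]

/-- The upper unipotent subgroup of `SL₂` as an additive character. -/
def uSLc : AddChar F (SpecialLinearGroup (Fin 2) F) where
  toFun := uSL
  map_zero_eq_one' := by
    apply Subtype.ext
    ext i j; fin_cases i <;> fin_cases j <;> simp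
  map_add_eq_mul' x y := by
    apply Subtype.ext
    ext i j; fin_cases i <;> fin_cases j <;>
      simp [Matrix.SpecialLinearGroup.coe_mul, Matrix.mul_apply, Fin.sum_univ_two, add_comm]

@[simp] theorem uSLc_apply (x : F) : uSLc x = uSL x := rfl

/-- The upper unipotent subgroup of `GL₂` as an additive character. -/
def uGLc : AddChar F (GL (Fin 2) F) where
  toFun x := triGL 1 1 x
  map_zero_eq_one' := by
    apply Units.ext
    ext i j; fin_cases i <;> fin_cases j <;> simp
  map_add_eq_mul' x y := by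
    apply Units.ext
    ext i j; fin_cases i <;> fin_cases j <;>
      simp [Matrix.mul_apply, Fin.sum_univ_two, add_comm]

@[simp] theorem uGLc_apply (x : F) : uGLc x = triGL 1 1 x := rfl

theorem triSL_one (x : F) : triSL 1 x = uSL x := by
  apply Subtype.ext
  ext i j; fin_cases i <;> fin_cases j <;> simp

theorem sl2_mul_u_iff_of_mem {z : SpecialLinearGroup (Fin 2) F} (hz : z ∈ borelSL F) (x y : F) :
    z * uSLc x = uSLc y * z ↔ y = ((z : Matrix (Fin 2) (Fin 2) F) 0 0 * (z : Matrix (Fin 2) (Fin 2) F) 0 0) * x := by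
  rw [mem_borelSL] at hz
  have hd : (z : Matrix (Fin 2) (Fin 2) F) 0 0 * (z : Matrix (Fin 2) (Fin 2) F) 1 1 = 1 := by
    have := z.det_coe
    rw [Matrix.det_fin_two, hz] at this
    simpa using this
  constructor
  · intro h
    have h1 := congrArg (fun w : SpecialLinearGroup (Fin 2) F => (w : Matrix (Fin 2) (Fin 2) F) 0 1) h
    simp [Matrix.SpecialLinearGroup.coe_mul, Matrix.mul_apply, Fin.sum_univ_two] at h1
    linear_combination (-(z : Matrix (Fin 2) (Fin 2) F) 0 0) * h1 - y * hd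
  · intro h
    apply Subtype.ext
    ext i j; fin_cases i <;> fin_cases j <;>
      simp [Matrix.SpecialLinearGroup.coe_mul, Matrix.mul_apply, Fin.sum_univ_two, hz]
    rw [h]
    linear_combination (-(z : Matrix (Fin 2) (Fin 2) F) 0 0 * x) * hd

theorem sl2_mul_u_iff_of_not_mem {z : SpecialLinearGroup (Fin 2) F} (hz : z ∉ borelSL F) (x y : F) :
    z * uSLc x = uSLc y * z ↔ x = 0 ∧ y = 0 := by
  rw [mem_borelSL] at hz
  constructor
  · intro h
    have h1 := congrArg (fun w : SpecialLinearGroup (Fin 2) F => (w : Matrix (Fin 2) (Fin 2) F) 0 0) h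
    have h2 := congrArg (fun w : SpecialLinearGroup (Fin 2) F => (w : Matrix (Fin 2) (Fin 2) F) 1 1) h
    simp [Matrix.SpecialLinearGroup.coe_mul, Matrix.mul_apply, Fin.sum_univ_two, hz] at h1 h2
    exact ⟨h2, h1⟩
  · rintro ⟨rfl, rfl⟩
    rw [AddChar.map_zero_eq_one, mul_one, one_mul]

theorem gl2_mul_u_iff_of_mem {z : GL (Fin 2) F} (hz : z ∈ upperTriangularGL 2 F) (x y : F) :
    z * uGLc x = uGLc y * z ↔ y = ((z : Matrix (Fin 2) (Fin 2) F) 0 0 / (z : Matrix (Fin 2) (Fin 2) F) 1 1) * x := by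
  rw [mem_upperTriangularGL_two] at hz
  have hd : (z : Matrix (Fin 2) (Fin 2) F) 1 1 ≠ 0 := by
    have := z.det_ne_zero
    rw [Matrix.det_fin_two, hz] at this
    intro h0
    rw [h0] at this
    simp at this
  constructor
  · intro h
    have h1 := congrArg (fun w : GL (Fin 2) F => (w : Matrix (Fin 2) (Fin 2) F) 0 1) h
    simp [Matrix.mul_apply, Fin.sum_univ_two] at h1
    field_simp
    linear_combination -h1
  · intro h
    apply Units.ext
    ext i j; fin_cases i <;> fin_cases j <;>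
      simp [Matrix.mul_apply, Fin.sum_univ_two, hz]
    rw [h]
    field_simp
    ring

theorem gl2_mul_u_iff_of_not_mem {z : GL (Fin 2) F} (hz : z ∉ upperTriangularGL 2 F) (x y : F) :
    z * uGLc x = uGLc y * z ↔ x = 0 ∧ y = 0 := by
  rw [mem_upperTriangularGL_two] at hz
  constructor
  · intro h
    have h1 := congrArg (fun w : GL (Fin 2) F => (w : Matrix (Fin 2) (Fin 2) F) 0 0) h
    have h2 := congrArg (fun w : GL (Fin 2) F => (w : Matrix (Fin 2) (Fin 2) F) 1 1) h
    simp [Matrix.mul_apply, Fin.sum_univ_two, hz] at h1 h2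
    exact ⟨h2, h1⟩
  · rintro ⟨rfl, rfl⟩
    rw [AddChar.map_zero_eq_one, mul_one, one_mul]

section fin

variable [Fintype F] [DecidableEq F]

theorem gram_SL {ψ : AddChar F ℂ} (hψ : ψ.IsPrimitive) (s s' : F) :
    ∑ χ : IrrCharacter (SpecialLinearGroup (Fin 2) F), mS ψ uSLc χ s * conj (mS ψ uSLc χ s') =
      ((Fintype.card F : ℂ) - 1) + ∑ a : Fˣ, if s' * ((a : F) * a) = s then 1 else 0 := by
  classical
  have := Fintype.ofFinite ↥(borelSL F)
  rw [mS_gram_of_borel hψ uSLc (borelSL F)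
    (fun z => (z : Matrix (Fin 2) (Fin 2) F) 0 0 * (z : Matrix (Fin 2) (Fin 2) F) 0 0)
    (fun z hz => sl2_mul_u_iff_of_mem hz) (fun z hz => sl2_mul_u_iff_of_not_mem hz), sum_borelSL]
  simp only [coe_triSL, Matrix.of_apply, Matrix.cons_val_zero, Matrix.cons_val', Finset.sum_const, Finset.card_univ,
    nsmul_eq_mul, ← Finset.mul_sum]
  rw [← Nat.card_eq_fintype_card (α := SpecialLinearGroup (Fin 2) F), ← Nat.card_eq_fintype_card (α := ↥(borelSL F)),
    card_SL2, card_borelSL]
  have hq := card_F_ne_zero (F := F)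
  push_cast [Nat.cast_sub (Fintype.card_pos (α := F))]
  generalize (∑ a : Fˣ, if s' * ((a : F) * a) = s then (1 : ℂ) else 0) = X
  field_simp
  ring

theorem gram_GL {ψ : AddChar F ℂ} (hψ : ψ.IsPrimitive) (s s' : F) :
    ∑ χ : IrrCharacter (GL (Fin 2) F), mS ψ uGLc χ s * conj (mS ψ uGLc χ s') =
      ((Fintype.card F : ℂ) - 1) ^ 2 + ∑ a : Fˣ, ∑ d : Fˣ, if s' * ((a : F) / d) = s then 1 else 0 := by
  classical
  have := Fintype.ofFinite ↥(upperTriangularGL 2 F)
  rw [mS_gram_of_borel hψ uGLc (upperTriangularGL 2 F)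
    (fun z => (z : Matrix (Fin 2) (Fin 2) F) 0 0 / (z : Matrix (Fin 2) (Fin 2) F) 1 1)
    (fun z hz => gl2_mul_u_iff_of_mem hz) (fun z hz => gl2_mul_u_iff_of_not_mem hz), sum_borelGL]
  simp only [coe_triGL, Matrix.of_apply, Matrix.cons_val_zero, Matrix.cons_val', Matrix.cons_val_one,
    Matrix.cons_val_fin_one, Finset.sum_const, Finset.card_univ,
    nsmul_eq_mul, ← Finset.mul_sum]
  rw [← Nat.card_eq_fintype_card (α := GL (Fin 2) F), ← Nat.card_eq_fintype_card (α := ↥(upperTriangularGL 2 F)),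
    card_GL2, card_borelGL]
  have hq := card_F_ne_zero (F := F)
  push_cast [Nat.cast_sub (Fintype.card_pos (α := F))]
  generalize (∑ a : Fˣ, ∑ d : Fˣ, if s' * ((a : F) / d) = s then (1 : ℂ) else 0) = X
  field_simp
  ring

end fin

end Cfsg.Agent.Lib.Helper44
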