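import Cfsg.Agent.Lib.Helper44.UMult

set_option autoImplicit false

namespace Cfsg.Agent.Lib.Helper44

open Cfsg
open scoped ComplexConjugate

theorem sum_ite_mem_subgroup {G : Type*} [Group G] [Fintype G] (B : Subgroup G) [Fintype B]
    [DecidablePred (· ∈ B)] (g : G → ℂ) :
    ∑ z : G, (if z ∈ B then g z else 0) = ∑ b : B, g b := by
  rw [← Finset.sum_filter]
  exact Finset.sum_subtype (Finset.univ.filter (· ∈ B)) (by simp) g

section gram

variable {F : Type*} [Field F] [Fintype F] {G : Type*} [Group G]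

theorem sum_conj_mul_addChar [DecidableEq F] {ψ : AddChar F ℂ} (hψ : ψ.IsPrimitive) (s t : F) :
    ∑ x : F, conj (ψ (s * x)) * ψ (t * x) = if t = s then (Fintype.card F : ℂ) else 0 := by
  have h0 := AddChar.sum_mulShift (t - s) hψ
  rw [Nat.cast_ite, Nat.cast_zero] at h0
  simp only [sub_eq_zero] at h0
  rw [← h0]
  apply Finset.sum_congr rfl
  intro x _
  rw [← AddChar.map_neg_eq_conj, ← AddChar.map_add_eq_mul]
  congr 1
  ring

theorem mS_gram_of_borel [Fintype G] [DecidableEq F] {ψ : AddChar F ℂ} (hψ : ψ.IsPrimitive) (u : AddChar F G)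
    (B : Subgroup G) [Fintype B] (κ : G → F)
    (hB : ∀ z ∈ B, ∀ x y : F, z * u x = u y * z ↔ y = κ z * x)
    (hnB : ∀ z, z ∉ B → ∀ x y : F, z * u x = u y * z ↔ x = 0 ∧ y = 0) (s s' : F) :
    ∑ χ : IrrCharacter G, mS ψ u χ s * conj (mS ψ u χ s') =
      ((Fintype.card F : ℂ)⁻¹) ^ 2 * ((Fintype.card G : ℂ) - (Fintype.card B : ℂ) +
        (Fintype.card F : ℂ) * ∑ b : B, if s' * κ b = s then 1 else 0) := by
  classical
  rw [mS_gram]
  congr 1
  have h1 : ∀ x y : F, (Nat.card {z : G // z * u x = u y * z} : ℂ) = ∑ z : G, if z * u x = u y * z then 1 else 0 := by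
    intro x y
    rw [Nat.card_eq_fintype_card, Fintype.card_subtype]
    simp
  simp only [h1, Finset.mul_sum]
  have h2 : ∑ x : F, ∑ y : F, ∑ z : G, conj (ψ (s * x)) * ψ (s' * y) * (if z * u x = u y * z then (1 : ℂ) else 0) =
      ∑ z : G, ∑ x : F, ∑ y : F, conj (ψ (s * x)) * ψ (s' * y) * (if z * u x = u y * z then (1 : ℂ) else 0) := by
    rw [Finset.sum_congr rfl (fun x _ => Finset.sum_comm), Finset.sum_comm]
  rw [h2]
  have h3 : ∀ z : G, ∑ x : F, ∑ y : F, conj (ψ (s * x)) * ψ (s' * y) * (if z * u x = u y * z then (1 : ℂ) else 0) =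
      (if z ∈ B then (Fintype.card F : ℂ) * (if s' * κ z = s then 1 else 0) else 0) + (1 - if z ∈ B then 1 else 0) := by
    intro z
    by_cases hz : z ∈ B
    · simp only [hB z hz, if_pos hz, sub_self, add_zero]
      have : ∀ x : F, ∑ y : F, conj (ψ (s * x)) * ψ (s' * y) * (if y = κ z * x then (1 : ℂ) else 0) =
          conj (ψ (s * x)) * ψ (s' * κ z * x) := by
        intro x
        rw [Finset.sum_eq_single (κ z * x)]
        · rw [if_pos rfl, mul_one, mul_assoc s']
        · intro y _ hy
          rw [if_neg hy, mul_zero]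
        · intro h; exact absurd (Finset.mem_univ _) h
      rw [Finset.sum_congr rfl (fun x _ => this x), sum_conj_mul_addChar hψ]
      split_ifs <;> simp
    · simp only [hnB z hz, if_neg hz, sub_zero, zero_add]
      rw [Finset.sum_eq_single 0]
      · rw [Finset.sum_eq_single 0]
        · simp
        · intro y _ hy
          rw [if_neg (fun h => hy h.2), mul_zero]
        · intro h; exact absurd (Finset.mem_univ _) h
      · intro x _ hx
        apply Finset.sum_eq_zero
        intro y _
        rw [if_neg (fun h => hx h.1), mul_zero]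
      · intro h; exact absurd (Finset.mem_univ _) h
  rw [Finset.sum_congr rfl (fun z _ => h3 z), Finset.sum_add_distrib, Finset.sum_sub_distrib,
    sum_ite_mem_subgroup B (fun z => (Fintype.card F : ℂ) * (if s' * κ z = s then 1 else 0)),
    sum_ite_mem_subgroup B (fun _ => (1 : ℂ)), ← Finset.mul_sum]
  simp only [Finset.sum_const, Finset.card_univ, nsmul_eq_mul, mul_one]
  ring

end gram

end Cfsg.Agent.Lib.Helper44
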