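import Mathlib
import Cfsg.Prelude.Def_Characters
import Cfsg.Agent.Lib.Helper44.CharTools
import Cfsg.Agent.Lib.Helper20.CharColumn
import Cfsg.Agent.Lib.Helper20.CharCount

set_option autoImplicit false

namespace Cfsg.Agent.Lib.Helper44

open Cfsg
open scoped ComplexConjugate

/-- A `Fintype` structure on the set of irreducible characters. -/
noncomputable instance fintypeIrr (G : Type*) [Group G] [Finite G] : Fintype (IrrCharacter G) :=
  @Fintype.ofFinite _ Cfsg.Agent.Lib.Helper20.finite_irrCharacter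

theorem sum_irr_mul_conj_eq_card {G : Type*} [Group G] [Finite G] (g h : G) :
    ∑ χ : IrrCharacter G, (χ : G → ℂ) g * conj ((χ : G → ℂ) h) = (Nat.card {z : G // z * g = h * z} : ℂ) := by
  classical
  have := Fintype.ofFinite G
  rw [Cfsg.Agent.Lib.Helper20.sum_irr_mul_conj g h]
  split_ifs with hc
  · obtain ⟨c, rfl⟩ := isConj_iff.mp hc
    congr 1
    apply Nat.card_congr
    refine ⟨fun z => ⟨c * z, ?_⟩, fun z => ⟨c⁻¹ * z, ?_⟩, ?_, ?_⟩
    · have hz := Subgroup.mem_centralizer_singleton_iff.mp z.2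
      rw [mul_assoc, hz]
      simp [mul_assoc]
    · rw [Subgroup.mem_centralizer_singleton_iff]
      have hz : (z : G) * g = c * g * c⁻¹ * z := z.2
      rw [mul_assoc, hz]
      simp [mul_assoc]
    · intro z; simp
    · intro z; simp
  · have : IsEmpty {z : G // z * g = h * z} := by
      constructor
      rintro ⟨z, hz⟩
      apply hc
      rw [isConj_iff]
      exact ⟨z, by rw [hz]; simp⟩
    simp

section mult

variable {F : Type*} [Field F] [Fintype F] {G : Type*} [Group G]

/-- The multiplicity of the additive character `x ↦ ψ (s * x)` in the restriction of `χ` along `u`. -/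
noncomputable def mS (ψ : AddChar F ℂ) (u : AddChar F G) (χ : G → ℂ) (s : F) : ℂ :=
  (Fintype.card F : ℂ)⁻¹ * ∑ x : F, χ (u x) * conj (ψ (s * x))

theorem mS_nat (ψ : AddChar F ℂ) (u : AddChar F G) {χ : G → ℂ} (hχ : IsCharacter G χ) (s : F) :
    ∃ n : ℕ, mS ψ u χ s = n := by
  have h1 : IsCharacter (Multiplicative F) (χ ∘ u.toMonoidHom) :=
    Cfsg.Agent.Lib.Helper20.isCharacter_comp_hom hχ u.toMonoidHom
  have h2 : IsIrrCharacter (Multiplicative F) (AddChar.mulShift ψ s).toMonoidHom :=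
    isIrrCharacter_monoidHom _
  obtain ⟨n, hn⟩ := Cfsg.Agent.Lib.Helper20.isCharacter_classInner_nat h1 h2
  refine ⟨n, ?_⟩
  rw [← hn]
  unfold mS classInner
  congr 1
  · rw [Nat.card_eq_fintype_card, Fintype.card_multiplicative]
  · exact Fintype.sum_equiv Multiplicative.ofAdd _ _ (fun x => rfl)

theorem mS_add (ψ : AddChar F ℂ) (u : AddChar F G) (χ₁ χ₂ : G → ℂ) (s : F) :
    mS ψ u (χ₁ + χ₂) s = mS ψ u χ₁ s + mS ψ u χ₂ s := by
  simp only [mS, Pi.add_apply, add_mul, Finset.sum_add_distrib, mul_add]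

theorem card_ne_zero' : (Fintype.card F : ℂ) ≠ 0 := by
  exact_mod_cast Fintype.card_pos.ne'

theorem mS_inversion [DecidableEq F] {ψ : AddChar F ℂ} (hψ : ψ.IsPrimitive) (u : AddChar F G) (χ : G → ℂ) (x : F) :
    χ (u x) = ∑ s : F, mS ψ u χ s * ψ (s * x) := by
  simp only [mS, mul_assoc, Finset.sum_mul, ← Finset.mul_sum]
  rw [Finset.sum_comm]
  have : ∀ y : F, ∑ s : F, χ (u y) * (conj (ψ (s * y)) * ψ (s * x)) =
      χ (u y) * (if x - y = 0 then (Fintype.card F : ℂ) else 0) := by
    intro y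
    have h0 := AddChar.sum_mulShift (x - y) hψ
    rw [Nat.cast_ite, Nat.cast_zero] at h0
    rw [← Finset.mul_sum, ← h0]
    congr 1
    apply Finset.sum_congr rfl
    intro s _
    rw [← AddChar.map_neg_eq_conj, ← AddChar.map_add_eq_mul]
    congr 1
    ring
  rw [Finset.sum_congr rfl (fun y _ => this y)]
  rw [Finset.sum_eq_single x]
  · rw [sub_self, if_pos rfl, mul_comm (χ (u x)), ← mul_assoc, inv_mul_cancel₀ card_ne_zero', one_mul]
  · intro y _ hy
    rw [if_neg (sub_ne_zero.mpr (Ne.symm hy)), mul_zero]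
  · intro h; exact absurd (Finset.mem_univ _) h

theorem mS_gram [Finite G] (ψ : AddChar F ℂ) (u : AddChar F G) (s s' : F) :
    ∑ χ : IrrCharacter G, mS ψ u χ s * conj (mS ψ u χ s') =
      ((Fintype.card F : ℂ)⁻¹) ^ 2 * ∑ x : F, ∑ y : F, conj (ψ (s * x)) * ψ (s' * y) *
        (Nat.card {z : G // z * u x = u y * z} : ℂ) := by
  simp only [← sum_irr_mul_conj_eq_card, mS, map_mul, map_sum, map_inv₀, Complex.conj_natCast, Complex.conj_conj,
    Finset.mul_sum, Finset.sum_mul]
  conv_rhs => rw [Finset.sum_comm]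
  rw [Finset.sum_comm]
  apply Finset.sum_congr rfl
  intro x _
  rw [Finset.sum_comm]
  apply Finset.sum_congr rfl
  intro y _
  apply Finset.sum_congr rfl
  intro χ _
  ring

end mult

end Cfsg.Agent.Lib.Helper44
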