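import Cfsg.Agent.Lib.Helper44.UGram

set_option autoImplicit false

namespace Cfsg.Agent.Lib.Helper44

open Cfsg
open scoped ComplexConjugate

section types

variable {F : Type*} [Field F] [Fintype F] {G : Type*} [Group G]

theorem mS_mul_of_isConj (ψ : AddChar F ℂ) (u : AddChar F G) {χ : G → ℂ} (hχ : IsClassFunction G χ)
    {k : F} (hk : k ≠ 0) (h : ∀ x : F, IsConj (u x) (u (k * x))) (s : F) :
    mS ψ u χ (s * k) = mS ψ u χ s := by
  unfold mS
  congr 1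
  rw [← Equiv.sum_comp (Equiv.mulLeft₀ k hk) (fun x => χ (u x) * conj (ψ (s * x)))]
  apply Finset.sum_congr rfl
  intro x _
  show χ (u x) * conj (ψ (s * k * x)) = χ (u (k * x)) * conj (ψ (s * (k * x)))
  rw [Cfsg.Agent.Lib.Helper20.isClassFunction_isConj hχ (h x), mul_assoc]

theorem sum_addChar_mul [DecidableEq F] {ψ : AddChar F ℂ} (hψ : ψ.IsPrimitive) (x : F) :
    ∑ s : F, ψ (s * x) = if x = 0 then (Fintype.card F : ℂ) else 0 := by
  have h0 := AddChar.sum_mulShift x hψ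
  rw [Nat.cast_ite, Nat.cast_zero] at h0
  exact h0

theorem apply_of_mS_uniform [DecidableEq F] {ψ : AddChar F ℂ} (hψ : ψ.IsPrimitive) (u : AddChar F G) (χ : G → ℂ)
    (m₁ : ℂ) (h : ∀ s : F, s ≠ 0 → mS ψ u χ s = m₁) (x : F) :
    χ (u x) = mS ψ u χ 0 + m₁ * ((if x = 0 then (Fintype.card F : ℂ) else 0) - 1) := by
  rw [mS_inversion hψ u χ x, ← sum_addChar_mul hψ x, ← Finset.add_sum_erase _ _ (Finset.mem_univ (0 : F)),
    ← Finset.add_sum_erase (a := (0 : F)) _ (fun s => ψ (s * x)) (Finset.mem_univ (0 : F))]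
  simp only [zero_mul, AddChar.map_zero_eq_one, mul_one, add_sub_cancel_left, Finset.mul_sum]
  congr 1
  apply Finset.sum_congr rfl
  intro s hs
  rw [h s (Finset.ne_of_mem_erase hs)]

theorem mS_le_of_add (ψ : AddChar F ℂ) (u : AddChar F G) {χ φ : G → ℂ} (hχ : IsCharacter G χ) (hφ : IsCharacter G φ)
    (s : F) {n : ℕ} (h : mS ψ u (χ + φ) s = n) : ∃ k l : ℕ, mS ψ u χ s = k ∧ mS ψ u φ s = l ∧ k + l = n := by
  obtain ⟨k, hk⟩ := mS_nat ψ u hχ s
  obtain ⟨l, hl⟩ := mS_nat ψ u hφ s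
  refine ⟨k, l, hk, hl, ?_⟩
  rw [mS_add, hk, hl] at h
  exact_mod_cast h

end types

end Cfsg.Agent.Lib.Helper44
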