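import Cfsg.Agent.Lib.Helper44.Weights

/-!
# The unipotent radical of the stabiliser of a hyperplane in `SL_{m+1}` and its weights
-/

set_option autoImplicit false

namespace Cfsg.Agent.Lib.Helper44

open Matrix

section

variable {F : Type*} [Field F] {n : Type*} [Fintype n] [DecidableEq n]

theorem one_add_vmv_mul (u φ v χ : n → F) :
    (1 + vecMulVec u φ) * (1 + vecMulVec v χ)
      = 1 + vecMulVec u φ + vecMulVec v χ + (φ ⬝ᵥ v) • vecMulVec u χ := by
  rw [add_mul, mul_add, mul_add, one_mul, one_mul, mul_one, vecMulVec_mul_vecMulVec,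
    vecMulVec_smul]
  abel

theorem det_one_add_vmv (u φ : n → F) (h : φ ⬝ᵥ u = 0) : (1 + vecMulVec u φ).det = 1 := by
  rw [vecMulVec_eq Unit, det_one_add_replicateCol_mul_replicateRow, h, add_zero]

/-- transvection `1 + u φᵀ` in `SL`. -/
def tvSL (u φ : n → F) (h : φ ⬝ᵥ u = 0) : Matrix.SpecialLinearGroup n F :=
  ⟨1 + vecMulVec u φ, det_one_add_vmv u φ h⟩

end

section

variable {F : Type*} [Field F] {m : ℕ}

theorem cons_zero_dot_single (y : Fin m → F) (t : F) :
    vecCons 0 y ⬝ᵥ Pi.single (0 : Fin (m + 1)) t = 0 := by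
  rw [dotProduct_single]; simp

/-- the elements `[[1, y],[0, 1]]` of `SL_{m+1}`. -/
def radSL (y : Fin m → F) : Matrix.SpecialLinearGroup (Fin (m + 1)) F :=
  tvSL (Pi.single 0 1) (vecCons 0 y) (cons_zero_dot_single y 1)

theorem radSL_add (x y : Fin m → F) : radSL (x + y) = radSL x * radSL y := by
  apply Subtype.ext
  show 1 + vecMulVec (Pi.single 0 1) (vecCons 0 (x + y))
    = (1 + vecMulVec (Pi.single 0 1) (vecCons 0 x)) * (1 + vecMulVec (Pi.single 0 1) (vecCons 0 y))
  rw [one_add_vmv_mul, cons_zero_dot_single, zero_smul, add_zero, add_assoc, ← vecMulVec_add,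
    cons_add_cons, add_zero]

theorem radSL_apply (y : Fin m → F) (i : Fin m) : (radSL y).1 0 i.succ = y i := by
  show (1 + vecMulVec (Pi.single 0 1) (vecCons 0 y)) 0 i.succ = y i
  simp [(Fin.succ_ne_zero i).symm]

theorem radSL_injective : Function.Injective (radSL (F := F) (m := m)) := by
  intro y y' h
  ext i
  rw [← radSL_apply y i, h, radSL_apply]

theorem single_succ_dot (i j : Fin m) (hij : i ≠ j) (t : F) :
    Pi.single (j.succ) (1 : F) ⬝ᵥ Pi.single (i.succ) t = 0 := by
  rw [dotProduct_single, Pi.single_eq_of_ne (fun h => hij (Fin.succ_injective _ h)), zero_mul]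

/-- Levi transvections. -/
def leviSL (i j : Fin m) (hij : i ≠ j) (t : F) : Matrix.SpecialLinearGroup (Fin (m + 1)) F :=
  tvSL (Pi.single i.succ t) (Pi.single j.succ 1) (single_succ_dot i j hij t)

theorem leviSL_mul_radSL (i j : Fin m) (hij : i ≠ j) (t : F) (y : Fin m → F) :
    leviSL i j hij t * radSL y = radSL (y - Pi.single j (t * y i)) * leviSL i j hij t := by
  apply Subtype.ext
  show (1 + vecMulVec (Pi.single i.succ t) (Pi.single j.succ 1))
      * (1 + vecMulVec (Pi.single 0 1) (vecCons 0 y))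
    = (1 + vecMulVec (Pi.single 0 1) (vecCons 0 (y - Pi.single j (t * y i))))
      * (1 + vecMulVec (Pi.single i.succ t) (Pi.single j.succ 1))
  rw [one_add_vmv_mul, one_add_vmv_mul]
  have h1 : Pi.single j.succ (1 : F) ⬝ᵥ Pi.single (0 : Fin (m + 1)) 1 = 0 := by
    rw [dotProduct_single, Pi.single_eq_of_ne (Fin.succ_ne_zero j).symm, zero_mul]
  have h2 : vecCons 0 (y - Pi.single j (t * y i)) ⬝ᵥ Pi.single i.succ t = t * y i := by
    rw [dotProduct_single, cons_val_succ, Pi.sub_apply, Pi.single_eq_of_ne hij, sub_zero, mul_comm]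
  have h3 : vecCons 0 (y - Pi.single j (t * y i))
      = vecCons 0 y - (t * y i) • Pi.single j.succ (1 : F) := by
    ext k
    refine Fin.cases ?_ (fun k => ?_) k
    · simp
    · by_cases hk : k = j
      · subst hk; simp
      · simp [Pi.single_eq_of_ne hk, Pi.single_eq_of_ne (fun h => hk (Fin.succ_injective _ h))]
  rw [h1, h2, h3, zero_smul, add_zero, vecMulVec_sub, vecMulVec_smul]
  abel

theorem levi_weight (i j : Fin m) (hij : i ≠ j) (t : F) (c y : Fin m → F) :
    (c + Pi.single i (t * c j)) ⬝ᵥ (y - Pi.single j (t * y i)) = c ⬝ᵥ y := by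
  rw [add_dotProduct, dotProduct_sub, dotProduct_sub, dotProduct_single, single_dotProduct,
    single_dotProduct, Pi.single_eq_of_ne hij]
  ring

theorem radSL_not_mem_center (y : Fin m → F) (hy : y ≠ 0) :
    radSL y ∉ Subgroup.center (Matrix.SpecialLinearGroup (Fin (m + 1)) F) := by
  intro h
  obtain ⟨r, -, hr⟩ := Matrix.SpecialLinearGroup.mem_center_iff.mp h
  apply hy
  ext i
  rw [← radSL_apply y i, ← hr]
  simp [Matrix.scalar_apply, (Fin.succ_ne_zero i).symm]

end

/-- Landazuri–Seitz type bound for `SL_{m+1}(q)`, `m ≥ 2`. -/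
theorem sl_cross_char_bound {F : Type*} [Field F] [Fintype F] (m : ℕ) (hm : 2 ≤ m)
    {K : Type*} [Field K] (hK : ringChar K ≠ ringChar F) {d : ℕ}
    (ρ : Matrix.SpecialLinearGroup (Fin (m + 1)) F →* GL (Fin d) K)
    (hker : ρ.ker ≤ Subgroup.center (Matrix.SpecialLinearGroup (Fin (m + 1)) F)) :
    Fintype.card F ^ m - 1 ≤ d := by
  classical
  obtain ⟨W, hWd, hWconj, hWtriv⟩ := exists_weights (radSL (F := F) (m := m)) hK ρ radSL_add
    radSL_injective
  have : Nontrivial (Fin m) := Fin.nontrivial_iff_two_le.mpr hm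
  obtain ⟨c₀, hc₀W, hc₀⟩ : ∃ c ∈ W, c ≠ 0 := by
    by_contra hcon
    push Not at hcon
    have hy : (Pi.single ⟨0, by omega⟩ 1 : Fin m → F) ≠ 0 := by
      intro h
      have := congrFun h ⟨0, by omega⟩
      simp at this
    apply radSL_not_mem_center _ hy
    apply hker
    rw [MonoidHom.mem_ker]
    apply hWtriv
    intro c hc
    rw [hcon c hc, zero_dotProduct]
  have hall : ∀ c : Fin m → F, c ≠ 0 → c ∈ W := by
    intro c hc
    refine elem_closure (fun c => c ∈ W) ?_ c₀ c hc₀ hc hc₀W
    intro c i j t hij hcW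
    show c + Pi.single i (t * c j) ∈ W
    refine hWconj (leviSL i j hij t) (fun y => y - Pi.single j (t * y i)) c
      (c + Pi.single i (t * c j)) ?_ ?_ hcW
    · intro y
      exact leviSL_mul_radSL i j hij t y
    · intro y
      exact levi_weight i j hij t c y
  have h1 : (Finset.univ.erase (0 : Fin m → F)).card ≤ W.card := by
    apply Finset.card_le_card
    intro c hc
    exact hall c (Finset.ne_of_mem_erase hc)
  rw [Finset.card_erase_of_mem (Finset.mem_univ _), Finset.card_univ, Fintype.card_fun,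
    Fintype.card_fin] at h1
  exact h1.trans hWd

end Cfsg.Agent.Lib.Helper44
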