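import Cfsg.Agent.Lib.Helper44.WeightsSL

/-!
# Weights of a subgroup of the Siegel radical of `Sp_{2n}(q)`, `q` odd
-/

set_option autoImplicit false

namespace Cfsg.Agent.Lib.Helper44

open Matrix

section

variable {F : Type*} [Field F] {n : Type*} [Fintype n] [DecidableEq n]

/-- Siegel element `[[1,S],[0,1]]`. -/
def siegel (S : Matrix n n F) (hS : Sᵀ = S) : Matrix.symplecticGroup n F :=
  ⟨fromBlocks 1 S 0 1, by rw [SymplecticGroup.fromBlocks_mem_iff]; simp [hS]⟩

/-- Levi element `diag(M, M⁻ᵀ)`. -/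
def leviSp (M M' : Matrix n n F) (h : M' * M = 1) : Matrix.symplecticGroup n F :=
  ⟨fromBlocks M 0 0 M'ᵀ, by
    rw [SymplecticGroup.fromBlocks_mem_iff]
    refine ⟨by simp, by simp, ?_⟩
    rw [← Matrix.transpose_mul, h]; simp⟩

/-- the symmetric matrix `u yᵀ + y uᵀ`. -/
def symU (u y : n → F) : Matrix n n F := vecMulVec u y + vecMulVec y u

omit [Fintype n] [DecidableEq n] in
theorem symU_transpose (u y : n → F) : (symU u y)ᵀ = symU u y := by
  rw [symU, transpose_add, transpose_vecMulVec, transpose_vecMulVec, add_comm]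

omit [Fintype n] [DecidableEq n] in
theorem symU_add (u x y : n → F) : symU u (x + y) = symU u x + symU u y := by
  rw [symU, symU, symU, vecMulVec_add, add_vecMulVec]; abel

theorem conj_symU (M : Matrix n n F) (u y : n → F) (t : F) (hM : M *ᵥ u = t • u) :
    M * symU u y * Mᵀ = symU u (t • (M *ᵥ y)) := by
  rw [symU, symU, mul_add, add_mul, mul_vecMulVec, mul_vecMulVec, vecMulVec_mul, vecMulVec_mul,
    vecMul_transpose, vecMul_transpose, hM, vecMulVec_smul, smul_vecMulVec, vecMulVec_smul,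
    smul_vecMulVec]

/-- the abelian subgroup. -/
def radSp (u y : n → F) : Matrix.symplecticGroup n F := siegel (symU u y) (symU_transpose u y)

theorem radSp_add (u x y : n → F) : radSp u (x + y) = radSp u x * radSp u y := by
  apply Subtype.ext
  show fromBlocks 1 (symU u (x + y)) 0 1 = fromBlocks 1 (symU u x) 0 1 * fromBlocks 1 (symU u y) 0 1
  rw [fromBlocks_multiply, symU_add]
  simp [add_comm]

theorem leviSp_mul_radSp (M M' : Matrix n n F) (h : M' * M = 1) (u y : n → F) (t : F)
    (hM : M *ᵥ u = t • u) :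
    leviSp M M' h * radSp u y = radSp u (t • (M *ᵥ y)) * leviSp M M' h := by
  apply Subtype.ext
  show fromBlocks M 0 0 M'ᵀ * fromBlocks 1 (symU u y) 0 1
    = fromBlocks 1 (symU u (t • (M *ᵥ y))) 0 1 * fromBlocks M 0 0 M'ᵀ
  rw [fromBlocks_multiply, fromBlocks_multiply, ← conj_symU M u y t hM]
  have : M * symU u y * Mᵀ * M'ᵀ = M * symU u y := by
    rw [mul_assoc, ← transpose_mul, h, transpose_one, mul_one]
  simp [this]

theorem radSp_not_mem_center (u y : n → F) (hy : symU u y ≠ 0) :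
    radSp u y ∉ Subgroup.center (Matrix.symplecticGroup n F) := by
  intro h
  have h1 := Subgroup.mem_center_iff.mp h ⟨J n F, SymplecticGroup.J_mem n F⟩
  have h2 := congrArg Subtype.val h1
  have h3 : J n F * fromBlocks 1 (symU u y) 0 1 = fromBlocks 1 (symU u y) 0 1 * J n F := h2
  rw [J, fromBlocks_multiply, fromBlocks_multiply] at h3
  have h4 := (fromBlocks_inj.mp h3).1
  apply hy
  simpa using h4.symm

theorem one_add_vmv_mulVec (v x y : n → F) :
    (1 + vecMulVec v x) *ᵥ y = y + (x ⬝ᵥ y) • v := by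
  rw [add_mulVec, one_mulVec, vecMulVec_mulVec, op_smul_eq_smul]

/-- unipotent Levi elements move the weights. -/
theorem sp_weight_shift (u x c y : n → F) (hx : x ⬝ᵥ u = 0) :
    (c - (c ⬝ᵥ u) • x) ⬝ᵥ ((1 : F) • ((1 + vecMulVec u x) *ᵥ y)) = c ⬝ᵥ y := by
  rw [one_smul, one_add_vmv_mulVec, sub_dotProduct, dotProduct_add, dotProduct_add,
    smul_dotProduct, smul_dotProduct, dotProduct_smul, dotProduct_smul, hx]
  simp only [smul_eq_mul]
  ring

/-- torus elements move the weights. -/
theorem sp_weight_scale (u c y : n → F) (hu : u ⬝ᵥ u = 1) (t : F) (ht : t ≠ 0) :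
    (t⁻¹ • c - ((t - 1) * t⁻¹ ^ 2 * (c ⬝ᵥ u)) • u)
      ⬝ᵥ (t • ((1 + vecMulVec ((t - 1) • u) u) *ᵥ y)) = c ⬝ᵥ y := by
  rw [one_add_vmv_mulVec, sub_dotProduct, dotProduct_smul, dotProduct_smul, dotProduct_add,
    dotProduct_add, smul_dotProduct, smul_dotProduct, dotProduct_smul, dotProduct_smul,
    dotProduct_smul, dotProduct_smul, smul_dotProduct, smul_dotProduct, hu]
  simp only [smul_eq_mul]
  field_simp
  ring

end

theorem symU_single_injective {F : Type*} [Field F] (h2 : (2 : F) ≠ 0) (m : ℕ) :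
    Function.Injective (symU (Pi.single 0 1 : Fin (m + 1) → F)) := by
  intro y y' h
  ext j
  by_cases hj : j = 0
  · subst hj
    have := congrFun (congrFun h 0) 0
    simp only [symU, Matrix.add_apply, vecMulVec_apply, Pi.single_eq_same, one_mul, mul_one] at this
    have h3 : 2 * (y 0 - y' 0) = 0 := by linear_combination this
    exact sub_eq_zero.mp ((mul_eq_zero.mp h3).resolve_left h2)
  · have := congrFun (congrFun h 0) j
    simpa [symU, vecMulVec_apply, Pi.single_eq_of_ne hj] using this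

theorem card_sq_image {F : Type*} [Field F] [Fintype F] [DecidableEq F] (γ : F) (hγ : γ ≠ 0) :
    Fintype.card F - 1 ≤ 2 * ((Finset.univ : Finset Fˣ).image fun s : Fˣ => γ * (s : F) ^ 2).card := by
  rw [← Fintype.card_units F, ← Finset.card_univ]
  apply Finset.card_le_mul_card_image
  intro b hb
  obtain ⟨s, -, rfl⟩ := Finset.mem_image.mp hb
  have : (Finset.univ.filter fun a : Fˣ => γ * (a : F) ^ 2 = γ * (s : F) ^ 2) ⊆ {s, -s} := by
    intro a ha
    have h1 := (Finset.mem_filter.mp ha).2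
    have h2 : (a : F) ^ 2 = (s : F) ^ 2 := mul_left_cancel₀ hγ h1
    rcases sq_eq_sq_iff_eq_or_eq_neg.mp h2 with h3 | h3
    · rw [Finset.mem_insert]; left; exact Units.ext h3
    · rw [Finset.mem_insert, Finset.mem_singleton]; right; exact Units.ext (by simpa using h3)
  exact (Finset.card_le_card this).trans Finset.card_le_two

/-- Landazuri–Seitz type bound for `Sp_{2(m+1)}(q)`, `q` odd. -/
theorem sp_cross_char_bound {F : Type*} [Field F] [Fintype F] (hodd : Odd (Fintype.card F)) (m : ℕ)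
    {K : Type*} [Field K] (hK : ringChar K ≠ ringChar F) {d : ℕ}
    (ρ : Matrix.symplecticGroup (Fin (m + 1)) F →* GL (Fin d) K)
    (hker : ρ.ker ≤ Subgroup.center (Matrix.symplecticGroup (Fin (m + 1)) F)) :
    Fintype.card F ^ m * (Fintype.card F - 1) / 2 ≤ d := by
  classical
  have h2 : (2 : F) ≠ 0 := by
    intro h
    have hc : ringChar F ∣ 2 := (ringChar.spec F 2).mp (by exact_mod_cast h)
    have hp : (ringChar F).Prime := CharP.char_is_prime F _
    have h22 : ringChar F = 2 := (Nat.prime_dvd_prime_iff_eq hp Nat.prime_two).mp hc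
    obtain ⟨k, -, hk⟩ := FiniteField.card F (ringChar F)
    rw [hk, h22] at hodd
    exact (Nat.not_even_iff_odd.mpr hodd) ((Nat.even_pow.mpr ⟨even_two, k.ne_zero⟩))
  set u : Fin (m + 1) → F := Pi.single 0 1 with hu
  have huu : u ⬝ᵥ u = 1 := by rw [hu, dotProduct_single, Pi.single_eq_same, one_mul]
  have hinj : Function.Injective (radSp u) := by
    intro y y' h
    apply symU_single_injective h2 m
    have h1 : fromBlocks 1 (symU u y) 0 1 = fromBlocks 1 (symU u y') 0 1 := congrArg Subtype.val h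
    exact (fromBlocks_inj.mp h1).2.1
  obtain ⟨W, hWd, hWconj, hWtriv⟩ := exists_weights (radSp u) hK ρ (radSp_add u) hinj
  obtain ⟨c₀, hc₀W, hc₀⟩ : ∃ c ∈ W, c ⬝ᵥ u ≠ 0 := by
    by_contra hcon
    push Not at hcon
    have hy : symU u u ≠ 0 := by
      intro h
      have h0 : symU u u = symU u 0 := by rw [h]; simp [symU]
      have := congrFun (symU_single_injective h2 m h0) 0
      simp [hu] at this
    apply radSp_not_mem_center u u hy
    apply hker
    rw [MonoidHom.mem_ker]
    exact hWtriv u hcon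
  -- shifting
  have hshift : ∀ c ∈ W, ∀ c' : Fin (m + 1) → F, c ⬝ᵥ u ≠ 0 → c' ⬝ᵥ u = c ⬝ᵥ u → c' ∈ W := by
    intro c hc c' hcu hcc
    set x : Fin (m + 1) → F := (c ⬝ᵥ u)⁻¹ • (c - c') with hx
    have hxu : x ⬝ᵥ u = 0 := by rw [hx, smul_dotProduct, sub_dotProduct, hcc, sub_self, smul_zero]
    have hc' : c' = c - (c ⬝ᵥ u) • x := by
      rw [hx, smul_smul, mul_inv_cancel₀ hcu, one_smul]; abel
    have hMM : (1 + vecMulVec u (-x)) * (1 + vecMulVec u x) = 1 := by
      rw [one_add_vmv_mul, neg_dotProduct, hxu, neg_zero, zero_smul, vecMulVec_neg]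
      abel
    have hMu : (1 + vecMulVec u x) *ᵥ u = (1 : F) • u := by
      rw [one_add_vmv_mulVec, hxu, zero_smul, add_zero, one_smul]
    rw [hc']
    refine hWconj (leviSp _ _ hMM) (fun y => (1 : F) • ((1 + vecMulVec u x) *ᵥ y)) c _ ?_ ?_ hc
    · intro y
      exact leviSp_mul_radSp _ _ hMM u y 1 hMu
    · intro y
      exact sp_weight_shift u x c y hxu
  have hscale : ∀ t : F, t ≠ 0 → ∃ c ∈ W, c ⬝ᵥ u = t⁻¹ ^ 2 * (c₀ ⬝ᵥ u) := by
    intro t ht
    have hMM : (1 + vecMulVec ((t⁻¹ - 1) • u) u) * (1 + vecMulVec ((t - 1) • u) u) = 1 := by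
      rw [one_add_vmv_mul, dotProduct_smul, huu, smul_vecMulVec, smul_vecMulVec, smul_smul,
        add_assoc, add_assoc, ← add_smul, ← add_smul]
      have : t⁻¹ - 1 + (t - 1 + (t - 1) • (1 : F) * (t⁻¹ - 1)) = 0 := by
        simp only [smul_eq_mul]
        field_simp
        ring
      rw [this, zero_smul, add_zero]
    have hMu : (1 + vecMulVec ((t - 1) • u) u) *ᵥ u = t • u := by
      rw [one_add_vmv_mulVec, huu, one_smul, sub_smul, one_smul]; abel
    refine ⟨t⁻¹ • c₀ - ((t - 1) * t⁻¹ ^ 2 * (c₀ ⬝ᵥ u)) • u, ?_, ?_⟩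
    · refine hWconj (leviSp _ _ hMM) (fun y => t • ((1 + vecMulVec ((t - 1) • u) u) *ᵥ y)) c₀ _
        ?_ ?_ hc₀W
      · intro y
        exact leviSp_mul_radSp _ _ hMM u y t hMu
      · intro y
        exact sp_weight_scale u c₀ y huu t ht
    · rw [sub_dotProduct, smul_dotProduct, smul_dotProduct, huu]
      simp only [smul_eq_mul]
      field_simp
      ring
  set γ := c₀ ⬝ᵥ u with hγ
  set Sq : Finset F := (Finset.univ : Finset Fˣ).image fun s : Fˣ => γ * (s : F) ^ 2 with hSq
  have hsub : ((Sq ×ˢ (Finset.univ : Finset (Fin m → F))).image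
      fun p => (vecCons p.1 p.2 : Fin (m + 1) → F)) ⊆ W := by
    intro c hc
    obtain ⟨⟨z, w⟩, hzw, rfl⟩ := Finset.mem_image.mp hc
    obtain ⟨s, -, hs⟩ := Finset.mem_image.mp (Finset.mem_product.mp hzw).1
    simp only at hs
    obtain ⟨c₁, hc₁W, hc₁⟩ := hscale (s⁻¹ : Fˣ) (Units.ne_zero _)
    have hc₁' : c₁ ⬝ᵥ u = z := by
      rw [hc₁, ← hs]
      simp only [Units.val_inv_eq_inv_val, inv_inv]
      ring
    have hz : z ≠ 0 := by
      rw [← hs]
      exact mul_ne_zero hc₀ (pow_ne_zero _ (Units.ne_zero _))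
    refine hshift c₁ hc₁W _ (by rw [hc₁']; exact hz) ?_
    rw [hc₁', hu, dotProduct_single]
    simp
  have hcard := Finset.card_le_card hsub
  rw [Finset.card_image_of_injective, Finset.card_product, Finset.card_univ, Fintype.card_fun,
    Fintype.card_fin] at hcard
  · have h3 := card_sq_image γ hc₀
    apply Nat.div_le_of_le_mul
    calc Fintype.card F ^ m * (Fintype.card F - 1) ≤ Fintype.card F ^ m * (2 * Sq.card) :=
          Nat.mul_le_mul_left _ h3
      _ = 2 * (Sq.card * Fintype.card F ^ m) := by ring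
      _ ≤ 2 * d := Nat.mul_le_mul_left _ (hcard.trans hWd)
  · intro p p' h
    have h0 := congrFun h 0
    have h1 : p.2 = p'.2 := by
      ext i
      simpa using congrFun h i.succ
    exact Prod.ext (by simpa using h0) h1

end Cfsg.Agent.Lib.Helper44
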