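import Mathlib

set_option autoImplicit false

namespace Cfsg.Agent.Lib.Helper44

open Polynomial Matrix

variable {F : Type*} [Field F] {n : Type*} [Fintype n] [DecidableEq n]

/-- All entries have degree at most `D`. -/
def DegLE (M : Matrix n n F[X]) (D : ℕ) : Prop := ∀ i j, (M i j).natDegree ≤ D

/-- The matrix of coefficients of `X ^ D`. -/
def topC (M : Matrix n n F[X]) (D : ℕ) : Matrix n n F := Matrix.of fun i j => (M i j).coeff D

omit [DecidableEq n] in
theorem DegLE.mul {A B : Matrix n n F[X]} {a b : ℕ} (hA : DegLE A a) (hB : DegLE B b) : DegLE (A * B) (a + b) := by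
  intro i j
  rw [Matrix.mul_apply]
  apply natDegree_sum_le_of_forall_le
  intro k _
  exact natDegree_mul_le_of_le (hA i k) (hB k j)

omit [DecidableEq n] in
theorem topC_mul {A B : Matrix n n F[X]} {a b : ℕ} (hA : DegLE A a) (hB : DegLE B b) :
    topC (A * B) (a + b) = topC A a * topC B b := by
  ext i j
  simp only [topC, Matrix.of_apply, Matrix.mul_apply, finsetSum_coeff]
  apply Finset.sum_congr rfl
  intro k _
  exact coeff_mul_add_eq_of_natDegree_le (hA i k) (hB k j)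

omit [Fintype n] in
theorem degLE_one : DegLE (1 : Matrix n n F[X]) 0 := by
  intro i j
  by_cases h : i = j
  · subst h; simp
  · simp [Matrix.one_apply_ne h]

omit [Fintype n] in
theorem topC_one : topC (1 : Matrix n n F[X]) 0 = 1 := by
  ext i j
  by_cases h : i = j
  · subst h; simp [topC]
  · simp [topC, Matrix.one_apply_ne h]

theorem degLE_topC_list_prod {Λ : Type*} (𝒜 : Λ → Matrix n n F[X]) (D : ℕ) (hdeg : ∀ ℓ, DegLE (𝒜 ℓ) D) (L : List Λ) :
    DegLE (L.map 𝒜).prod (D * L.length) ∧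
      topC (L.map 𝒜).prod (D * L.length) = (L.map (fun ℓ => topC (𝒜 ℓ) D)).prod := by
  induction L with
  | nil => exact ⟨by simpa using degLE_one, by simpa using topC_one⟩
  | cons a L ih =>
    have e : D * (a :: L).length = D + D * L.length := by
      rw [List.length_cons]; ring
    rw [e, List.map_cons, List.prod_cons, List.map_cons, List.prod_cons]
    exact ⟨(hdeg a).mul ih.1, by rw [topC_mul (hdeg a) ih.1, ih.2]⟩

omit [DecidableEq n] in
theorem prod_vecMulVec_chain [DecidableEq n] {Λ : Type*} (v φ : Λ → n → F) (L : List Λ) :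
    ∀ ℓ : Λ, (ℓ :: L).IsChain (fun a b => φ a ⬝ᵥ v b ≠ 0) →
      ∃ (c : F) (ℓ' : Λ), c ≠ 0 ∧ ((ℓ :: L).map (fun a => vecMulVec (v a) (φ a))).prod = c • vecMulVec (v ℓ) (φ ℓ') := by
  induction L with
  | nil =>
    intro ℓ _
    exact ⟨1, ℓ, one_ne_zero, by simp⟩
  | cons ℓ₂ L ih =>
    intro ℓ h
    rw [List.isChain_cons_cons] at h
    obtain ⟨c, ℓ', hc, hp⟩ := ih ℓ₂ h.2
    refine ⟨c * (φ ℓ ⬝ᵥ v ℓ₂), ℓ', mul_ne_zero hc h.1, ?_⟩
    rw [List.map_cons, List.prod_cons, hp, Matrix.mul_smul, vecMulVec_mul_vecMulVec, vecMulVec_smul, smul_smul]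

theorem list_prod_smul {Λ : Type*} (s : Λ → F) (A : Λ → Matrix n n F) (L : List Λ) :
    ∃ c : F, (L.map (fun ℓ => s ℓ • A ℓ)).prod = c • (L.map A).prod := by
  induction L with
  | nil => exact ⟨1, by simp⟩
  | cons a L ih =>
    obtain ⟨c, hc⟩ := ih
    refine ⟨s a * c, ?_⟩
    rw [List.map_cons, List.prod_cons, hc, List.map_cons, List.prod_cons, smul_mul_smul_comm]

/-- A product of "generic" letters whose leading coefficients are rank one matrices in general position
is not a scalar matrix for a suitable value of the parameter. -/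
theorem exists_nonscalar_word [Fintype F] (i₀ j₀ : n) (hij : i₀ ≠ j₀) {Λ : Type*} (𝒜 : Λ → Matrix n n F[X])
    (D : ℕ) (hdeg : ∀ ℓ, DegLE (𝒜 ℓ) D) (v φ : Λ → n → F)
    (htop : ∀ ℓ, topC (𝒜 ℓ) D = vecMulVec (v ℓ) (φ ℓ)) (hv : ∀ ℓ, v ℓ ≠ 0) (hφ : ∀ ℓ, φ ℓ ≠ 0)
    (A : Λ → F → Matrix n n F) (s : Λ → F → F)
    (hev : ∀ ℓ (k : F), k ≠ 0 → (evalRingHom k).mapMatrix (𝒜 ℓ) = s ℓ k • A ℓ k)
    (L : List Λ) (hL : L ≠ []) (hchain : L.IsChain (fun a b => φ a ⬝ᵥ v b ≠ 0))
    (hq : D * L.length < Fintype.card F - 1) :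
    ∃ k : Fˣ, ∀ c : F, (L.map (fun ℓ => A ℓ k)).prod ≠ c • (1 : Matrix n n F) := by
  classical
  by_contra hcon
  push Not at hcon
  obtain ⟨hW, hT⟩ := degLE_topC_list_prod 𝒜 D hdeg L
  set W := (L.map 𝒜).prod with hWdef
  have hscal : ∀ k : Fˣ, ∃ c : F, (evalRingHom (k : F)).mapMatrix W = c • (1 : Matrix n n F) := by
    intro k
    rw [hWdef, map_list_prod, List.map_map]
    have e : (L.map ((evalRingHom (k : F)).mapMatrix ∘ 𝒜)) = L.map (fun ℓ => s ℓ k • A ℓ k) := by
      apply List.map_congr_left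
      intro ℓ _
      exact hev ℓ k k.ne_zero
    rw [e]
    obtain ⟨c, hc⟩ := list_prod_smul (fun ℓ => s ℓ k) (fun ℓ => A ℓ k) L
    obtain ⟨c', hc'⟩ := hcon k
    exact ⟨c * c', by rw [hc, hc', smul_smul]⟩
  have hcard : Fintype.card Fˣ = Fintype.card F - 1 := Fintype.card_units F
  have hoff : ∀ i j, i ≠ j → W i j = 0 := by
    intro i j hne
    apply eq_zero_of_natDegree_lt_card_of_eval_eq_zero (W i j) (f := fun k : Fˣ => (k : F)) Units.val_injective
    · intro k
      obtain ⟨c, hc⟩ := hscal k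
      have := congrFun (congrFun hc i) j
      simpa [Matrix.one_apply_ne hne] using this
    · rw [hcard]; exact lt_of_le_of_lt (hW i j) hq
  have hdiag : ∀ i j, W i i - W j j = 0 := by
    intro i j
    apply eq_zero_of_natDegree_lt_card_of_eval_eq_zero (W i i - W j j) (f := fun k : Fˣ => (k : F)) Units.val_injective
    · intro k
      obtain ⟨c, hc⟩ := hscal k
      have h1 := congrFun (congrFun hc i) i
      have h2 := congrFun (congrFun hc j) j
      simp only [RingHom.mapMatrix_apply, Matrix.map_apply, coe_evalRingHom, Matrix.smul_apply, Matrix.one_apply_eq,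
        smul_eq_mul, mul_one] at h1 h2
      rw [eval_sub, h1, h2, sub_self]
    · rw [hcard]
      exact lt_of_le_of_lt ((natDegree_sub_le _ _).trans (max_le (hW i i) (hW j j))) hq
  obtain ⟨ℓ, L', rfl⟩ := List.exists_cons_of_ne_nil hL
  obtain ⟨c, ℓ', hc, hp⟩ := prod_vecMulVec_chain v φ L' ℓ hchain
  have hT' : topC W (D * (ℓ :: L').length) = c • vecMulVec (v ℓ) (φ ℓ') := by
    rw [hT, ← hp]
    congr 1
    apply List.map_congr_left
    intro a _
    exact htop a
  have hent : ∀ i j, (W i j).coeff (D * (ℓ :: L').length) = c * (v ℓ i * φ ℓ' j) := by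
    intro i j
    have := congrFun (congrFun hT' i) j
    simpa [topC, vecMulVec_apply] using this
  obtain ⟨i, hi⟩ : ∃ i, v ℓ i ≠ 0 := by
    by_contra h
    push Not at h
    exact hv ℓ (funext h)
  obtain ⟨j, hj⟩ : ∃ j, φ ℓ' j ≠ 0 := by
    by_contra h
    push Not at h
    exact hφ ℓ' (funext h)
  have hne : c * (v ℓ i * φ ℓ' j) ≠ 0 := mul_ne_zero hc (mul_ne_zero hi hj)
  have hii : ∀ a b, c * (v ℓ a * φ ℓ' a) = c * (v ℓ b * φ ℓ' b) := by
    intro a b
    rw [← hent, ← hent, sub_eq_zero.mp (hdiag a b)]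
  have hoff' : ∀ a b, a ≠ b → c * (v ℓ a * φ ℓ' b) = 0 := by
    intro a b hab
    rw [← hent, hoff a b hab, coeff_zero]
  by_cases hijeq : i = j
  · subst hijeq
    -- the diagonal entries are all equal and non-zero
    have h1 := hii i i₀
    have h2 := hii i j₀
    have h3 := hoff' i₀ j₀ hij
    have h4 := hoff' j₀ i₀ hij.symm
    have h5 : (c * (v ℓ i₀ * φ ℓ' i₀)) * (c * (v ℓ j₀ * φ ℓ' j₀)) =
        (c * (v ℓ i₀ * φ ℓ' j₀)) * (c * (v ℓ j₀ * φ ℓ' i₀)) := by ring
    rw [h3, zero_mul, ← h1, ← h2] at h5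
    exact hne (mul_self_eq_zero.mp h5)
  · exact hne (hoff' i j hijeq)

end Cfsg.Agent.Lib.Helper44
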