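import Cfsg.Agent.Lib.Helper44.WordLaw

set_option autoImplicit false

namespace Cfsg.Agent.Lib.Helper44

open Polynomial Matrix

variable {F : Type*} [Field F] {n : Type*} [Fintype n] [DecidableEq n]

omit [Fintype n] [DecidableEq n] in
theorem degLE_map_C (g : Matrix n n F) : DegLE (g.map C) 0 := by
  intro i j
  simp

omit [Fintype n] [DecidableEq n] in
theorem topC_map_C (g : Matrix n n F) : topC (g.map C) 0 = g := by
  ext i j
  simp [topC]

/-- Words in conjugates of a one-parameter torus: if the conjugating elements are in general position, a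
reduced word is not scalar for a suitable value of the parameter. -/
theorem exists_nonscalar_conj_torus [Fintype F] (r : Bool → n) (hr : r true ≠ r false)
    (𝒟 : Bool → Matrix n n F[X]) (D : ℕ) (hdeg : ∀ b, DegLE (𝒟 b) D)
    (htop : ∀ b, topC (𝒟 b) D = Matrix.single (r b) (r b) 1)
    (Dk : Bool → F → Matrix n n F) (s : Bool → F → F)
    (hev : ∀ b (k : F), k ≠ 0 → (evalRingHom k).mapMatrix (𝒟 b) = s b k • Dk b k)
    {ι : Type*} (g ginv : ι → Matrix n n F) (hg : ∀ i, ginv i * g i = 1)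
    (L : List (ι × Bool)) (hL : L ≠ []) (hred : FreeGroup.IsReduced L)
    (hgen : ∀ a ∈ L, ∀ b ∈ L, a.1 ≠ b.1 → (ginv a.1 * g b.1) (r a.2) (r b.2) ≠ 0)
    (hq : D * L.length < Fintype.card F - 1) :
    ∃ k : Fˣ, ∀ c : F, (L.map (fun ℓ => g ℓ.1 * Dk ℓ.2 k * ginv ℓ.1)).prod ≠ c • (1 : Matrix n n F) := by
  have hpair : ∀ a b : ι × Bool, (fun j => ginv a.1 (r a.2) j) ⬝ᵥ (fun i => g b.1 i (r b.2)) =
      (ginv a.1 * g b.1) (r a.2) (r b.2) := by
    intro a b
    rw [Matrix.mul_apply]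
    rfl
  apply exists_nonscalar_word (r true) (r false) hr
    (fun ℓ : ι × Bool => (g ℓ.1).map C * 𝒟 ℓ.2 * (ginv ℓ.1).map C) D ?_
    (fun ℓ i => g ℓ.1 i (r ℓ.2)) (fun ℓ j => ginv ℓ.1 (r ℓ.2) j) ?_ ?_ ?_
    (fun ℓ k => g ℓ.1 * Dk ℓ.2 k * ginv ℓ.1) (fun ℓ k => s ℓ.2 k) ?_ L hL ?_ hq
  · intro ℓ
    have := ((degLE_map_C (g ℓ.1)).mul (hdeg ℓ.2)).mul (degLE_map_C (ginv ℓ.1))
    simpa using this
  · intro ℓ
    have h1 := topC_mul ((degLE_map_C (g ℓ.1)).mul (hdeg ℓ.2)) (degLE_map_C (ginv ℓ.1))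
    have h2 := topC_mul (degLE_map_C (g ℓ.1)) (hdeg ℓ.2)
    simp only [zero_add, add_zero] at h1 h2
    rw [h1, h2, topC_map_C, topC_map_C, htop]
    ext i j
    simp only [Matrix.mul_apply, vecMulVec_apply, Matrix.single_apply]
    rw [Finset.sum_eq_single (r ℓ.2)]
    · congr 1
      rw [Finset.sum_eq_single (r ℓ.2)]
      · simp
      · intro b _ hb
        rw [if_neg (fun h => hb h.1.symm), mul_zero]
      · intro h; exact absurd (Finset.mem_univ _) h
    · intro b _ hb
      rw [Finset.sum_eq_zero, zero_mul]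
      intro x _
      rw [if_neg (fun h => hb h.2.symm), mul_zero]
    · intro h; exact absurd (Finset.mem_univ _) h
  · intro ℓ h0
    have h1 := hpair ℓ ℓ
    rw [hg, Matrix.one_apply_eq, h0] at h1
    simp at h1
  · intro ℓ h0
    have h1 := hpair ℓ ℓ
    rw [hg, Matrix.one_apply_eq, h0] at h1
    simp at h1
  · intro ℓ k hk
    rw [map_mul, map_mul, hev ℓ.2 k hk]
    have e : ∀ M : Matrix n n F, (evalRingHom k).mapMatrix (M.map C) = M := by
      intro M
      ext i j
      simp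
    rw [e, e, Matrix.mul_smul, Matrix.smul_mul]
  · apply List.IsChain.imp_of_mem_imp _ hred
    intro a b ha hb hab
    rw [hpair]
    by_cases h : a.1 = b.1
    · rw [h, hg, hab h, Matrix.one_apply_eq]
      exact one_ne_zero
    · exact hgen a ha b hb h

end Cfsg.Agent.Lib.Helper44
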